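import Mathlib
import Cfsg.Agent.Lead.Transfer
import Cfsg.Agent.S0991

set_option autoImplicit false

namespace Cfsg.Agent.Helper4.Simple168

variable {G : Type*} [Group G] [Finite G]

theorem fac7 : (168 : ℕ).factorization 7 = 1 := by
  have e : (168 : ℕ) = 7 * 24 := by norm_num
  rw [e, Nat.factorization_mul (by norm_num) (by norm_num), Finsupp.add_apply,
    Nat.Prime.factorization_self (by norm_num),
    Nat.factorization_eq_zero_of_not_dvd (by norm_num)]

theorem fac3 : (168 : ℕ).factorization 3 = 1 := by
  have e : (168 : ℕ) = 3 * 56 := by norm_num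
  rw [e, Nat.factorization_mul (by norm_num) (by norm_num), Finsupp.add_apply,
    Nat.Prime.factorization_self (by norm_num),
    Nat.factorization_eq_zero_of_not_dvd (by norm_num)]

theorem fac2 : (168 : ℕ).factorization 2 = 3 := by
  have e : (168 : ℕ) = 2 ^ 3 * 21 := by norm_num
  rw [e, Nat.factorization_mul (by norm_num) (by norm_num), Finsupp.add_apply,
    Nat.factorization_pow, Finsupp.smul_apply, Nat.Prime.factorization_self Nat.prime_two,
    Nat.factorization_eq_zero_of_not_dvd (by norm_num)]
  rfl

/-- a group with more than one Sylow `p`-subgroup is not commutative -/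
theorem not_comm_of_card_sylow {p : ℕ} [Fact p.Prime] (h : Nat.card (Sylow p G) ≠ 1) :
    ¬ IsMulCommutative G := by
  intro hc
  apply h
  obtain ⟨P⟩ : Nonempty (Sylow p G) := inferInstance
  have hn : (P : Subgroup G).Normal :=
    ⟨fun n hn g => by rw [hc.is_comm.comm g n, mul_inv_cancel_right]; exact hn⟩
  have := Sylow.unique_of_normal P hn
  exact Nat.card_unique

/-- the index of the normaliser of a Sylow subgroup is the number of Sylow subgroups -/
theorem index_normalizer {p : ℕ} [Fact p.Prime] (P : Sylow p G) :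
    (Subgroup.normalizer ((P : Subgroup G) : Set G)).index = Nat.card (Sylow p G) :=
  P.card_eq_index_normalizer.symm

section simple

variable [IsSimpleGroup G]

theorem card_sylow7 (h : Nat.card G = 168) (P : Sylow 7 G) : Nat.card P = 7 := by
  have : Fact (Nat.Prime 7) := ⟨by norm_num⟩
  rw [P.card_eq_multiplicity, h, fac7, pow_one]

theorem card_sylow3 (h : Nat.card G = 168) (P : Sylow 3 G) : Nat.card P = 3 := by
  have : Fact (Nat.Prime 3) := ⟨by norm_num⟩
  rw [P.card_eq_multiplicity, h, fac3, pow_one]

theorem card_sylow2 (h : Nat.card G = 168) (P : Sylow 2 G) : Nat.card P = 8 := by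
  have : Fact (Nat.Prime 2) := ⟨by norm_num⟩
  rw [P.card_eq_multiplicity, h, fac2]; norm_num

theorem n7 (h : Nat.card G = 168) : Nat.card (Sylow 7 G) = 8 := by
  have : Fact (Nat.Prime 7) := ⟨by norm_num⟩
  obtain ⟨P⟩ : Nonempty (Sylow 7 G) := inferInstance
  have hP := card_sylow7 h P
  have hidx : (P : Subgroup G).index = 24 := by
    have h1 := (P : Subgroup G).card_mul_index
    have h2 : Nat.card (P : Subgroup G) = 7 := hP
    rw [h, h2] at h1
    omega
  have hn1 : Nat.card (Sylow 7 G) ∣ 24 := hidx ▸ P.card_dvd_index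
  have hn2 : Nat.card (Sylow 7 G) ≡ 1 [MOD 7] := card_sylow_modEq_one 7 G
  have hn3 : Nat.card (Sylow 7 G) ≠ 1 :=
    Lead.simple_card_sylow_ne_one P (by rw [hP]; norm_num) (by rw [hP, h]; norm_num)
  have hle : Nat.card (Sylow 7 G) ≤ 24 := Nat.le_of_dvd (by norm_num) hn1
  generalize Nat.card (Sylow 7 G) = n at *
  unfold Nat.ModEq at hn2
  interval_cases n <;> omega

theorem not_comm (h : Nat.card G = 168) : ¬ IsMulCommutative G := by
  have : Fact (Nat.Prime 7) := ⟨by norm_num⟩
  apply not_comm_of_card_sylow (p := 7)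
  rw [n7 h]; norm_num

/-- every proper subgroup has index at least 7 -/
theorem index_ge (h : Nat.card G = 168) (H : Subgroup G) (hH : H ≠ ⊤) : 7 ≤ H.index := by
  obtain ⟨f, hf⟩ := Cfsg.Agent.S0991.result (not_comm h) H hH
  have h1 : Nat.card G ∣ Nat.card (alternatingGroup (Fin H.index)) :=
    Subgroup.card_dvd_of_injective f hf
  have h2 : Nat.card (alternatingGroup (Fin H.index)) ∣ Nat.card (Equiv.Perm (Fin H.index)) :=
    Subgroup.card_subgroup_dvd_card _
  have h3 : Nat.card (Equiv.Perm (Fin H.index)) = (H.index).factorial := by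
    rw [Nat.card_eq_fintype_card, Fintype.card_perm, Fintype.card_fin]
  rw [h3] at h2
  rw [h] at h1
  have h4 : 7 ∣ (H.index).factorial := dvd_trans (by norm_num) (dvd_trans h1 h2)
  exact (Nat.Prime.dvd_factorial (by norm_num)).mp h4

theorem card_normalizer7 (h : Nat.card G = 168) (P : Sylow 7 G) :
    Nat.card (Subgroup.normalizer ((P : Subgroup G) : Set G)) = 21 := by
  have : Fact (Nat.Prime 7) := ⟨by norm_num⟩
  have h2 := Lead.card_normalizer_mul_card_sylow P
  rw [n7 h, h] at h2
  omega

theorem n3 (h : Nat.card G = 168) : Nat.card (Sylow 3 G) = 28 := by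
  have : Fact (Nat.Prime 3) := ⟨by norm_num⟩
  have : Fact (Nat.Prime 7) := ⟨by norm_num⟩
  obtain ⟨P⟩ : Nonempty (Sylow 3 G) := inferInstance
  have hP := card_sylow3 h P
  have hidx : (P : Subgroup G).index = 56 := by
    have h1 := (P : Subgroup G).card_mul_index
    have h2 : Nat.card (P : Subgroup G) = 3 := hP
    rw [h, h2] at h1
    omega
  have hn1 : Nat.card (Sylow 3 G) ∣ 56 := hidx ▸ P.card_dvd_index
  have hn2 : Nat.card (Sylow 3 G) ≡ 1 [MOD 3] := card_sylow_modEq_one 3 G
  have hn3 : Nat.card (Sylow 3 G) ≠ 1 :=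
    Lead.simple_card_sylow_ne_one P (by rw [hP]; norm_num) (by rw [hP, h]; norm_num)
  have hn4 : Nat.card (Sylow 3 G) ≠ 4 := by
    intro h4
    have hN : Subgroup.normalizer ((P : Subgroup G) : Set G) ≠ ⊤ := by
      intro htop
      have := index_normalizer P
      rw [htop, Subgroup.index_top] at this
      omega
    have := index_ge h _ hN
    rw [index_normalizer P, h4] at this
    omega
  have hn7 : Nat.card (Sylow 3 G) ≠ 7 := by
    intro h7
    obtain ⟨P7⟩ : Nonempty (Sylow 7 G) := inferInstance
    have hN7 := card_normalizer7 h P7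
    have hP7 := card_sylow7 h P7
    -- an element of order 3 in the normaliser of P7
    obtain ⟨y, hy⟩ := exists_prime_orderOf_dvd_card' (G := Subgroup.normalizer ((P7 : Subgroup G) : Set G)) 3
      (by rw [hN7]; norm_num)
    have hy3 : orderOf (y : G) = 3 := by rw [Subgroup.orderOf_coe]; exact hy
    have hQcard : Nat.card (Subgroup.zpowers (y : G)) = 3 ^ (Nat.card G).factorization 3 := by
      rw [Nat.card_zpowers, hy3, h, fac3, pow_one]
    set Q : Sylow 3 G := Sylow.ofCard (Subgroup.zpowers (y : G)) hQcard with hQdef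
    have hQcoe : (Q : Subgroup G) = Subgroup.zpowers (y : G) := Sylow.coe_ofCard _ _
    have hQN : (Q : Subgroup G) ≤ Subgroup.normalizer ((P7 : Subgroup G) : Set G) := by
      rw [hQcoe, Subgroup.zpowers_le]; exact y.2
    -- the orbit of Q under P7
    have hidx : (MulAction.stabilizer (↥(P7 : Subgroup G)) Q).index ∣ 7 := by
      have := Subgroup.index_dvd_card (MulAction.stabilizer (↥(P7 : Subgroup G)) Q)
      rw [show Nat.card (↥(P7 : Subgroup G)) = 7 from hP7] at this
      exact this
    have hall : ∀ R : Sylow 3 G, (R : Subgroup G) ≤ Subgroup.normalizer ((P7 : Subgroup G) : Set G) := by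
      rcases (Nat.dvd_prime (by norm_num : Nat.Prime 7)).mp hidx with h1 | h1
      · exfalso
        rw [Subgroup.index_eq_one] at h1
        have hle : (P7 : Subgroup G) ≤ Subgroup.normalizer ((Q : Subgroup G) : Set G) := by
          intro x hx
          have hx' : (⟨x, hx⟩ : ↥(P7 : Subgroup G)) ∈ MulAction.stabilizer (↥(P7 : Subgroup G)) Q := by
            rw [h1]; exact Subgroup.mem_top _
          rw [MulAction.mem_stabilizer_iff] at hx'
          have hx'' : x • Q = Q := hx'
          exact Sylow.smul_eq_iff_mem_normalizer.mp hx''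
        have hd := Subgroup.card_dvd_of_le hle
        have hNQ := Lead.card_normalizer_mul_card_sylow Q
        rw [h7, h] at hNQ
        have hNQ' : Nat.card (Subgroup.normalizer ((Q : Subgroup G) : Set G)) = 24 := by omega
        rw [hNQ', show Nat.card (↥(P7 : Subgroup G)) = 7 from hP7] at hd
        omega
      · rw [MulAction.index_stabilizer] at h1
        have huniv : MulAction.orbit (↥(P7 : Subgroup G)) Q = Set.univ := by
          apply Set.eq_of_subset_of_ncard_le (Set.subset_univ _) ?_ Set.finite_univ
          rw [Set.ncard_univ, h7, h1]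
        intro R
        have hR : R ∈ MulAction.orbit (↥(P7 : Subgroup G)) Q := by rw [huniv]; trivial
        obtain ⟨x, rfl⟩ := hR
        intro g hg
        have hg' : g ∈ ((x : G) • Q : Sylow 3 G) := hg
        rw [← SetLike.mem_coe, Sylow.coe_smul] at hg'
        obtain ⟨q, hq, rfl⟩ := hg'
        have hxN : (x : G) ∈ Subgroup.normalizer ((P7 : Subgroup G) : Set G) :=
          Subgroup.le_normalizer x.2
        show (x : G) * q * (x : G)⁻¹ ∈ _
        exact mul_mem (mul_mem hxN (hQN hq)) (inv_mem hxN)
    -- the normal closure of Q lies in the normaliser of P7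
    have hncl : Subgroup.normalClosure ((Q : Subgroup G) : Set G) ≤
        Subgroup.normalizer ((P7 : Subgroup G) : Set G) := by
      rw [Subgroup.normalClosure, Subgroup.closure_le]
      intro c hc
      rw [Group.mem_conjugatesOfSet_iff] at hc
      obtain ⟨q, hq, hqc⟩ := hc
      rw [isConj_iff] at hqc
      obtain ⟨g, rfl⟩ := hqc
      apply hall (g • Q)
      show g * q * g⁻¹ ∈ ((g • Q : Sylow 3 G) : Set G)
      rw [Sylow.coe_smul]
      exact ⟨q, hq, rfl⟩
    rcases IsSimpleGroup.eq_bot_or_eq_top_of_normal (Subgroup.normalClosure ((Q : Subgroup G) : Set G))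
      Subgroup.normalClosure_normal with hb | ht
    · have : (y : G) ∈ Subgroup.normalClosure ((Q : Subgroup G) : Set G) :=
        Subgroup.subset_normalClosure (by rw [SetLike.mem_coe, hQcoe]; exact Subgroup.mem_zpowers _)
      rw [hb, Subgroup.mem_bot] at this
      rw [this, orderOf_one] at hy3
      omega
    · rw [ht, top_le_iff] at hncl
      rw [hncl, Subgroup.card_top, h] at hN7
      omega
  have hle : Nat.card (Sylow 3 G) ≤ 56 := Nat.le_of_dvd (by norm_num) hn1
  generalize Nat.card (Sylow 3 G) = n at *
  unfold Nat.ModEq at hn2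
  interval_cases n <;> omega

theorem card_normalizer3 (h : Nat.card G = 168) (P : Sylow 3 G) :
    Nat.card (Subgroup.normalizer ((P : Subgroup G) : Set G)) = 6 := by
  have : Fact (Nat.Prime 3) := ⟨by norm_num⟩
  have h2 := Lead.card_normalizer_mul_card_sylow P
  rw [n3 h, h] at h2
  omega

/-- the centraliser of a Sylow 3-subgroup is the subgroup itself -/
theorem card_centralizer3 (h : Nat.card G = 168) (P : Sylow 3 G) :
    Nat.card (Subgroup.centralizer ((P : Subgroup G) : Set G)) = 3 := by
  have : Fact (Nat.Prime 3) := ⟨by norm_num⟩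
  have hP := card_sylow3 h P
  have hN := card_normalizer3 h P
  have hCN : Subgroup.centralizer ((P : Subgroup G) : Set G) ≤
      Subgroup.normalizer ((P : Subgroup G) : Set G) := Subgroup.centralizer_le_normalizer _
  have hPC : (P : Subgroup G) ≤ Subgroup.centralizer ((P : Subgroup G) : Set G) := by
    have hcyc : IsCyclic (P : Subgroup G) := isCyclic_of_prime_card hP
    intro x hx
    rw [Subgroup.mem_centralizer_iff]
    intro g hg
    obtain ⟨c, hc⟩ := hcyc.exists_generator
    obtain ⟨i, hi⟩ := Subgroup.mem_zpowers_iff.mp (hc ⟨x, hx⟩)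
    obtain ⟨j, hj⟩ := Subgroup.mem_zpowers_iff.mp (hc ⟨g, hg⟩)
    have hi' : (c : G) ^ i = x := by
      have := congrArg Subtype.val hi
      simpa using this
    have hj' : (c : G) ^ j = g := by
      have := congrArg Subtype.val hj
      simpa using this
    rw [← hi', ← hj', ← zpow_add, ← zpow_add, add_comm]
  have hd1 : 3 ∣ Nat.card (Subgroup.centralizer ((P : Subgroup G) : Set G)) := by
    have := Subgroup.card_dvd_of_le hPC
    rwa [show Nat.card (P : Subgroup G) = 3 from hP] at this
  have hd2 : Nat.card (Subgroup.centralizer ((P : Subgroup G) : Set G)) ∣ 6 := by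
    have := Subgroup.card_dvd_of_le hCN
    rwa [hN] at this
  have hne : Nat.card (Subgroup.centralizer ((P : Subgroup G) : Set G)) ≠ 6 := by
    intro h6
    have hNC : Subgroup.normalizer ((P : Subgroup G) : Set G) ≤
        Subgroup.centralizer ((P : Subgroup G) : Set G) := by
      have := Subgroup.eq_of_le_of_card_ge hCN (by rw [h6, hN])
      rw [this]
    rcases Lead.simple_sylow_card P hNC with h1 | h1 <;> omega
  have hle : Nat.card (Subgroup.centralizer ((P : Subgroup G) : Set G)) ≤ 6 :=
    Nat.le_of_dvd (by norm_num) hd2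
  generalize Nat.card (Subgroup.centralizer ((P : Subgroup G) : Set G)) = n at *
  interval_cases n <;> omega

/-- an element of order 3 commutes with no nontrivial element of 2-power order -/
theorem not_commute_three (h : Nat.card G = 168) (y u : G) (hy : orderOf y = 3)
    (hu : 2 ∣ orderOf u) : y * u ≠ u * y := by
  have : Fact (Nat.Prime 3) := ⟨by norm_num⟩
  intro hcomm
  have hQcard : Nat.card (Subgroup.zpowers y) = 3 ^ (Nat.card G).factorization 3 := by
    rw [Nat.card_zpowers, hy, h, fac3, pow_one]
  set Q : Sylow 3 G := Sylow.ofCard (Subgroup.zpowers y) hQcard with hQdef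
  have hQcoe : (Q : Subgroup G) = Subgroup.zpowers y := Sylow.coe_ofCard _ _
  have huC : u ∈ Subgroup.centralizer ((Q : Subgroup G) : Set G) := by
    rw [Subgroup.mem_centralizer_iff]
    intro g hg
    rw [SetLike.mem_coe, hQcoe] at hg
    obtain ⟨i, rfl⟩ := Subgroup.mem_zpowers_iff.mp hg
    exact ((show Commute y u from hcomm).zpow_left i).eq
  have h1 : orderOf u ∣ Nat.card (Subgroup.centralizer ((Q : Subgroup G) : Set G)) := by
    have := orderOf_dvd_natCard (⟨u, huC⟩ : Subgroup.centralizer ((Q : Subgroup G) : Set G))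
    rwa [Subgroup.orderOf_mk] at this
  rw [card_centralizer3 h Q] at h1
  have : 2 ∣ 3 := dvd_trans hu h1
  omega

theorem n2 (h : Nat.card G = 168) : Nat.card (Sylow 2 G) = 21 := by
  have : Fact (Nat.Prime 2) := ⟨by norm_num⟩
  have : Fact (Nat.Prime 3) := ⟨by norm_num⟩
  obtain ⟨P⟩ : Nonempty (Sylow 2 G) := inferInstance
  have hP := card_sylow2 h P
  have hidx : (P : Subgroup G).index = 21 := by
    have h1 := (P : Subgroup G).card_mul_index
    have h2 : Nat.card (P : Subgroup G) = 8 := hP
    rw [h, h2] at h1
    omega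
  have hn1 : Nat.card (Sylow 2 G) ∣ 21 := hidx ▸ P.card_dvd_index
  have hn3 : Nat.card (Sylow 2 G) ≠ 1 :=
    Lead.simple_card_sylow_ne_one P (by rw [hP]; norm_num) (by rw [hP, h]; norm_num)
  have hN : Subgroup.normalizer ((P : Subgroup G) : Set G) ≠ ⊤ := by
    intro htop
    have := index_normalizer P
    rw [htop, Subgroup.index_top] at this
    exact hn3 this.symm
  have hn4 : Nat.card (Sylow 2 G) ≠ 3 := by
    intro h4
    have := index_ge h _ hN
    rw [index_normalizer P, h4] at this
    omega
  have hn7 : Nat.card (Sylow 2 G) ≠ 7 := by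
    intro h7
    have hNcard : Nat.card (Subgroup.normalizer ((P : Subgroup G) : Set G)) = 24 := by
      have h2 := Lead.card_normalizer_mul_card_sylow P
      rw [h7, h] at h2
      omega
    obtain ⟨y, hy⟩ := exists_prime_orderOf_dvd_card' (G := Subgroup.normalizer ((P : Subgroup G) : Set G)) 3
      (by rw [hNcard]; norm_num)
    have hy3 : orderOf (y : G) = 3 := by rw [Subgroup.orderOf_coe]; exact hy
    have hyP : ∀ u ∈ (P : Subgroup G), (y : G) * u * (y : G)⁻¹ ∈ (P : Subgroup G) := by
      intro u hu
      exact (Subgroup.mem_normalizer_iff.mp y.2 u).mp hu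
    have hypow : (y : G) ^ 3 = 1 := by rw [← hy3]; exact pow_orderOf_eq_one _
    classical
    have : Fintype (P : Subgroup G) := Fintype.ofFinite _
    let f : Function.End (P : Subgroup G) := fun u => ⟨(y : G) * u * (y : G)⁻¹, hyP u u.2⟩
    have hf : f ^ 3 ^ 1 = 1 := by
      rw [pow_one]
      funext u
      apply Subtype.ext
      show (y : G) * ((y : G) * ((y : G) * u * (y : G)⁻¹) * (y : G)⁻¹) * (y : G)⁻¹ = u
      have e : (y : G) * ((y : G) * ((y : G) * (u : G) * (y : G)⁻¹) * (y : G)⁻¹) * (y : G)⁻¹ =
          (y : G) ^ 3 * u * ((y : G) ^ 3)⁻¹ := by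
        simp only [pow_succ, pow_zero, one_mul, mul_inv_rev, mul_assoc]
      rw [e, hypow]; simp
    have hmod := Equiv.Perm.card_fixedPoints_modEq (p := 3) (n := 1) hf
    have hcard8 : Fintype.card (P : Subgroup G) = 8 := by
      rw [← Nat.card_eq_fintype_card]; exact hP
    rw [hcard8] at hmod
    -- a nontrivial fixed point
    have hex : ∃ u : (P : Subgroup G), u ≠ 1 ∧ f u = u := by
      by_contra hcon
      push Not at hcon
      have hsub : Subsingleton (Function.fixedPoints f) := by
        constructor
        intro a b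
        apply Subtype.ext
        have ha : (a : (P : Subgroup G)) = 1 := by
          by_contra hne
          exact hcon a hne a.2
        have hb : (b : (P : Subgroup G)) = 1 := by
          by_contra hne
          exact hcon b hne b.2
        rw [ha, hb]
      have hle : Fintype.card (Function.fixedPoints f) ≤ 1 := Fintype.card_le_one_iff_subsingleton.mpr hsub
      unfold Nat.ModEq at hmod
      have : Fintype.card (Function.fixedPoints f) = 0 ∨ Fintype.card (Function.fixedPoints f) = 1 := by omega
      rcases this with h0 | h0 <;> rw [h0] at hmod <;> omega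
    obtain ⟨u, hu1, hfu⟩ := hex
    have hfu' : (y : G) * u * (y : G)⁻¹ = u := congrArg Subtype.val hfu
    have hcomm : (y : G) * (u : G) = (u : G) * (y : G) := by
      calc (y : G) * (u : G) = ((y : G) * u * (y : G)⁻¹) * y := by group
        _ = u * y := by rw [hfu']
    have hord : orderOf (u : G) ∣ 8 := by
      have := orderOf_dvd_natCard u
      rw [hP] at this
      rwa [Subgroup.orderOf_coe]
    have hu1' : orderOf (u : G) ≠ 1 := by
      intro h1
      rw [orderOf_eq_one_iff] at h1
      exact hu1 (Subtype.ext h1)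
    have h2 : 2 ∣ orderOf (u : G) := by
      have hord' : orderOf (u : G) ∣ 2 ^ 3 := by
        rw [show (2 : ℕ) ^ 3 = 8 by norm_num]; exact hord
      obtain ⟨k, hk, hk2⟩ := (Nat.dvd_prime_pow Nat.prime_two).mp hord'
      rw [hk2]
      rcases Nat.eq_zero_or_pos k with h0 | h0
      · rw [h0, pow_zero] at hk2
        exact absurd hk2 hu1'
      · exact dvd_pow_self 2 (by omega)
    exact not_commute_three h (y : G) (u : G) hy3 h2 hcomm
  have hle : Nat.card (Sylow 2 G) ≤ 21 := Nat.le_of_dvd (by norm_num) hn1
  generalize Nat.card (Sylow 2 G) = n at *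
  interval_cases n <;> omega

end simple

end Cfsg.Agent.Helper4.Simple168
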