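import Mathlib
import Cfsg.Agent.Helper4.Simple168
import Cfsg.Agent.Helper9.Recog

set_option autoImplicit false

namespace Cfsg.Agent.Helper4.Simple168b

open Cfsg.Agent.Helper4.Simple168

/-- double counting: if every `x` is related to exactly one `y` and every `y` to exactly `k`
elements, then `|X| = |Y| * k` -/
theorem card_eq_mul_of_unique {X Y : Type*} [Finite X] [Finite Y] (R : X → Y → Prop) (k : ℕ)
    (h1 : ∀ x, ∃! y, R x y) (h2 : ∀ y, Nat.card {x // R x y} = k) :
    Nat.card X = Nat.card Y * k := by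
  classical
  have : Fintype Y := Fintype.ofFinite Y
  choose f hf hf' using h1
  have e : X ≃ Σ y, {x // f x = y} := (Equiv.sigmaFiberEquiv f).symm
  rw [Nat.card_congr e, Nat.card_sigma]
  have hk : ∀ y, Nat.card {x // f x = y} = k := by
    intro y
    rw [← h2 y]
    apply Nat.card_congr
    apply Equiv.subtypeEquivRight
    intro x
    constructor
    · rintro rfl; exact hf x
    · intro hx; exact (hf' x y hx).symm
  simp only [hk, Finset.sum_const, Finset.card_univ, smul_eq_mul]
  rw [Nat.card_eq_fintype_card]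

/-- the number of non-identity elements -/
theorem card_ne_one {H : Type*} [Group H] [Finite H] :
    Nat.card {g : H // g ≠ 1} + 1 = Nat.card H := by
  classical
  rw [← Finite.card_option]
  exact Nat.card_congr (Equiv.optionSubtypeNe 1)

section order8

variable {T : Type*} [Group T]

theorem mem_zpowers_four (a c : T) (ha : orderOf a = 4) (hc : c ∈ Subgroup.zpowers a) :
    c = 1 ∨ c = a ∨ c = a * a ∨ c = a⁻¹ := by
  obtain ⟨k, rfl⟩ := Subgroup.mem_zpowers_iff.mp hc
  have h4n : a ^ 4 = 1 := by rw [← ha]; exact pow_orderOf_eq_one a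
  have h4 : a ^ (4 : ℤ) = 1 := by
    have : a ^ ((4 : ℕ) : ℤ) = 1 := by rw [zpow_natCast]; exact h4n
    exact_mod_cast this
  have hk : a ^ k = a ^ (k % 4) := by
    conv_lhs => rw [← Int.emod_add_mul_ediv k 4]
    rw [zpow_add, zpow_mul, h4, one_zpow, mul_one]
  rw [hk]
  have h0 := Int.emod_nonneg k (by norm_num : (4 : ℤ) ≠ 0)
  have h1 := Int.emod_lt_of_pos k (by norm_num : (0 : ℤ) < 4)
  generalize k % 4 = j at *
  interval_cases j
  · left; simp
  · right; left; simp
  · right; right; left
    rw [show (2 : ℤ) = 1 + 1 by norm_num, zpow_add, zpow_one]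
  · right; right; right
    rw [eq_inv_iff_mul_eq_one]
    have : a ^ (3 : ℤ) * a = a ^ (4 : ℤ) := by
      rw [show (4 : ℤ) = 3 + 1 by norm_num, zpow_add, zpow_one]
    rw [this, h4]

theorem four_facts (a : T) (ha : orderOf a = 4) :
    a ≠ 1 ∧ a * a ≠ 1 ∧ a * a * (a * a) = 1 ∧ a⁻¹ ≠ a ∧ a⁻¹ * a⁻¹ = a * a := by
  have h4n : a ^ 4 = 1 := by rw [← ha]; exact pow_orderOf_eq_one a
  have h4 : a * a * (a * a) = 1 := by
    rw [← h4n]; simp only [pow_succ, pow_zero, one_mul, mul_assoc]
  have h2 : a * a ≠ 1 := by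
    intro h2
    have : orderOf a ∣ 2 := orderOf_dvd_of_pow_eq_one (by rw [pow_two]; exact h2)
    rw [ha] at this
    omega
  refine ⟨?_, h2, h4, ?_, ?_⟩
  · rintro rfl; simp at h2
  · intro h
    apply h2
    calc a * a = a⁻¹ * a := by rw [h]
      _ = 1 := by simp
  · calc a⁻¹ * a⁻¹ = a⁻¹ * a⁻¹ * (a * a * (a * a)) := by rw [h4, mul_one]
      _ = a * a := by simp only [mul_assoc, inv_mul_cancel_left]

theorem eq_top_of_mem [Finite T] (hc : Nat.card T = 8) (A K : Subgroup T)
    (hA : Nat.card A = 4) (hAK : A ≤ K) (b : T) (hbK : b ∈ K) (hbA : b ∉ A) : K = ⊤ := by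
  have hd1 : 4 ∣ Nat.card K := hA ▸ Subgroup.card_dvd_of_le hAK
  have hd2 : Nat.card K ∣ 8 := hc ▸ Subgroup.card_subgroup_dvd_card K
  have hne : Nat.card K ≠ 4 := by
    intro h4
    have := Subgroup.eq_of_le_of_card_ge hAK (by rw [h4, hA])
    rw [this] at hbA; exact hbA hbK
  apply Subgroup.eq_top_of_card_eq
  rw [hc]
  have hle : Nat.card K ≤ 8 := Nat.le_of_dvd (by norm_num) hd2
  generalize Nat.card K = n at *
  interval_cases n <;> omega

/-- structure of a non-commutative group of order 8 -/
theorem struct8 (hc : Nat.card T = 8) (hnc : ¬ IsMulCommutative T) :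
    ∃ a : T, orderOf a = 4 ∧ ∀ b, b ∉ Subgroup.zpowers a →
      (b * a * b⁻¹ = a⁻¹ ∧ (b * b = 1 ∨ b * b = a * a)) := by
  have : Finite T := Nat.finite_of_card_ne_zero (by rw [hc]; norm_num)
  have hord : ∀ g : T, orderOf g = 1 ∨ orderOf g = 2 ∨ orderOf g = 4 ∨ orderOf g = 8 := by
    intro g
    have hd : orderOf g ∣ 8 := hc ▸ orderOf_dvd_natCard g
    have hle : orderOf g ≤ 8 := Nat.le_of_dvd (by norm_num) hd
    have hpos : 0 < orderOf g := orderOf_pos g
    generalize orderOf g = n at *
    interval_cases n <;> omega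
  have h8 : ∀ g : T, orderOf g ≠ 8 := by
    intro g hg
    apply hnc
    have : IsCyclic T := isCyclic_of_orderOf_eq_card g (by rw [hg, hc])
    infer_instance
  have hex : ∃ a : T, orderOf a = 4 := by
    by_contra hcon
    push Not at hcon
    have hsq : ∀ g : T, g * g = 1 := by
      intro g
      have : orderOf g ∣ 2 := by
        rcases hord g with h1 | h1 | h1 | h1
        · rw [h1]; norm_num
        · rw [h1]
        · exact absurd h1 (hcon g)
        · exact absurd h1 (h8 g)
      have := orderOf_dvd_iff_pow_eq_one.mp this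
      rwa [pow_two] at this
    apply hnc
    refine ⟨⟨fun a b => ?_⟩⟩
    have e1 : a * ((a * b) * (a * b)) * b = (a * a) * (b * a) * (b * b) := by
      simp only [mul_assoc]
    rw [hsq (a * b), hsq a, hsq b] at e1
    simpa using e1
  obtain ⟨a, ha⟩ := hex
  obtain ⟨ha1, ha2, ha4, hainv, hainv2⟩ := four_facts a ha
  refine ⟨a, ha, ?_⟩
  have hA : Nat.card (Subgroup.zpowers a) = 4 := by rw [Nat.card_zpowers, ha]
  have hidx : (Subgroup.zpowers a).index = 2 := by
    have := (Subgroup.zpowers a).card_mul_index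
    rw [hA, hc] at this
    omega
  have hnorm : (Subgroup.zpowers a).Normal := Subgroup.normal_of_index_eq_two hidx
  -- a commuting element outside forces commutativity
  have hcomm : ∀ b, b ∉ Subgroup.zpowers a → b * a ≠ a * b := by
    intro b hb hba
    apply hnc
    have hCa : Subgroup.centralizer ({a} : Set T) = ⊤ := by
      apply eq_top_of_mem hc (Subgroup.zpowers a) _ hA _ b _ hb
      · rw [Subgroup.zpowers_le, Subgroup.mem_centralizer_singleton_iff]
      · rw [Subgroup.mem_centralizer_singleton_iff]; exact hba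
    have hCb : Subgroup.centralizer ({b} : Set T) = ⊤ := by
      apply eq_top_of_mem hc (Subgroup.zpowers a) _ hA _ b _ hb
      · rw [Subgroup.zpowers_le, Subgroup.mem_centralizer_singleton_iff]; exact hba.symm
      · rw [Subgroup.mem_centralizer_singleton_iff]
    have hZ : Subgroup.center T = ⊤ := by
      apply eq_top_of_mem hc (Subgroup.zpowers a) _ hA _ b _ hb
      · rw [Subgroup.zpowers_le, Subgroup.mem_center_iff]
        intro g
        have : g ∈ Subgroup.centralizer ({a} : Set T) := by rw [hCa]; trivial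
        exact Subgroup.mem_centralizer_singleton_iff.mp this
      · rw [Subgroup.mem_center_iff]
        intro g
        have : g ∈ Subgroup.centralizer ({b} : Set T) := by rw [hCb]; trivial
        exact Subgroup.mem_centralizer_singleton_iff.mp this
    refine ⟨⟨fun x y => ?_⟩⟩
    have : y ∈ Subgroup.center T := by rw [hZ]; trivial
    exact Subgroup.mem_center_iff.mp this x
  intro b hb
  have hconj : b * a * b⁻¹ = a⁻¹ := by
    have hmem : b * a * b⁻¹ ∈ Subgroup.zpowers a := hnorm.conj_mem a (Subgroup.mem_zpowers a) b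
    have hord4 : orderOf (b * a * b⁻¹) = 4 := by
      have := MulEquiv.orderOf_eq (MulAut.conj b) a
      rw [MulAut.conj_apply] at this
      rw [this, ha]
    rcases mem_zpowers_four a _ ha hmem with h1 | h1 | h1 | h1
    · rw [h1, orderOf_one] at hord4; omega
    · exfalso
      apply hcomm b hb
      calc b * a = (b * a * b⁻¹) * b := by group
        _ = a * b := by rw [h1]
    · exfalso
      have : orderOf (b * a * b⁻¹) ∣ 2 := by
        apply orderOf_dvd_of_pow_eq_one
        rw [h1, pow_two]; exact ha4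
      rw [hord4] at this
      omega
    · exact h1
  refine ⟨hconj, ?_⟩
  have hbb : b * b ∈ Subgroup.zpowers a := Subgroup.mul_self_mem_of_index_two hidx b
  have hcomm' : b * a⁻¹ ≠ a⁻¹ * b := by
    intro hba
    apply hcomm b hb
    calc b * a = a * (a⁻¹ * b) * a := by group
      _ = a * (b * a⁻¹) * a := by rw [hba]
      _ = a * b := by group
  rcases mem_zpowers_four a _ ha hbb with h1 | h1 | h1 | h1
  · left; exact h1
  · exfalso
    apply hcomm b hb
    rw [← h1]; simp only [mul_assoc]
  · right; exact h1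
  · exfalso
    apply hcomm'
    rw [← h1]; simp only [mul_assoc]

/-- consequences of the structure: squares, the centre, elements of order four -/
theorem struct8_sq (a : T) (ha : orderOf a = 4)
    (hs : ∀ b, b ∉ Subgroup.zpowers a → (b * a * b⁻¹ = a⁻¹ ∧ (b * b = 1 ∨ b * b = a * a)))
    (g : T) : g * g = 1 ∨ g * g = a * a := by
  obtain ⟨ha1, ha2, ha4, hainv, hainv2⟩ := four_facts a ha
  by_cases hg : g ∈ Subgroup.zpowers a
  · rcases mem_zpowers_four a _ ha hg with h1 | h1 | h1 | h1
    · left; rw [h1, one_mul]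
    · right; rw [h1]
    · left; rw [h1]; exact ha4
    · right; rw [h1]; exact hainv2
  · exact (hs g hg).2

theorem struct8_central (a : T) (ha : orderOf a = 4)
    (hs : ∀ b, b ∉ Subgroup.zpowers a → (b * a * b⁻¹ = a⁻¹ ∧ (b * b = 1 ∨ b * b = a * a)))
    (g : T) : g * (a * a) = (a * a) * g := by
  obtain ⟨ha1, ha2, ha4, hainv, hainv2⟩ := four_facts a ha
  by_cases hg : g ∈ Subgroup.zpowers a
  · obtain ⟨k, rfl⟩ := Subgroup.mem_zpowers_iff.mp hg
    have h1 : Commute (a ^ k) a := (Commute.refl a).zpow_left k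
    exact (h1.mul_right h1).eq
  · have h1 := (hs g hg).1
    calc g * (a * a) = (g * a * g⁻¹) * (g * a * g⁻¹) * g := by group
      _ = a⁻¹ * a⁻¹ * g := by rw [h1]
      _ = a * a * g := by rw [hainv2]

theorem struct8_center (hc : Nat.card T = 8) (a : T) (ha : orderOf a = 4)
    (hs : ∀ b, b ∉ Subgroup.zpowers a → (b * a * b⁻¹ = a⁻¹ ∧ (b * b = 1 ∨ b * b = a * a)))
    (z : T) (hz : ∀ t, t * z = z * t) : z = 1 ∨ z = a * a := by
  have : Finite T := Nat.finite_of_card_ne_zero (by rw [hc]; norm_num)
  obtain ⟨ha1, ha2, ha4, hainv, hainv2⟩ := four_facts a ha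
  have hA : Nat.card (Subgroup.zpowers a) = 4 := by rw [Nat.card_zpowers, ha]
  have hexb : ∃ b, b ∉ Subgroup.zpowers a := by
    by_contra hcon
    push Not at hcon
    have : Subgroup.zpowers a = ⊤ := by
      rw [Subgroup.eq_top_iff']; exact hcon
    rw [this, Subgroup.card_top, hc] at hA
    omega
  obtain ⟨b, hb⟩ := hexb
  have hba := (hs b hb).1
  by_cases hzA : z ∈ Subgroup.zpowers a
  · rcases mem_zpowers_four a _ ha hzA with h1 | h1 | h1 | h1
    · left; exact h1
    · exfalso
      apply hainv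
      rw [← hba, ← h1, hz b]; group
    · right; exact h1
    · exfalso
      apply hainv
      have h2 : b * a⁻¹ = a⁻¹ * b := by rw [← h1]; exact hz b
      rw [← hba]
      calc b * a * b⁻¹ = a * (a⁻¹ * b) * a * b⁻¹ := by group
        _ = a * (b * a⁻¹) * a * b⁻¹ := by rw [h2]
        _ = a := by group
  · exfalso
    apply hainv
    rw [← (hs z hzA).1, ← hz a]; group

theorem struct8_order4 (a : T) (ha : orderOf a = 4)
    (hs : ∀ b, b ∉ Subgroup.zpowers a → (b * a * b⁻¹ = a⁻¹ ∧ (b * b = 1 ∨ b * b = a * a)))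
    (g : T) (hg : orderOf g = 4) : g * g = a * a := by
  rcases struct8_sq a ha hs g with h1 | h1
  · exfalso
    have : orderOf g ∣ 2 := orderOf_dvd_of_pow_eq_one (by rw [pow_two]; exact h1)
    rw [hg] at this
    omega
  · exact h1

theorem struct8_pow_four (a : T) (ha : orderOf a = 4)
    (hs : ∀ b, b ∉ Subgroup.zpowers a → (b * a * b⁻¹ = a⁻¹ ∧ (b * b = 1 ∨ b * b = a * a)))
    (g : T) : g ^ 4 = 1 := by
  obtain ⟨ha1, ha2, ha4, hainv, hainv2⟩ := four_facts a ha
  have e : g ^ 4 = g * g * (g * g) := by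
    simp only [pow_succ, pow_zero, one_mul, mul_assoc]
  rw [e]
  rcases struct8_sq a ha hs g with h1 | h1
  · rw [h1, one_mul]
  · rw [h1]; exact ha4

theorem orderOf_eq_four_of_sq (a : T) (ha : orderOf a = 4) (g : T) (hg : g * g = a * a) :
    orderOf g = 4 := by
  obtain ⟨ha1, ha2, ha4, hainv, hainv2⟩ := four_facts a ha
  have h4 : g ^ (2 ^ 2) = 1 := by
    have e : g ^ (2 ^ 2) = g * g * (g * g) := by
      show g ^ 4 = _
      simp only [pow_succ, pow_zero, one_mul, mul_assoc]
    rw [e, hg]; exact ha4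
  have h2 : ¬ g ^ (2 ^ 1) = 1 := by
    rw [pow_one, pow_two, hg]; exact ha2
  have : Fact (Nat.Prime 2) := ⟨Nat.prime_two⟩
  have := orderOf_eq_prime_pow h2 h4
  rw [this]; norm_num

end order8

variable {G : Type*} [Group G] [Finite G]

/-- the number of elements of prime order `p` when the Sylow `p`-subgroups have order `p` -/
theorem card_orderOf_eq_prime (p : ℕ) [Fact p.Prime]
    (hfac : (Nat.card G).factorization p = 1) :
    Nat.card {g : G // orderOf g = p} = Nat.card (Sylow p G) * (p - 1) := by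
  have hp := (Fact.out : p.Prime)
  apply card_eq_mul_of_unique (fun (x : {g : G // orderOf g = p}) (P : Sylow p G) => (x : G) ∈ P)
  · intro x
    have hQcard : Nat.card (Subgroup.zpowers (x : G)) = p ^ (Nat.card G).factorization p := by
      rw [Nat.card_zpowers, x.2, hfac, pow_one]
    refine ⟨Sylow.ofCard (Subgroup.zpowers (x : G)) hQcard, ?_, ?_⟩
    · show (x : G) ∈ ((Sylow.ofCard (Subgroup.zpowers (x : G)) hQcard : Sylow p G) : Subgroup G)
      rw [Sylow.coe_ofCard]; exact Subgroup.mem_zpowers _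
    · intro Q hQ
      apply Sylow.ext
      rw [Sylow.coe_ofCard]
      symm
      apply Subgroup.eq_of_le_of_card_ge
      · rw [Subgroup.zpowers_le]; exact hQ
      · rw [hQcard]; exact (Q.card_eq_multiplicity).le
  · intro P
    have hP : Nat.card (P : Subgroup G) = p := by
      have := P.card_eq_multiplicity
      rw [hfac, pow_one] at this
      exact this
    have e : {x : {g : G // orderOf g = p} // (x : G) ∈ P} ≃ {g : (P : Subgroup G) // g ≠ 1} :=
      { toFun := fun x => ⟨⟨x.1.1, x.2⟩, by
          intro h1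
          have h2 : (x.1.1 : G) = 1 := congrArg Subtype.val h1
          have h3 := x.1.2
          rw [h2, orderOf_one] at h3
          exact hp.one_lt.ne h3⟩
        invFun := fun g => ⟨⟨g.1.1, by
          have h1 : orderOf (g.1 : G) ∣ p := by
            have h0 := orderOf_dvd_natCard g.1
            rw [hP] at h0
            rw [Subgroup.orderOf_coe]; exact h0
          rcases (Nat.dvd_prime hp).mp h1 with h2 | h2
          · exfalso
            rw [orderOf_eq_one_iff] at h2
            exact g.2 (Subtype.ext h2)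
          · exact h2⟩, g.1.2⟩
        left_inv := fun x => rfl
        right_inv := fun g => rfl }
    rw [Nat.card_congr e]
    have := card_ne_one (H := (P : Subgroup G))
    rw [hP] at this
    omega

section simple

variable [IsSimpleGroup G]

theorem card_orderOf_seven (h : Nat.card G = 168) : Nat.card {g : G // orderOf g = 7} = 48 := by
  have : Fact (Nat.Prime 7) := ⟨by norm_num⟩
  rw [card_orderOf_eq_prime 7 (by rw [h]; exact fac7), n7 h]

theorem card_orderOf_three (h : Nat.card G = 168) : Nat.card {g : G // orderOf g = 3} = 56 := by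
  have : Fact (Nat.Prime 3) := ⟨by norm_num⟩
  rw [card_orderOf_eq_prime 3 (by rw [h]; exact fac3), n3 h]

/-- the centraliser of a Sylow 7-subgroup is the subgroup itself -/
theorem card_centralizer7 (h : Nat.card G = 168) (P : Sylow 7 G) :
    Nat.card (Subgroup.centralizer ((P : Subgroup G) : Set G)) = 7 := by
  have : Fact (Nat.Prime 7) := ⟨by norm_num⟩
  have hP := card_sylow7 h P
  have hN := card_normalizer7 h P
  have hCN : Subgroup.centralizer ((P : Subgroup G) : Set G) ≤
      Subgroup.normalizer ((P : Subgroup G) : Set G) := Subgroup.centralizer_le_normalizer _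
  have hPC : (P : Subgroup G) ≤ Subgroup.centralizer ((P : Subgroup G) : Set G) := by
    have hcyc : IsCyclic (P : Subgroup G) := isCyclic_of_prime_card hP
    intro x hx
    rw [Subgroup.mem_centralizer_iff]
    intro g hg
    obtain ⟨c, hc⟩ := hcyc.exists_generator
    obtain ⟨i, hi⟩ := Subgroup.mem_zpowers_iff.mp (hc ⟨x, hx⟩)
    obtain ⟨j, hj⟩ := Subgroup.mem_zpowers_iff.mp (hc ⟨g, hg⟩)
    have hi' : (c : G) ^ i = x := by
      have := congrArg Subtype.val hi
      simpa using this
    have hj' : (c : G) ^ j = g := by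
      have := congrArg Subtype.val hj
      simpa using this
    rw [← hi', ← hj', ← zpow_add, ← zpow_add, add_comm]
  have hd1 : 7 ∣ Nat.card (Subgroup.centralizer ((P : Subgroup G) : Set G)) := by
    have := Subgroup.card_dvd_of_le hPC
    rwa [show Nat.card (P : Subgroup G) = 7 from hP] at this
  have hd2 : Nat.card (Subgroup.centralizer ((P : Subgroup G) : Set G)) ∣ 21 := by
    have := Subgroup.card_dvd_of_le hCN
    rwa [hN] at this
  have hne : Nat.card (Subgroup.centralizer ((P : Subgroup G) : Set G)) ≠ 21 := by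
    intro h6
    have hNC : Subgroup.normalizer ((P : Subgroup G) : Set G) ≤
        Subgroup.centralizer ((P : Subgroup G) : Set G) := by
      have := Subgroup.eq_of_le_of_card_ge hCN (by rw [h6, hN])
      rw [this]
    rcases Lead.simple_sylow_card P hNC with h1 | h1 <;> omega
  have hle : Nat.card (Subgroup.centralizer ((P : Subgroup G) : Set G)) ≤ 21 :=
    Nat.le_of_dvd (by norm_num) hd2
  generalize Nat.card (Subgroup.centralizer ((P : Subgroup G) : Set G)) = n at *
  interval_cases n <;> omega

theorem normalizer2 (h : Nat.card G = 168) (T : Sylow 2 G) :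
    Subgroup.normalizer ((T : Subgroup G) : Set G) = T := by
  have : Fact (Nat.Prime 2) := ⟨by norm_num⟩
  have h2 := Lead.card_normalizer_mul_card_sylow T
  rw [n2 h, h] at h2
  have hN : Nat.card (Subgroup.normalizer ((T : Subgroup G) : Set G)) = 8 := by omega
  symm
  apply Subgroup.eq_of_le_of_card_ge Subgroup.le_normalizer
  rw [hN]; exact (card_sylow2 h T).ge

theorem sylow2_not_comm (h : Nat.card G = 168) (T : Sylow 2 G) :
    ¬ IsMulCommutative (T : Subgroup G) := by
  have : Fact (Nat.Prime 2) := ⟨by norm_num⟩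
  intro hc
  have hNC : Subgroup.normalizer ((T : Subgroup G) : Set G) ≤
      Subgroup.centralizer ((T : Subgroup G) : Set G) := by
    rw [normalizer2 h T]
    intro x hx
    rw [Subgroup.mem_centralizer_iff]
    intro g hg
    have := hc.is_comm.comm (⟨g, hg⟩ : (T : Subgroup G)) ⟨x, hx⟩
    exact congrArg Subtype.val this
  rcases Lead.simple_sylow_card T hNC with h1 | h1
  · rw [card_sylow2 h T] at h1; omega
  · rw [card_sylow2 h T, h] at h1; omega

theorem two_dvd_orderOf (h : Nat.card G = 168) (T : Sylow 2 G) (z : G)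
    (hz : z ∈ (T : Subgroup G)) (hz1 : z ≠ 1) : 2 ∣ orderOf z := by
  have hord : orderOf z ∣ 2 ^ 3 := by
    have := orderOf_dvd_natCard (⟨z, hz⟩ : (T : Subgroup G))
    rw [Subgroup.orderOf_mk, show Nat.card (T : Subgroup G) = 8 from card_sylow2 h T] at this
    exact this
  obtain ⟨k, hk, hk2⟩ := (Nat.dvd_prime_pow Nat.prime_two).mp hord
  rw [hk2]
  rcases Nat.eq_zero_or_pos k with h0 | h0
  · rw [h0, pow_zero, orderOf_eq_one_iff] at hk2
    exact absurd hk2 hz1
  · exact dvd_pow_self 2 (by omega)

theorem centralizer_central2 (h : Nat.card G = 168) (T : Sylow 2 G) (z : G)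
    (hz : z ∈ (T : Subgroup G)) (hz1 : z ≠ 1)
    (hcen : ∀ t ∈ (T : Subgroup G), t * z = z * t) :
    Subgroup.centralizer ({z} : Set G) = T := by
  have hTC : (T : Subgroup G) ≤ Subgroup.centralizer ({z} : Set G) := by
    intro t ht
    rw [Subgroup.mem_centralizer_singleton_iff]
    exact hcen t ht
  have hd1 : 8 ∣ Nat.card (Subgroup.centralizer ({z} : Set G)) := by
    have := Subgroup.card_dvd_of_le hTC
    rwa [show Nat.card (T : Subgroup G) = 8 from card_sylow2 h T] at this
  have hd2 : Nat.card (Subgroup.centralizer ({z} : Set G)) ∣ 168 := by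
    rw [← h]; exact Subgroup.card_subgroup_dvd_card _
  have hz2 : 2 ∣ orderOf z := two_dvd_orderOf h T z hz hz1
  have hne168 : Nat.card (Subgroup.centralizer ({z} : Set G)) ≠ 168 := by
    intro h168
    have htop : Subgroup.centralizer ({z} : Set G) = ⊤ :=
      Subgroup.eq_top_of_card_eq _ (by rw [h168, h])
    have hzc : z ∈ Subgroup.center G := by
      rw [Subgroup.mem_center_iff]; intro g
      have : g ∈ Subgroup.centralizer ({z} : Set G) := by rw [htop]; trivial
      exact Subgroup.mem_centralizer_singleton_iff.mp this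
    rcases IsSimpleGroup.eq_bot_or_eq_top_of_normal (Subgroup.center G) inferInstance with hb | ht
    · rw [hb, Subgroup.mem_bot] at hzc; exact hz1 hzc
    · apply not_comm h
      refine ⟨⟨fun a b => ?_⟩⟩
      have : b ∈ Subgroup.center G := by rw [ht]; trivial
      exact Subgroup.mem_center_iff.mp this a
  have hne56 : Nat.card (Subgroup.centralizer ({z} : Set G)) ≠ 56 := by
    intro h56
    have hidx := (Subgroup.centralizer ({z} : Set G)).card_mul_index
    rw [h56, h] at hidx
    have := index_ge h (Subgroup.centralizer ({z} : Set G))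
      (by intro htop; rw [htop, Subgroup.card_top, h] at h56; omega)
    omega
  have hne24 : Nat.card (Subgroup.centralizer ({z} : Set G)) ≠ 24 := by
    intro h24
    have : Fact (Nat.Prime 3) := ⟨by norm_num⟩
    obtain ⟨y, hy⟩ := exists_prime_orderOf_dvd_card' (G := Subgroup.centralizer ({z} : Set G)) 3
      (by rw [h24]; norm_num)
    have hy3 : orderOf (y : G) = 3 := by rw [Subgroup.orderOf_coe]; exact hy
    have := Subgroup.mem_centralizer_singleton_iff.mp y.2
    exact not_commute_three h (y : G) z hy3 hz2 this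
  symm
  apply Subgroup.eq_of_le_of_card_ge hTC
  rw [show Nat.card (T : Subgroup G) = 8 from card_sylow2 h T]
  generalize Nat.card (Subgroup.centralizer ({z} : Set G)) = n at *
  obtain ⟨m, rfl⟩ := hd1
  have hm21 : m ∣ 21 := by
    have : 8 * m ∣ 8 * 21 := hd2
    exact Nat.dvd_of_mul_dvd_mul_left (by norm_num) this
  have hm : m ≤ 21 := Nat.le_of_dvd (by norm_num) hm21
  interval_cases m <;> omega

/-- the structural element of a Sylow 2-subgroup -/
theorem sylow2_struct (h : Nat.card G = 168) (T : Sylow 2 G) :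
    ∃ a : (T : Subgroup G), orderOf a = 4 ∧ ∀ b, b ∉ Subgroup.zpowers a →
      (b * a * b⁻¹ = a⁻¹ ∧ (b * b = 1 ∨ b * b = a * a)) :=
  struct8 (card_sylow2 h T) (sylow2_not_comm h T)

/-- squares of elements of a Sylow 2-subgroup are central in it -/
theorem sylow2_sq_central (h : Nat.card G = 168) (T : Sylow 2 G) (g : G)
    (hg : g ∈ (T : Subgroup G)) : ∀ t ∈ (T : Subgroup G), t * (g * g) = (g * g) * t := by
  obtain ⟨a, ha, hs⟩ := sylow2_struct h T
  intro t ht
  rcases struct8_sq a ha hs ⟨g, hg⟩ with h1 | h1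
  · have : g * g = 1 := congrArg Subtype.val h1
    rw [this]; simp
  · have h2 : g * g = (a : G) * (a : G) := congrArg Subtype.val h1
    rw [h2]
    exact congrArg Subtype.val (struct8_central a ha hs ⟨t, ht⟩)

theorem sylow2_pow_four (h : Nat.card G = 168) (T : Sylow 2 G) (g : G)
    (hg : g ∈ (T : Subgroup G)) : g ^ 4 = 1 := by
  obtain ⟨a, ha, hs⟩ := sylow2_struct h T
  exact congrArg Subtype.val (struct8_pow_four a ha hs ⟨g, hg⟩)

/-- a Sylow 2-subgroup is the centraliser of the square of each of its elements of order 4 -/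
theorem sylow2_eq_centralizer (h : Nat.card G = 168) (T : Sylow 2 G) (x : G)
    (hxT : x ∈ (T : Subgroup G)) (hx : orderOf x = 4) :
    Subgroup.centralizer ({x * x} : Set G) = T := by
  apply centralizer_central2 h T (x * x) (mul_mem hxT hxT)
  · intro h1
    have : orderOf x ∣ 2 := orderOf_dvd_of_pow_eq_one (by rw [pow_two]; exact h1)
    rw [hx] at this; omega
  · exact sylow2_sq_central h T x hxT

theorem unique_sylow2_of_order4 (h : Nat.card G = 168) (x : G) (hx : orderOf x = 4) :
    ∃! S : Sylow 2 G, x ∈ (S : Subgroup G) := by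
  have : Fact (Nat.Prime 2) := ⟨Nat.prime_two⟩
  have hp : IsPGroup 2 (Subgroup.zpowers x) :=
    IsPGroup.of_card (n := 2) (by rw [Nat.card_zpowers, hx]; norm_num)
  obtain ⟨S, hS⟩ := hp.exists_le_sylow
  have hxS : x ∈ (S : Subgroup G) := hS (Subgroup.mem_zpowers x)
  refine ⟨S, hxS, ?_⟩
  intro S' hxS'
  apply Sylow.ext
  rw [← sylow2_eq_centralizer h S x hxS hx, ← sylow2_eq_centralizer h S' x hxS' hx]

/-- the central involution of a Sylow 2-subgroup is unique -/
theorem sylow2_central_unique (h : Nat.card G = 168) (T : Sylow 2 G) (z z' : G)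
    (hz : z ∈ (T : Subgroup G)) (hz1 : z ≠ 1) (hzc : ∀ t ∈ (T : Subgroup G), t * z = z * t)
    (hz' : z' ∈ (T : Subgroup G)) (hz1' : z' ≠ 1)
    (hzc' : ∀ t ∈ (T : Subgroup G), t * z' = z' * t) : z = z' := by
  obtain ⟨a, ha, hs⟩ := sylow2_struct h T
  have key : ∀ w : G, w ∈ (T : Subgroup G) → w ≠ 1 →
      (∀ t ∈ (T : Subgroup G), t * w = w * t) → w = (a : G) * (a : G) := by
    intro w hw hw1 hwc
    rcases struct8_center (card_sylow2 h T) a ha hs ⟨w, hw⟩
      (fun t => Subtype.ext (hwc t t.2)) with h1 | h1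
    · exact absurd (congrArg Subtype.val h1) hw1
    · exact congrArg Subtype.val h1
  rw [key z hz hz1 hzc, key z' hz' hz1' hzc']

theorem sylow2_exists_central (h : Nat.card G = 168) (T : Sylow 2 G) :
    ∃ z : G, z ∈ (T : Subgroup G) ∧ orderOf z = 2 ∧
      ∀ t ∈ (T : Subgroup G), t * z = z * t := by
  obtain ⟨a, ha, hs⟩ := sylow2_struct h T
  obtain ⟨ha1, ha2, ha4, hainv, hainv2⟩ := four_facts a ha
  refine ⟨(a : G) * (a : G), (a * a).2, ?_, ?_⟩
  · have h2 : orderOf (a * a) = 2 := by
      apply orderOf_eq_prime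
      · rw [pow_two]; exact ha4
      · exact ha2
    have e : orderOf ((a : G) * (a : G)) = orderOf (a * a) := Subgroup.orderOf_coe (a * a)
    rw [e, h2]
  · intro t ht
    exact congrArg Subtype.val (struct8_central a ha hs ⟨t, ht⟩)

theorem sylow2_card_order4_of_not_dihedral (h : Nat.card G = 168) (S : Sylow 2 G)
    (hnd : ¬ Nonempty ((S : Subgroup G) ≃* DihedralGroup 4)) :
    Nat.card {t : (S : Subgroup G) // orderOf t = 4} = 6 := by
  obtain ⟨a, ha, hs⟩ := sylow2_struct h S
  obtain ⟨ha1, ha2, ha4, hainv, hainv2⟩ := four_facts a ha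
  have hc : Nat.card (S : Subgroup G) = 8 := card_sylow2 h S
  have hb : ∀ b, b ∉ Subgroup.zpowers a → b * b = a * a := by
    intro b hb
    rcases (hs b hb).2 with h1 | h1
    · exfalso
      apply hnd
      exact Helper9.dihedral_equiv_of 4 a b ha h1 (hs b hb).1 hb (by rw [hc])
    · exact h1
  have hiff : ∀ g : (S : Subgroup G), orderOf g = 4 ↔ (g ≠ 1 ∧ g ≠ a * a) := by
    intro g
    constructor
    · intro hg
      constructor
      · rintro rfl; rw [orderOf_one] at hg; omega
      · rintro rfl
        have : orderOf (a * a) ∣ 2 := orderOf_dvd_of_pow_eq_one (by rw [pow_two]; exact ha4)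
        rw [hg] at this; omega
    · rintro ⟨hg1, hg2⟩
      apply orderOf_eq_four_of_sq a ha
      by_cases hgA : g ∈ Subgroup.zpowers a
      · rcases mem_zpowers_four a _ ha hgA with h1 | h1 | h1 | h1
        · exact absurd h1 hg1
        · rw [h1]
        · exact absurd h1 hg2
        · rw [h1]; exact hainv2
      · exact hb g hgA
  rw [Nat.card_congr (Equiv.subtypeEquivRight hiff)]
  have hset : {g : (S : Subgroup G) | g ≠ 1 ∧ g ≠ a * a} =
      ({1, a * a} : Set (S : Subgroup G))ᶜ := by
    ext g; simp [not_or]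
  have hcs : Nat.card {g : (S : Subgroup G) // g ≠ 1 ∧ g ≠ a * a} =
      Set.ncard {g : (S : Subgroup G) | g ≠ 1 ∧ g ≠ a * a} := Nat.card_coe_set_eq _
  rw [hcs, hset, Set.ncard_compl, Set.ncard_pair (Ne.symm ha2), hc]

theorem card_orderOf_four_aux (h : Nat.card G = 168) (k : ℕ)
    (hk : ∀ S : Sylow 2 G, Nat.card {t : (S : Subgroup G) // orderOf t = 4} = k) :
    Nat.card {g : G // orderOf g = 4} = 21 * k := by
  rw [← n2 h]
  apply card_eq_mul_of_unique
    (fun (x : {g : G // orderOf g = 4}) (S : Sylow 2 G) => (x : G) ∈ (S : Subgroup G))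
  · intro x; exact unique_sylow2_of_order4 h x.1 x.2
  · intro S
    rw [← hk S]
    apply Nat.card_congr
    exact
      { toFun := fun x => ⟨⟨x.1.1, x.2⟩, by rw [Subgroup.orderOf_mk]; exact x.1.2⟩
        invFun := fun t => ⟨⟨t.1.1, by rw [Subgroup.orderOf_coe]; exact t.2⟩, t.1.2⟩
        left_inv := fun x => rfl
        right_inv := fun t => rfl }

/-- a Sylow 2-subgroup of a simple group of order 168 is dihedral -/
theorem sylow2_dihedral (h : Nat.card G = 168) (T : Sylow 2 G) :
    Nonempty ((T : Subgroup G) ≃* DihedralGroup 4) := by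
  have : Fact (Nat.Prime 2) := ⟨Nat.prime_two⟩
  by_contra hnd
  have hall : ∀ S : Sylow 2 G, ¬ Nonempty ((S : Subgroup G) ≃* DihedralGroup 4) := by
    rintro S ⟨e⟩
    exact hnd ⟨(Sylow.equiv T S).trans e⟩
  have h4 := card_orderOf_four_aux h 6
    (fun S => sylow2_card_order4_of_not_dihedral h S (hall S))
  have h7 := card_orderOf_seven h
  have hinj : Function.Injective
      (Sum.elim (fun a : {g : G // orderOf g = 4} => (a : G))
        (fun b : {g : G // orderOf g = 7} => (b : G))) := by
    rintro (⟨x, hx⟩ | ⟨x, hx⟩) (⟨y, hy⟩ | ⟨y, hy⟩) hxy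
    · simp only [Sum.elim_inl] at hxy; subst hxy; rfl
    · simp only [Sum.elim_inl, Sum.elim_inr] at hxy; subst hxy; omega
    · simp only [Sum.elim_inl, Sum.elim_inr] at hxy; subst hxy; omega
    · simp only [Sum.elim_inr] at hxy; subst hxy; rfl
  have := Nat.card_le_card_of_injective _ hinj
  rw [Nat.card_sum, h4, h7, h] at this
  omega

theorem dihedral4_card_order4 : Nat.card {d : DihedralGroup 4 // orderOf d = 4} = 2 := by
  have hiff : ∀ d : DihedralGroup 4, orderOf d = 4 ↔ (d ^ 2 ≠ 1 ∧ d ^ 4 = 1) := by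
    intro d
    constructor
    · intro hd
      constructor
      · intro h2
        have := orderOf_dvd_of_pow_eq_one h2
        rw [hd] at this; omega
      · have := pow_orderOf_eq_one d
        rwa [hd] at this
    · rintro ⟨h2, h4⟩
      have : Fact (Nat.Prime 2) := ⟨Nat.prime_two⟩
      have := orderOf_eq_prime_pow (p := 2) (n := 1) (x := d) (by simpa using h2)
        (by simpa using h4)
      rw [this]; norm_num
  rw [Nat.card_congr (Equiv.subtypeEquivRight hiff), Nat.card_eq_fintype_card]
  decide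

theorem sylow2_card_order4 (h : Nat.card G = 168) (S : Sylow 2 G) :
    Nat.card {t : (S : Subgroup G) // orderOf t = 4} = 2 := by
  obtain ⟨e⟩ := sylow2_dihedral h S
  refine (Nat.card_congr ?_).trans dihedral4_card_order4
  exact e.toEquiv.subtypeEquiv (fun t => by
    show orderOf t = 4 ↔ orderOf (e t) = 4
    rw [MulEquiv.orderOf_eq])

theorem card_orderOf_four (h : Nat.card G = 168) : Nat.card {g : G // orderOf g = 4} = 42 := by
  rw [card_orderOf_four_aux h 2 (sylow2_card_order4 h)]

/-- an element whose order is divisible by a prime `p` with self-centralising Sylow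
`p`-subgroups of order `p` has order `p` -/
theorem orderOf_eq_of_prime_dvd {p : ℕ} [Fact p.Prime]
    (hfac : (Nat.card G).factorization p = 1)
    (hC : ∀ P : Sylow p G, Nat.card (Subgroup.centralizer ((P : Subgroup G) : Set G)) = p)
    (g : G) (hp : p ∣ orderOf g) : orderOf g = p := by
  obtain ⟨m, hm⟩ := hp
  have hmpos : 0 < m := by
    rcases Nat.eq_zero_or_pos m with h0 | h0
    · rw [h0, mul_zero] at hm; have := orderOf_pos g; omega
    · exact h0
  have hx : orderOf (g ^ m) = p := by
    rw [orderOf_pow_of_dvd hmpos.ne' ⟨p, by rw [hm, mul_comm]⟩, hm, Nat.mul_div_cancel _ hmpos]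
  have hQcard : Nat.card (Subgroup.zpowers (g ^ m)) = p ^ (Nat.card G).factorization p := by
    rw [Nat.card_zpowers, hx, hfac, pow_one]
  set Q : Sylow p G := Sylow.ofCard (Subgroup.zpowers (g ^ m)) hQcard with hQdef
  have hQcoe : (Q : Subgroup G) = Subgroup.zpowers (g ^ m) := Sylow.coe_ofCard _ _
  have hgC : g ∈ Subgroup.centralizer ((Q : Subgroup G) : Set G) := by
    rw [Subgroup.mem_centralizer_iff]
    intro y hy
    rw [SetLike.mem_coe, hQcoe] at hy
    obtain ⟨i, rfl⟩ := Subgroup.mem_zpowers_iff.mp hy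
    exact ((((Commute.refl g).pow_left m).zpow_left i)).eq
  have h1 : orderOf g ∣ p := by
    have := orderOf_dvd_natCard (⟨g, hgC⟩ : Subgroup.centralizer ((Q : Subgroup G) : Set G))
    rwa [Subgroup.orderOf_mk, hC Q] at this
  exact Nat.dvd_antisymm h1 ⟨m, hm⟩

/-- element orders in a simple group of order 168 -/
theorem orderOf_mem (h : Nat.card G = 168) (g : G) :
    orderOf g = 1 ∨ orderOf g = 2 ∨ orderOf g = 3 ∨ orderOf g = 4 ∨ orderOf g = 7 := by
  have : Fact (Nat.Prime 2) := ⟨Nat.prime_two⟩
  have : Fact (Nat.Prime 3) := ⟨by norm_num⟩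
  have : Fact (Nat.Prime 7) := ⟨by norm_num⟩
  have hd : orderOf g ∣ 168 := h ▸ orderOf_dvd_natCard g
  by_cases h7 : 7 ∣ orderOf g
  · right; right; right; right
    exact orderOf_eq_of_prime_dvd (by rw [h]; exact fac7) (card_centralizer7 h) g h7
  by_cases h3 : 3 ∣ orderOf g
  · right; right; left
    exact orderOf_eq_of_prime_dvd (by rw [h]; exact fac3) (card_centralizer3 h) g h3
  have hc3 : Nat.Coprime (orderOf g) 3 :=
    ((Nat.Prime.coprime_iff_not_dvd (by norm_num : Nat.Prime 3)).mpr h3).symm
  have hc7 : Nat.Coprime (orderOf g) 7 :=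
    ((Nat.Prime.coprime_iff_not_dvd (by norm_num : Nat.Prime 7)).mpr h7).symm
  have hc21 : Nat.Coprime (orderOf g) (3 * 7) := Nat.Coprime.mul_right hc3 hc7
  have hd8 : orderOf g ∣ 2 ^ 3 := by
    apply Nat.Coprime.dvd_of_dvd_mul_right hc21
    norm_num
    exact hd
  obtain ⟨k, hk, hk2⟩ := (Nat.dvd_prime_pow Nat.prime_two).mp hd8
  have hp : IsPGroup 2 (Subgroup.zpowers g) :=
    IsPGroup.of_card (n := k) (by rw [Nat.card_zpowers, hk2])
  obtain ⟨S, hS⟩ := hp.exists_le_sylow
  have hgS : g ∈ (S : Subgroup G) := hS (Subgroup.mem_zpowers g)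
  have h4 : orderOf g ∣ 4 := orderOf_dvd_of_pow_eq_one (sylow2_pow_four h S g hgS)
  have hle : orderOf g ≤ 4 := Nat.le_of_dvd (by norm_num) h4
  have hpos := orderOf_pos g
  generalize orderOf g = n at *
  interval_cases n <;> omega

theorem card_orderOf_one : Nat.card {g : G // orderOf g = 1} = 1 := by
  rw [Nat.card_eq_one_iff_unique]
  refine ⟨⟨fun a b => Subtype.ext ?_⟩, ⟨⟨1, orderOf_one⟩⟩⟩
  rw [orderOf_eq_one_iff.mp a.2, orderOf_eq_one_iff.mp b.2]

theorem card_orderOf_two (h : Nat.card G = 168) : Nat.card {g : G // orderOf g = 2} = 21 := by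
  classical
  have : Fintype G := Fintype.ofFinite G
  have hsum := Finset.card_eq_sum_card_fiberwise (s := (Finset.univ : Finset G))
    (t := ({1, 2, 3, 4, 7} : Finset ℕ)) (f := orderOf) (by
      intro g _
      have := orderOf_mem h g
      simp only [Finset.coe_insert, Finset.coe_singleton, Set.mem_insert_iff,
        Set.mem_singleton_iff]
      exact this)
  have hcard : ∀ n : ℕ, (Finset.univ.filter (fun g : G => orderOf g = n)).card =
      Nat.card {g : G // orderOf g = n} := by
    intro n
    rw [Nat.card_eq_fintype_card, Fintype.card_subtype]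
  rw [Finset.card_univ, ← Nat.card_eq_fintype_card, h] at hsum
  rw [Finset.sum_insert (by decide), Finset.sum_insert (by decide),
    Finset.sum_insert (by decide), Finset.sum_insert (by decide), Finset.sum_singleton] at hsum
  simp only [hcard] at hsum
  rw [card_orderOf_one, card_orderOf_three h, card_orderOf_four h, card_orderOf_seven h] at hsum
  omega

/-- every involution is the central involution of some Sylow 2-subgroup -/
theorem involution_central (h : Nat.card G = 168) (s : G) (hs : orderOf s = 2) :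
    ∃ S : Sylow 2 G, s ∈ (S : Subgroup G) ∧ ∀ t ∈ (S : Subgroup G), t * s = s * t := by
  have : Fact (Nat.Prime 2) := ⟨Nat.prime_two⟩
  choose zf hzf using (fun S : Sylow 2 G => sylow2_exists_central h S)
  let Φ : Sylow 2 G → {g : G // orderOf g = 2} := fun S => ⟨zf S, (hzf S).2.1⟩
  have hne : ∀ S, zf S ≠ 1 := by
    intro S h1
    have := (hzf S).2.1
    rw [h1, orderOf_one] at this; omega
  have hinj : Function.Injective Φ := by
    intro S S' hSS'
    have hz : zf S = zf S' := congrArg Subtype.val hSS'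
    apply Sylow.ext
    rw [← centralizer_central2 h S (zf S) (hzf S).1 (hne S) (hzf S).2.2,
      ← centralizer_central2 h S' (zf S') (hzf S').1 (hne S') (hzf S').2.2, hz]
  have hbij : Function.Bijective Φ := by
    rw [Nat.bijective_iff_injective_and_card]
    exact ⟨hinj, by rw [n2 h, card_orderOf_two h]⟩
  obtain ⟨S, hS⟩ := hbij.2 ⟨s, hs⟩
  have hzs : zf S = s := congrArg Subtype.val hS
  exact ⟨S, hzs ▸ (hzf S).1, hzs ▸ (hzf S).2.2⟩

theorem conj_mem_smul {p : ℕ} [Fact p.Prime] (S : Sylow p G) (g x : G)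
    (hx : x ∈ (S : Subgroup G)) : g * x * g⁻¹ ∈ ((g • S : Sylow p G) : Subgroup G) := by
  show g * x * g⁻¹ ∈ ((g • S : Sylow p G) : Set G)
  rw [Sylow.coe_smul]
  exact ⟨x, hx, rfl⟩

theorem exists_of_mem_smul {p : ℕ} [Fact p.Prime] (S : Sylow p G) (g y : G)
    (hy : y ∈ ((g • S : Sylow p G) : Subgroup G)) :
    ∃ x ∈ (S : Subgroup G), y = g * x * g⁻¹ := by
  have hy' : y ∈ ((g • S : Sylow p G) : Set G) := hy
  rw [Sylow.coe_smul] at hy'
  obtain ⟨q, hq, rfl⟩ := hy'
  exact ⟨q, hq, rfl⟩

theorem involutions_conj (h : Nat.card G = 168) (s t : G) (hs : orderOf s = 2)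
    (ht : orderOf t = 2) : IsConj s t := by
  have : Fact (Nat.Prime 2) := ⟨Nat.prime_two⟩
  obtain ⟨S, hsS, hsc⟩ := involution_central h s hs
  obtain ⟨S', htS, htc⟩ := involution_central h t ht
  obtain ⟨g, hg⟩ := MulAction.exists_smul_eq G S S'
  rw [isConj_iff]
  refine ⟨g, ?_⟩
  have hs1 : s ≠ 1 := by
    rintro rfl; rw [orderOf_one] at hs; omega
  have ht1 : t ≠ 1 := by
    rintro rfl; rw [orderOf_one] at ht; omega
  apply sylow2_central_unique h S' (g * s * g⁻¹) t
  · rw [← hg]; exact conj_mem_smul S g s hsS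
  · intro h1
    apply hs1
    have : s = g⁻¹ * (g * s * g⁻¹) * g := by group
    rw [this, h1]; group
  · intro y hy
    rw [← hg] at hy
    obtain ⟨x, hx, rfl⟩ := exists_of_mem_smul S g y hy
    have := hsc x hx
    calc g * x * g⁻¹ * (g * s * g⁻¹) = g * (x * s) * g⁻¹ := by group
      _ = g * (s * x) * g⁻¹ := by rw [this]
      _ = g * s * g⁻¹ * (g * x * g⁻¹) := by group
  · exact htS
  · exact ht1
  · exact htc

end simple

end Cfsg.Agent.Helper4.Simple168b
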