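import Mathlib

set_option autoImplicit false

namespace Cfsg.Agent.Helper4.CycNormal

/-- if `2^m ∣ k^2 - 1` then `k ≡ ±1` or `±1 + 2^(m-1)` modulo `2^m` -/
theorem nt2 (m : ℕ) (k : ℤ) (h : (2 : ℤ) ^ m ∣ k ^ 2 - 1) :
    (2 : ℤ) ^ m ∣ k - 1 ∨ (2 : ℤ) ^ m ∣ k - 1 - 2 ^ (m - 1) ∨ (2 : ℤ) ^ m ∣ k + 1 ∨
      (2 : ℤ) ^ m ∣ k + 1 - 2 ^ (m - 1) := by
  rcases m with _ | m
  · left; simp
  -- k is odd
  have hodd : ¬ (2 : ℤ) ∣ k := by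
    intro h2
    have h3 : (2 : ℤ) ∣ k ^ 2 - 1 := dvd_trans (dvd_pow_self 2 (Nat.succ_ne_zero m)) h
    have h4 : (2 : ℤ) ∣ k ^ 2 := dvd_pow h2 (by norm_num)
    have h5 : (2 : ℤ) ∣ 1 := by
      have := dvd_sub h4 h3
      simp at this
    omega
  obtain ⟨j, hj⟩ : ∃ j : ℤ, k = 2 * j + 1 := ⟨k / 2, by omega⟩
  rcases m with _ | m
  · left
    rw [hj]
    exact ⟨j, by ring⟩
  simp only [Nat.add_sub_cancel]
  -- 2^m ∣ j (j+1)
  have h1 : (2 : ℤ) ^ m ∣ j * (j + 1) := by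
    obtain ⟨d, hd⟩ := h
    refine ⟨d, ?_⟩
    have e : k ^ 2 - 1 = 4 * (j * (j + 1)) := by rw [hj]; ring
    rw [e] at hd
    have e2 : (2 : ℤ) ^ (m + 1 + 1) = 4 * 2 ^ m := by ring
    rw [e2] at hd
    linarith
  have key : ∀ x : ℤ, (2 : ℤ) ^ (m + 1) ∣ x → (2 : ℤ) ^ (m + 1 + 1) ∣ x ∨
      (2 : ℤ) ^ (m + 1 + 1) ∣ x - 2 ^ (m + 1) := by
    intro x hx
    obtain ⟨q, hq⟩ := hx
    rcases Int.even_or_odd q with ⟨t, ht⟩ | ⟨t, ht⟩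
    · left
      exact ⟨t, by rw [hq, ht]; ring⟩
    · right
      exact ⟨t, by rw [hq, ht]; ring⟩
  rcases Int.even_or_odd j with ⟨t, ht⟩ | ⟨t, ht⟩
  · -- j even, j+1 odd: 2^m ∣ j
    have hcop : IsCoprime ((2 : ℤ) ^ m) (j + 1) := by
      apply IsCoprime.pow_left
      exact ⟨-t, 1, by rw [ht]; ring⟩
    have h2 : (2 : ℤ) ^ m ∣ j := hcop.dvd_of_dvd_mul_right h1
    have h3 : (2 : ℤ) ^ (m + 1) ∣ k - 1 := by
      obtain ⟨d, hd⟩ := h2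
      exact ⟨d, by rw [hj, hd]; ring⟩
    rcases key _ h3 with h4 | h4
    · exact Or.inl h4
    · exact Or.inr (Or.inl h4)
  · -- j odd: 2^m ∣ j + 1
    have hcop : IsCoprime ((2 : ℤ) ^ m) j := by
      apply IsCoprime.pow_left
      exact ⟨-t, 1, by rw [ht]; ring⟩
    have h2 : (2 : ℤ) ^ m ∣ j + 1 := hcop.dvd_of_dvd_mul_left h1
    have h3 : (2 : ℤ) ^ (m + 1) ∣ k + 1 := by
      obtain ⟨d, hd⟩ := h2
      refine ⟨d, ?_⟩
      have : k + 1 = 2 * (j + 1) := by rw [hj]; ring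
      rw [this, hd]; ring
    rcases key _ h3 with h4 | h4
    · exact Or.inr (Or.inr (Or.inl h4))
    · exact Or.inr (Or.inr (Or.inr h4))

section two

variable {G : Type*} [Group G]

theorem zpow_eq_one_of_dvd {a : G} {N : ℕ} (ha : orderOf a = N) {e : ℤ} (h : (N : ℤ) ∣ e) :
    a ^ e = 1 := by
  rw [← ha] at h
  exact orderOf_dvd_iff_zpow_eq_one.mp h

theorem dvd_of_zpow_eq_one {a : G} {N : ℕ} (ha : orderOf a = N) {e : ℤ} (h : a ^ e = 1) :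
    (N : ℤ) ∣ e := by
  rw [← ha]
  exact orderOf_dvd_iff_zpow_eq_one.mpr h

theorem sq_zpow_even {z : G} (hz : z * z = 1) (t : ℤ) : z ^ (2 * t) = 1 := by
  rw [zpow_mul, zpow_ofNat, pow_two, hz, one_zpow]

theorem sq_zpow_odd {z : G} (hz : z * z = 1) (t : ℤ) : z ^ (2 * t + 1) = z := by
  rw [zpow_add, sq_zpow_even hz, zpow_one, one_mul]

theorem sq_zpow_cases {z : G} (hz : z * z = 1) (k : ℤ) : z ^ k = 1 ∨ z ^ k = z := by
  rcases Int.even_or_odd k with ⟨t, ht⟩ | ⟨t, ht⟩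
  · left; rw [ht, ← two_mul]; exact sq_zpow_even hz t
  · right; rw [ht]; exact sq_zpow_odd hz t

variable {a : G} {m : ℕ}

theorem z_sq (ha : orderOf a = 2 ^ (m + 1)) : a ^ (2 ^ m) * a ^ (2 ^ m) = 1 := by
  rw [← pow_add, ← two_mul, ← pow_succ', ← ha]
  exact pow_orderOf_eq_one a

theorem z_ne_one (ha : orderOf a = 2 ^ (m + 1)) : a ^ (2 ^ m) ≠ 1 := by
  intro h
  have := orderOf_dvd_of_pow_eq_one h
  rw [ha] at this
  have h2 := Nat.le_of_dvd (by positivity) this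
  have h3 : 2 ^ m < 2 ^ (m + 1) := Nat.pow_lt_pow_right (by norm_num) (by omega)
  omega

theorem z_zpow (a : G) (m : ℕ) : a ^ ((2 : ℤ) ^ m) = a ^ (2 ^ m) := by
  rw [← zpow_natCast]
  congr 1

/-- elements of `⟨a⟩` with square one -/
theorem sq_one_mem_zpowers (ha : orderOf a = 2 ^ (m + 1)) {x : G} (hx : x ∈ Subgroup.zpowers a)
    (hxx : x * x = 1) : x = 1 ∨ x = a ^ (2 ^ m) := by
  obtain ⟨j, rfl⟩ := Subgroup.mem_zpowers_iff.mp hx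
  have h1 : a ^ (2 * j) = 1 := by rw [two_mul, zpow_add]; exact hxx
  have h2 := dvd_of_zpow_eq_one ha h1
  have h3 : (2 : ℤ) ^ m ∣ j := by
    obtain ⟨d, hd⟩ := h2
    refine ⟨d, ?_⟩
    push_cast at hd
    have e : (2 : ℤ) ^ (m + 1) = 2 * 2 ^ m := by ring
    rw [e] at hd
    linarith
  obtain ⟨q, hq⟩ := h3
  rw [hq, zpow_mul, z_zpow]
  exact sq_zpow_cases (z_sq ha) q

theorem conj_zpow' {b : G} {c : G} (h : b * a * b⁻¹ = c) (i : ℤ) : b * a ^ i * b⁻¹ = c ^ i := by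
  rw [← h, conj_zpow]

/-- the four possible actions -/
theorem conj_cases (ha : orderOf a = 2 ^ (m + 1)) {b : G} (hb : b * a * b⁻¹ ∈ Subgroup.zpowers a)
    (hbb : (b * b) * a = a * (b * b)) :
    b * a * b⁻¹ = a ∨ b * a * b⁻¹ = a * a ^ (2 ^ m) ∨ b * a * b⁻¹ = a⁻¹ ∨
      b * a * b⁻¹ = a⁻¹ * a ^ (2 ^ m) := by
  obtain ⟨k, hk⟩ := Subgroup.mem_zpowers_iff.mp hb
  have h1 : a ^ (k * k) = a := by
    have e1 : b * (b * a * b⁻¹) * b⁻¹ = a := by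
      calc b * (b * a * b⁻¹) * b⁻¹ = (b * b) * a * (b * b)⁻¹ := by group
        _ = a * (b * b) * (b * b)⁻¹ := by rw [hbb]
        _ = a := by group
    rw [← hk, conj_zpow' hk.symm, ← zpow_mul] at e1
    exact e1
  have h2 : a ^ (k * k - 1) = 1 := by
    rw [zpow_sub, h1, zpow_one, mul_inv_cancel]
  have h3 : (2 : ℤ) ^ (m + 1) ∣ k ^ 2 - 1 := by
    have := dvd_of_zpow_eq_one ha h2
    push_cast at this
    rw [pow_two]
    exact this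
  have hord : ((2 ^ (m + 1) : ℕ) : ℤ) = (2 : ℤ) ^ (m + 1) := by push_cast; rfl
  rw [← hk]
  rcases nt2 (m + 1) k h3 with h | h | h | h
  · left
    have e := zpow_eq_one_of_dvd ha (hord ▸ h)
    calc a ^ k = a ^ (k - 1) * a ^ (1 : ℤ) := by rw [← zpow_add]; congr 1; ring
      _ = a := by rw [e, one_mul, zpow_one]
  · right; left
    simp only [Nat.add_sub_cancel] at h
    have e := zpow_eq_one_of_dvd ha (hord ▸ h)
    calc a ^ k = a ^ (k - 1 - 2 ^ m) * (a ^ (1 : ℤ) * a ^ ((2 : ℤ) ^ m)) := by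
          rw [← zpow_add, ← zpow_add]; congr 1; ring
      _ = a * a ^ (2 ^ m) := by rw [e, one_mul, zpow_one, z_zpow]
  · right; right; left
    have e := zpow_eq_one_of_dvd ha (hord ▸ h)
    calc a ^ k = a ^ (k + 1) * a ^ (-1 : ℤ) := by rw [← zpow_add]; congr 1; ring
      _ = a⁻¹ := by rw [e, one_mul, zpow_neg_one]
  · right; right; right
    simp only [Nat.add_sub_cancel] at h
    have e := zpow_eq_one_of_dvd ha (hord ▸ h)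
    calc a ^ k = a ^ (k + 1 - 2 ^ m) * (a ^ (-1 : ℤ) * a ^ ((2 : ℤ) ^ m)) := by
          rw [← zpow_add, ← zpow_add]; congr 1; ring
      _ = a⁻¹ * a ^ (2 ^ m) := by rw [e, one_mul, zpow_neg_one, z_zpow]

/-- `z = a^(2^m)` is centralised by any `b` of one of the four types -/
theorem conj_z (ha : orderOf a = 2 ^ (m + 1)) (hm : 1 ≤ m) {b : G}
    (hc : b * a * b⁻¹ = a ∨ b * a * b⁻¹ = a * a ^ (2 ^ m) ∨ b * a * b⁻¹ = a⁻¹ ∨
      b * a * b⁻¹ = a⁻¹ * a ^ (2 ^ m)) :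
    b * a ^ (2 ^ m) * b⁻¹ = a ^ (2 ^ m) := by
  have hz := z_sq ha
  obtain ⟨m₁, rfl⟩ : ∃ m₁, m = m₁ + 1 := ⟨m - 1, by omega⟩
  have hzpow' : ∀ X : G, X * X = 1 → X ^ (2 ^ (m₁ + 1)) = 1 := by
    intro X hX
    rw [pow_succ', pow_mul, pow_two, hX, one_pow]
  have hzpow : (a ^ (2 ^ (m₁ + 1))) ^ (2 ^ (m₁ + 1)) = 1 := hzpow' _ hz
  have hzinv : (a ^ (2 ^ (m₁ + 1)))⁻¹ = a ^ (2 ^ (m₁ + 1)) := inv_eq_of_mul_eq_one_left hz
  rw [← conj_pow]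
  rcases hc with h | h | h | h
  · rw [h]
  · rw [h, (Commute.pow_right (Commute.refl a) _).mul_pow, hzpow, mul_one]
  · rw [h, inv_pow, hzinv]
  · rw [h, (Commute.pow_right (Commute.refl a).inv_left _).mul_pow, hzpow, mul_one, inv_pow, hzinv]

theorem inv_type_sq (ha : orderOf a = 2 ^ (m + 1)) {b : G} (hc : b * a * b⁻¹ = a⁻¹)
    (hbb : b * b ∈ Subgroup.zpowers a) : b * b = 1 ∨ b * b = a ^ (2 ^ m) := by
  apply sq_one_mem_zpowers ha hbb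
  obtain ⟨j, hj⟩ := Subgroup.mem_zpowers_iff.mp hbb
  have h1 : b * (b * b) * b⁻¹ = b * b := by group
  have h2 : b * a ^ j * b⁻¹ = (a ^ j)⁻¹ := by rw [conj_zpow' hc, inv_zpow]
  rw [hj, h1] at h2
  exact mul_eq_one_iff_eq_inv.mpr h2

theorem invz_type_sq (ha : orderOf a = 2 ^ (m + 1)) (hm : 2 ≤ m) {b : G}
    (hc : b * a * b⁻¹ = a⁻¹ * a ^ (2 ^ m))
    (hbb : b * b ∈ Subgroup.zpowers a) : b * b = 1 ∨ b * b = a ^ (2 ^ m) := by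
  apply sq_one_mem_zpowers ha hbb
  obtain ⟨j, hj⟩ := Subgroup.mem_zpowers_iff.mp hbb
  have hz := z_sq ha
  have h1 : b * (b * b) * b⁻¹ = b * b := by group
  have h2 : b * a ^ j * b⁻¹ = (a ^ j)⁻¹ * (a ^ (2 ^ m)) ^ j := by
    rw [conj_zpow' hc, (Commute.pow_right (Commute.refl a).inv_left _).mul_zpow, inv_zpow]
  rw [hj, h1] at h2
  have h3 : (b * b) * (b * b) = (a ^ (2 ^ m)) ^ j := by
    calc (b * b) * (b * b) = (b * b) * ((b * b)⁻¹ * (a ^ (2 ^ m)) ^ j) := by rw [← h2]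
      _ = (a ^ (2 ^ m)) ^ j := by group
  rcases Int.even_or_odd j with ⟨t, ht⟩ | ⟨t, ht⟩
  · rw [h3, ht, ← two_mul]
    exact sq_zpow_even hz t
  · exfalso
    rw [ht, sq_zpow_odd hz, ← hj, ← zpow_add, ← z_zpow] at h3
    have h4 : a ^ (j + j - (2 : ℤ) ^ m) = 1 := by
      rw [zpow_sub, h3, mul_inv_cancel]
    have h5 := dvd_of_zpow_eq_one ha h4
    obtain ⟨m₂, rfl⟩ : ∃ m₂, m = m₂ + 2 := ⟨m - 2, by omega⟩
    push_cast at h5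
    obtain ⟨d, hd⟩ := h5
    have e1 : (2 : ℤ) ^ (m₂ + 2) = 4 * 2 ^ m₂ := by ring
    have e2 : (2 : ℤ) ^ (m₂ + 2 + 1) = 8 * 2 ^ m₂ := by ring
    rw [e1, e2] at hd
    have h6 : (4 : ℤ) ∣ j + j - 4 * 2 ^ m₂ := ⟨2 * 2 ^ m₂ * d, by rw [hd]; ring⟩
    generalize (2 : ℤ) ^ m₂ = w at h6
    omega

theorem invz_fix (ha : orderOf a = 2 ^ (m + 1)) {b : G}
    (hc : b * a * b⁻¹ = a⁻¹ * a ^ (2 ^ m)) (hbb : b * b = a ^ (2 ^ m)) :
    (a * b) * (a * b) = 1 ∧ (a * b) * a * (a * b)⁻¹ = a⁻¹ * a ^ (2 ^ m) := by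
  have hz := z_sq ha
  constructor
  · calc (a * b) * (a * b) = a * (b * a * b⁻¹) * (b * b) := by group
      _ = a * (a⁻¹ * a ^ (2 ^ m)) * a ^ (2 ^ m) := by rw [hc, hbb]
      _ = a ^ (2 ^ m) * a ^ (2 ^ m) := by group
      _ = 1 := hz
  · calc (a * b) * a * (a * b)⁻¹ = a * (b * a * b⁻¹) * a⁻¹ := by group
      _ = a * (a⁻¹ * a ^ (2 ^ m)) * a⁻¹ := by rw [hc]
      _ = a ^ (2 ^ m) * a⁻¹ := by group
      _ = a⁻¹ * a ^ (2 ^ m) := ((Commute.pow_right (Commute.refl a).inv_left _).eq).symm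

theorem conj_mul_left {x b : G} (hx : x ∈ Subgroup.zpowers a)
    (hc : b * a * b⁻¹ ∈ Subgroup.zpowers a) : (x * b) * a * (x * b)⁻¹ = b * a * b⁻¹ := by
  obtain ⟨i, rfl⟩ := Subgroup.mem_zpowers_iff.mp hx
  obtain ⟨e, he⟩ := Subgroup.mem_zpowers_iff.mp hc
  calc (a ^ i * b) * a * (a ^ i * b)⁻¹ = a ^ i * (b * a * b⁻¹) * (a ^ i)⁻¹ := by group
    _ = a ^ i * a ^ e * (a ^ i)⁻¹ := by rw [he]
    _ = a ^ e := by rw [← zpow_neg, ← zpow_add, ← zpow_add]; congr 1; ring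
    _ = b * a * b⁻¹ := he

theorem z_type_sq (ha : orderOf a = 2 ^ (m + 1)) (hm : 2 ≤ m) {b : G}
    (hc : b * a * b⁻¹ = a * a ^ (2 ^ m)) (hbb : b * b ∈ Subgroup.zpowers a) :
    ∃ i : ℤ, (a ^ i * b) * (a ^ i * b) = 1 := by
  obtain ⟨j, hj⟩ := Subgroup.mem_zpowers_iff.mp hbb
  have hz := z_sq ha
  have hz1 := z_ne_one ha
  have hc' : b * a * b⁻¹ = a ^ (1 + (2 : ℤ) ^ m) := by
    rw [hc, zpow_add, zpow_one, z_zpow]
  have h1 : b * (b * b) * b⁻¹ = b * b := by group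
  have h2 : b * a ^ j * b⁻¹ = a ^ j * (a ^ (2 ^ m)) ^ j := by
    rw [conj_zpow' hc, (Commute.pow_right (Commute.refl a) _).mul_zpow]
  rw [hj, h1] at h2
  have h3 : (a ^ (2 ^ m)) ^ j = 1 := by
    have : b * b * (a ^ (2 ^ m)) ^ j = b * b * 1 := by rw [mul_one]; exact h2.symm
    exact mul_left_cancel this
  obtain ⟨j', rfl⟩ : ∃ j', j = 2 * j' := by
    rcases Int.even_or_odd j with ⟨t, ht⟩ | ⟨t, ht⟩
    · exact ⟨t, by rw [ht]; ring⟩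
    · exfalso
      rw [ht, sq_zpow_odd hz] at h3
      exact hz1 h3
  have formula : ∀ i : ℤ, (a ^ i * b) * (a ^ i * b) = a ^ (i + (1 + (2 : ℤ) ^ m) * i + 2 * j') := by
    intro i
    calc (a ^ i * b) * (a ^ i * b) = a ^ i * (b * a ^ i * b⁻¹) * (b * b) := by group
      _ = a ^ i * a ^ ((1 + (2 : ℤ) ^ m) * i) * a ^ (2 * j') := by
          rw [conj_zpow' hc', ← zpow_mul, hj]
      _ = a ^ (i + (1 + (2 : ℤ) ^ m) * i + 2 * j') := by rw [← zpow_add, ← zpow_add]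
  obtain ⟨m₂, rfl⟩ : ∃ m₂, m = m₂ + 2 := ⟨m - 2, by omega⟩
  have hord : ((2 ^ (m₂ + 2 + 1) : ℕ) : ℤ) = (2 : ℤ) ^ (m₂ + 2 + 1) := by push_cast; rfl
  rcases Int.even_or_odd j' with ⟨s, hs⟩ | ⟨s, hs⟩
  · refine ⟨-j', ?_⟩
    rw [formula]
    apply zpow_eq_one_of_dvd ha
    rw [hord]
    exact ⟨-s, by rw [hs]; ring⟩
  · refine ⟨-j' + 2 ^ (m₂ + 1), ?_⟩
    rw [formula]
    apply zpow_eq_one_of_dvd ha
    rw [hord]
    exact ⟨-s + 2 ^ m₂, by rw [hs]; ring⟩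

theorem inv_mul_pow_pred (a : G) (N : ℕ) (hN : 1 ≤ N) : a⁻¹ * a ^ N = a ^ (N - 1) := by
  obtain ⟨N', rfl⟩ : ∃ N', N = N' + 1 := ⟨N - 1, by omega⟩
  rw [pow_succ', inv_mul_cancel_left, Nat.add_sub_cancel]

end two

end Cfsg.Agent.Helper4.CycNormal
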