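import Mathlib
import Cfsg.Agent.Helper4.CycNormal
import Cfsg.Agent.Helper4.Four
import Cfsg.Agent.Helper1.Critical

set_option autoImplicit false

namespace Cfsg.Agent.Helper4.Taussky

open Cfsg.Agent.Helper4.CycNormal
open scoped commutatorElement

/-- a group in which the commutator subgroup has index `4 < |S|` is not commutative -/
theorem not_comm_of_index {S : Type*} [Group S] [Finite S] (hidx : (commutator S).index = 4)
    (hcard : Nat.card S ≠ 4) : ¬ (∀ a b : S, a * b = b * a) := by
  intro hc
  have h1 : commutator S = ⊥ := by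
    rw [commutator_eq_bot_iff_center_eq_top]
    exact eq_top_iff.mpr (fun z _ => Subgroup.mem_center_iff.mpr (fun g => hc g z))
  rw [h1, Subgroup.index_bot] at hidx
  exact hcard hidx

/-- if `A` is an abelian subgroup of index `2`, `y ∉ A`, and all commutators `[a, y]` with
`a ∈ A` lie in the normal subgroup `N`, then `S' ≤ N`. -/
theorem commutator_le_of_index_two {S : Type*} [Group S] (A : Subgroup S) (hAidx : A.index = 2)
    (hAcomm : ∀ a ∈ A, ∀ b ∈ A, a * b = b * a) (y : S) (hy : y ∉ A) (N : Subgroup S)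
    [hN : N.Normal] (h : ∀ a ∈ A, a * y * a⁻¹ * y⁻¹ ∈ N) : commutator S ≤ N := by
  have hsplit : ∀ s : S, s ∈ A ∨ s * y⁻¹ ∈ A := by
    intro s
    by_cases hs : s ∈ A
    · exact Or.inl hs
    · right
      have := (Subgroup.mul_mem_iff_of_index_two hAidx (a := s) (b := y⁻¹))
      rw [this]
      constructor
      · intro h; exact (hs h).elim
      · intro h; exact (hy (by simpa using h)).elim
  have hcy : ∀ a ∈ A, Commute (QuotientGroup.mk' N a) (QuotientGroup.mk' N y) := by
    intro a ha
    rw [← commutatorElement_eq_one_iff_commute, ← map_commutatorElement,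
      commutatorElement_def]
    exact (QuotientGroup.eq_one_iff _).mpr (h a ha)
  have hcA : ∀ a ∈ A, ∀ b ∈ A,
      Commute (QuotientGroup.mk' N a) (QuotientGroup.mk' N b) := by
    intro a ha b hb
    show QuotientGroup.mk' N a * QuotientGroup.mk' N b =
      QuotientGroup.mk' N b * QuotientGroup.mk' N a
    rw [← map_mul, ← map_mul, hAcomm a ha b hb]
  have hrep : ∀ s : S, ∃ a ∈ A, QuotientGroup.mk' N s = QuotientGroup.mk' N a ∨
      QuotientGroup.mk' N s =
        QuotientGroup.mk' N a * QuotientGroup.mk' N y := by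
    intro s
    rcases hsplit s with hs | hs
    · exact ⟨s, hs, Or.inl rfl⟩
    · refine ⟨s * y⁻¹, hs, Or.inr ?_⟩
      rw [← map_mul]; congr 1; group
  have hcomm_all : ∀ s t : S,
      Commute (QuotientGroup.mk' N s) (QuotientGroup.mk' N t) := by
    intro s t
    obtain ⟨a, ha, h1 | h1⟩ := hrep s <;> obtain ⟨b, hb, h2 | h2⟩ := hrep t
    · rw [h1, h2]; exact hcA a ha b hb
    · rw [h1, h2]; exact (hcA a ha b hb).mul_right (hcy a ha)
    · rw [h1, h2]; exact (hcA a ha b hb).mul_left (hcy b hb).symm
    · rw [h1, h2]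
      exact ((hcA a ha b hb).mul_right (hcy a ha)).mul_left
        ((hcy b hb).symm.mul_right (Commute.refl _))
  rw [_root_.commutator_def, Subgroup.commutator_le]
  intro s _ t _
  apply (QuotientGroup.eq_one_iff _).mp
  show QuotientGroup.mk' N ⁅s, t⁆ = 1
  rw [map_commutatorElement, commutatorElement_eq_one_iff_commute]
  exact hcomm_all s t

/-- **Taussky**, key step: a `2`-group of order at least `8` with `|S : S'| = 4` has a cyclic
subgroup of index `2`. -/
theorem exists_cyclic_index_two.{u} (n : ℕ) : ∀ (S : Type u) [Group S] [Finite S],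
    Nat.card S = 2 ^ (n + 3) → (commutator S).index = 4 →
    ∃ A : Subgroup S, IsCyclic A ∧ A.index = 2 := by
  induction n with
  | zero =>
    intro S _ _ hcard hidx
    have hnc := not_comm_of_index hidx (by rw [hcard]; norm_num)
    obtain ⟨x, hx⟩ : ∃ x : S, x ^ 2 ≠ 1 := by
      by_contra hcon
      push Not at hcon
      apply hnc
      intro a b
      have h1 := hcon (a * b)
      have h2 := hcon a
      have h3 := hcon b
      rw [pow_two] at h1 h2 h3
      have e1 : b * a = a⁻¹ * (a * b * (a * b)) * b⁻¹ := by group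
      rw [e1, h1, inv_eq_of_mul_eq_one_left h2, inv_eq_of_mul_eq_one_left h3, mul_one]
    have hdvd : orderOf x ∣ 2 ^ 3 := by
      have := orderOf_dvd_natCard x
      rwa [hcard] at this
    obtain ⟨k, hk, hk2⟩ := (Nat.dvd_prime_pow Nat.prime_two).mp hdvd
    have hk1 : k ≠ 0 := by
      rintro rfl
      rw [pow_zero, orderOf_eq_one_iff] at hk2
      exact hx (by rw [hk2, one_pow])
    have hk1' : k ≠ 1 := by
      rintro rfl
      apply hx
      have := pow_orderOf_eq_one x
      rwa [hk2, pow_one] at this
    have hk3 : k ≠ 3 := by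
      rintro rfl
      apply hnc
      have htop : ∀ g : S, g ∈ Subgroup.zpowers x := by
        intro g
        have : Subgroup.zpowers x = ⊤ := by
          apply Subgroup.eq_top_of_card_eq
          rw [Nat.card_zpowers, hk2, hcard]
        rw [this]; exact Subgroup.mem_top g
      intro a b
      obtain ⟨i, rfl⟩ := Subgroup.mem_zpowers_iff.mp (htop a)
      obtain ⟨j, rfl⟩ := Subgroup.mem_zpowers_iff.mp (htop b)
      exact (Commute.zpow_zpow_self x i j).eq
    have hk4 : k = 2 := by omega
    subst hk4
    refine ⟨Subgroup.zpowers x, Subgroup.isCyclic_zpowers x, ?_⟩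
    have := (Subgroup.zpowers x).card_mul_index
    rw [Nat.card_zpowers, hk2, hcard] at this
    omega
  | succ n ih =>
    intro S _ _ hcard hidx
    have hP : IsPGroup 2 S := IsPGroup.of_card hcard
    have hfact : Fact (Nat.Prime 2) := ⟨Nat.prime_two⟩
    have hS'card : Nat.card (commutator S) = 2 ^ (n + 2) := by
      have := (commutator S).card_mul_index
      rw [hidx, hcard] at this
      have e : 2 ^ (n + 1 + 3) = 2 ^ (n + 2) * 4 := by ring
      omega
    have hS'ne : commutator S ≠ ⊥ := by
      intro h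
      rw [h, Subgroup.card_bot] at hS'card
      have : 1 < 2 ^ (n + 2) := Nat.one_lt_two_pow (by omega)
      omega
    obtain ⟨z, hzS', hz1, hzc⟩ :=
      Cfsg.Agent.Helper1.exists_mem_centerOmega hP (commutator S) hS'ne
    have hzcen : ∀ g : S, g * z = z * g := Subgroup.mem_center_iff.mp hzc.1
    have hz2 : z ^ 2 = 1 := hzc.2
    have hzz : z * z = 1 := by rw [← pow_two]; exact hz2
    have hzord : orderOf z = 2 := orderOf_eq_prime hz2 hz1
    have hNn : (Subgroup.zpowers z).Normal := by
      constructor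
      intro m hm g
      obtain ⟨i, rfl⟩ := Subgroup.mem_zpowers_iff.mp hm
      have : g * z ^ i * g⁻¹ = z ^ i := by
        rw [(Commute.zpow_right (hzcen g) i).eq, mul_inv_cancel_right]
      rw [this]
      exact zpow_mem (Subgroup.mem_zpowers z) i
    have hNcard : Nat.card (Subgroup.zpowers z) = 2 := by rw [Nat.card_zpowers, hzord]
    have hQcard : Nat.card (S ⧸ Subgroup.zpowers z) = 2 ^ (n + 3) := by
      have := Subgroup.card_eq_card_quotient_mul_card_subgroup (Subgroup.zpowers z)
      rw [hcard, hNcard] at this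
      have e : 2 ^ (n + 1 + 3) = 2 ^ (n + 3) * 2 := by ring
      omega
    have hNS' : Subgroup.zpowers z ≤ commutator S := Subgroup.zpowers_le.mpr hzS'
    have hQidx : (commutator (S ⧸ Subgroup.zpowers z)).index = 4 := by
      have e1 : commutator (S ⧸ Subgroup.zpowers z) =
          (commutator S).map (QuotientGroup.mk' (Subgroup.zpowers z)) := by
        rw [_root_.commutator_def (S ⧸ Subgroup.zpowers z), _root_.commutator_def S,
          Subgroup.map_commutator,
          Subgroup.map_top_of_surjective _ (QuotientGroup.mk'_surjective _)]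
      rw [e1, Subgroup.index_map, QuotientGroup.ker_mk', QuotientGroup.range_mk',
        Subgroup.index_top, mul_one, sup_eq_left.mpr hNS', hidx]
    obtain ⟨Abar, hAcyc, hAbidx⟩ := ih (S ⧸ Subgroup.zpowers z) hQcard hQidx
    have hAidx : (Abar.comap (QuotientGroup.mk' (Subgroup.zpowers z))).index = 2 := by
      rw [Subgroup.index_comap_of_surjective _ (QuotientGroup.mk'_surjective _), hAbidx]
    have hAbcard : Nat.card Abar = 2 ^ (n + 2) := by
      have := Abar.card_mul_index
      rw [hAbidx, hQcard] at this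
      have e : 2 ^ (n + 3) = 2 ^ (n + 2) * 2 := by ring
      omega
    obtain ⟨g, hg⟩ := hAcyc.exists_generator
    have hgord : orderOf g = 2 ^ (n + 2) := by
      rw [orderOf_eq_card_of_forall_mem_zpowers hg, hAbcard]
    obtain ⟨x, hx⟩ := QuotientGroup.mk'_surjective (Subgroup.zpowers z) g.1
    set A := Abar.comap (QuotientGroup.mk' (Subgroup.zpowers z)) with hA
    have hxA : x ∈ A := by rw [hA, Subgroup.mem_comap, hx]; exact g.2
    have hzA : z ∈ A := by
      rw [hA, Subgroup.mem_comap]
      have : QuotientGroup.mk' (Subgroup.zpowers z) z = 1 :=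
        (QuotientGroup.eq_one_iff z).mpr (Subgroup.mem_zpowers z)
      rw [this]; exact one_mem _
    have hmk : ∀ (k : ℕ), x ^ k ∈ Subgroup.zpowers z → g ^ k = 1 := by
      intro k hk
      apply Subtype.ext
      rw [Subgroup.coe_pow, ← hx, ← map_pow]
      exact (QuotientGroup.eq_one_iff _).mpr hk
    have hform : ∀ a ∈ A, ∃ i : ℤ, ∃ j : ℤ, a = x ^ i * z ^ j := by
      intro a ha
      have ha' : QuotientGroup.mk' (Subgroup.zpowers z) a ∈ Abar := ha
      obtain ⟨i, hi⟩ := Subgroup.mem_zpowers_iff.mp (hg ⟨_, ha'⟩)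
      have h1 : QuotientGroup.mk' (Subgroup.zpowers z) (x ^ i) =
          QuotientGroup.mk' (Subgroup.zpowers z) a := by
        rw [map_zpow, hx]
        have := congrArg Subtype.val hi
        simpa using this
      have h2 : (x ^ i)⁻¹ * a ∈ Subgroup.zpowers z := QuotientGroup.eq.mp h1
      obtain ⟨j, hj⟩ := Subgroup.mem_zpowers_iff.mp h2
      exact ⟨i, j, by rw [hj]; group⟩
    have hzx : Commute z x := (hzcen x).symm
    have hAcomm : ∀ a ∈ A, ∀ b ∈ A, a * b = b * a := by
      intro a ha b hb
      obtain ⟨i, j, rfl⟩ := hform a ha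
      obtain ⟨i', j', rfl⟩ := hform b hb
      have h1 : Commute (x ^ i) (x ^ i') := Commute.zpow_zpow_self x i i'
      have h2 : Commute (x ^ i) (z ^ j') := (hzx.symm.zpow_left i).zpow_right j'
      have h3 : Commute (z ^ j) (x ^ i') := (hzx.zpow_left j).zpow_right i'
      have h4 : Commute (z ^ j) (z ^ j') := Commute.zpow_zpow_self z j j'
      exact ((h1.mul_right h2).mul_left (h3.mul_right h4)).eq
    have hxpow : x ^ (2 ^ (n + 2)) ∈ Subgroup.zpowers z := by
      have h1 : QuotientGroup.mk' (Subgroup.zpowers z) (x ^ (2 ^ (n + 2))) = 1 := by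
        rw [map_pow, hx, ← Subgroup.coe_pow, ← hgord, pow_orderOf_eq_one]
        rfl
      exact (QuotientGroup.eq_one_iff _).mp h1
    obtain ⟨e, he⟩ := Subgroup.mem_zpowers_iff.mp hxpow
    rcases sq_zpow_cases hzz e with h1 | h1
    · -- x^(2^(n+2)) = 1 : contradiction
      exfalso
      rw [h1] at he
      have hw2 : x ^ (2 ^ (n + 1)) * x ^ (2 ^ (n + 1)) = 1 := by
        rw [← pow_add, ← two_mul, ← pow_succ', ← he]
      have hwN : x ^ (2 ^ (n + 1)) ∉ Subgroup.zpowers z := by
        intro hmem
        have h2 := orderOf_dvd_of_pow_eq_one (hmk _ hmem)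
        rw [hgord] at h2
        have h3 := Nat.le_of_dvd (by positivity) h2
        have h4 : 2 ^ (n + 1) < 2 ^ (n + 2) := Nat.pow_lt_pow_right (by norm_num) (by omega)
        omega
      have hw1 : x ^ (2 ^ (n + 1)) ≠ 1 := fun h => hwN (h ▸ one_mem _)
      have hwz : z ≠ x ^ (2 ^ (n + 1)) := fun h => hwN (h ▸ Subgroup.mem_zpowers z)
      have hAn : A.Normal := Subgroup.normal_of_index_eq_two hAidx
      obtain ⟨y, hy⟩ : ∃ y : S, y ∉ A := by
        by_contra hcon
        push Not at hcon
        have : A = ⊤ := eq_top_iff.mpr (fun s _ => hcon s)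
        rw [this, Subgroup.index_top] at hAidx
        omega
      -- y centralises w
      have hyw : y * x ^ (2 ^ (n + 1)) = x ^ (2 ^ (n + 1)) * y := by
        obtain ⟨i, j, hij⟩ := hform _ (hAn.conj_mem x hxA y)
        have h2 : y * x ^ (2 ^ (n + 1)) * y⁻¹ = (x ^ (2 ^ (n + 1))) ^ i := by
          rw [← conj_pow, hij, (hzx.symm.zpow_left i |>.zpow_right j).mul_pow, ← zpow_natCast,
            ← zpow_natCast (z ^ j), ← zpow_mul, ← zpow_mul, mul_comm j, zpow_mul z, zpow_natCast z,
            pow_succ', pow_mul, hz2, one_pow, one_zpow, mul_one, mul_comm i, zpow_mul, zpow_natCast]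
        rcases sq_zpow_cases hw2 i with h3 | h3
        · exfalso
          rw [h3] at h2
          apply hw1
          have : x ^ (2 ^ (n + 1)) = y⁻¹ * (y * x ^ (2 ^ (n + 1)) * y⁻¹) * y := by group
          rw [this, h2]; group
        · rw [h3] at h2
          exact mul_inv_eq_iff_eq_mul.mp h2
      have hwA : x ^ (2 ^ (n + 1)) ∈ A := pow_mem hxA _
      -- the commutator map
      have hconjA : ∀ a ∈ A, y * a⁻¹ * y⁻¹ ∈ A := fun a ha => hAn.conj_mem _ (inv_mem ha) y
      obtain ⟨τ, hτ⟩ : ∃ τ : A →* S, ∀ a : A, τ a = (a : S) * (y * (a : S)⁻¹ * y⁻¹) := by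
        refine ⟨MonoidHom.mk' (fun a : A => (a : S) * (y * (a : S)⁻¹ * y⁻¹)) ?_, fun a => rfl⟩
        intro a b
        show ((a * b : A) : S) * (y * ((a * b : A) : S)⁻¹ * y⁻¹) =
          (a : S) * (y * (a : S)⁻¹ * y⁻¹) * ((b : S) * (y * (b : S)⁻¹ * y⁻¹))
        have e1 : (y * (a : S)⁻¹ * y⁻¹) * (b : S) = (b : S) * (y * (a : S)⁻¹ * y⁻¹) :=
          hAcomm _ (hconjA _ a.2) _ b.2
        have e2 : (y * (b : S)⁻¹ * y⁻¹) * (y * (a : S)⁻¹ * y⁻¹) =
            (y * (a : S)⁻¹ * y⁻¹) * (y * (b : S)⁻¹ * y⁻¹) :=
          hAcomm _ (hconjA _ b.2) _ (hconjA _ a.2)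
        calc ((a * b : A) : S) * (y * ((a * b : A) : S)⁻¹ * y⁻¹)
            = (a : S) * (b : S) * ((y * (b : S)⁻¹ * y⁻¹) * (y * (a : S)⁻¹ * y⁻¹)) := by
              rw [Subgroup.coe_mul]; group
          _ = (a : S) * ((b : S) * (y * (a : S)⁻¹ * y⁻¹)) * (y * (b : S)⁻¹ * y⁻¹) := by
              rw [e2]; group
          _ = (a : S) * (y * (a : S)⁻¹ * y⁻¹) * ((b : S) * (y * (b : S)⁻¹ * y⁻¹)) := by
              rw [← e1]; group
      have hτA : ∀ a : A, τ a ∈ A := fun a => by
        rw [hτ]; exact mul_mem a.2 (hconjA _ a.2)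
      -- the kernel has at least four elements
      have hker4 : 4 ≤ Nat.card τ.ker := by
        have hzw : z * x ^ (2 ^ (n + 1)) = x ^ (2 ^ (n + 1)) * z := (hzx.pow_right _).eq
        have hV := Cfsg.Agent.Helper4.Four.four_card (hx := hzz) (hy := hw2) (hxy := hzw) hz1 hw1 hwz
        rw [← hV]
        have hVA : ∀ v ∈ Cfsg.Agent.Helper4.Four.four z (x ^ (2 ^ (n + 1))) hzz hw2 hzw, v ∈ A :=
          fun v hv => Cfsg.Agent.Helper4.Four.four_le hzA hwA hv
        have hVc : ∀ v ∈ Cfsg.Agent.Helper4.Four.four z (x ^ (2 ^ (n + 1))) hzz hw2 hzw,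
            y * v = v * y :=
          fun v hv => Cfsg.Agent.Helper4.Four.four_commute hv (hzcen y) hyw
        apply Nat.card_le_card_of_injective
          (fun v : Cfsg.Agent.Helper4.Four.four z (x ^ (2 ^ (n + 1))) hzz hw2 hzw =>
            (⟨⟨v.1, hVA v.1 v.2⟩, by
              rw [MonoidHom.mem_ker, hτ]
              show v.1 * (y * v.1⁻¹ * y⁻¹) = 1
              have := hVc v.1 v.2
              calc v.1 * (y * v.1⁻¹ * y⁻¹) = (v.1 * y) * v.1⁻¹ * y⁻¹ := by group
                _ = 1 := by rw [← this]; group⟩ : τ.ker))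
        intro v v' hvv
        have := congrArg (fun t : τ.ker => ((t : A) : S)) hvv
        exact Subtype.ext this
      have hrange : Nat.card τ.range * 4 ≤ 2 ^ (n + 3) := by
        have h2 := τ.ker.card_mul_index
        rw [Subgroup.index_ker] at h2
        have hAcard : Nat.card A = 2 ^ (n + 3) := by
          have := A.card_mul_index
          rw [hAidx, hcard] at this
          have e : 2 ^ (n + 1 + 3) = 2 ^ (n + 3) * 2 := by ring
          omega
        rw [hAcard] at h2
        calc Nat.card τ.range * 4 ≤ Nat.card τ.range * Nat.card τ.ker :=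
              Nat.mul_le_mul_left _ hker4
          _ = 2 ^ (n + 3) := by rw [mul_comm]; exact h2
      -- the range is normal with abelian quotient
      have hsplit : ∀ s : S, s ∈ A ∨ s * y⁻¹ ∈ A := by
        intro s
        by_cases hs : s ∈ A
        · exact Or.inl hs
        · right
          have := (Subgroup.mul_mem_iff_of_index_two hAidx (a := s) (b := y⁻¹))
          rw [this]
          constructor
          · intro h; exact (hs h).elim
          · intro h; exact (hy (by simpa using h)).elim
      have hτmem : ∀ a ∈ A, a * (y * a⁻¹ * y⁻¹) ∈ τ.range := fun a ha => ⟨⟨a, ha⟩, hτ _⟩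
      have hTA : ∀ t ∈ τ.range, t ∈ A := by
        rintro _ ⟨a, rfl⟩
        exact hτA a
      have hTn : τ.range.Normal := by
        constructor
        intro t ht s
        obtain ⟨b, rfl⟩ := ht
        have hyt : y * τ b * y⁻¹ ∈ τ.range := by
          have h3 := hτmem (y * (b : S) * y⁻¹) (hAn.conj_mem _ b.2 y)
          have e : y * τ b * y⁻¹ = (y * (b : S) * y⁻¹) * (y * (y * (b : S) * y⁻¹)⁻¹ * y⁻¹) := by
            rw [hτ]; group
          rw [e]; exact h3
        rcases hsplit s with hs | hs
        · have : s * τ b * s⁻¹ = τ b := by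
            rw [hAcomm s hs (τ b) (hτA b), mul_inv_cancel_right]
          rw [this]; exact ⟨b, rfl⟩
        · have e : s * τ b * s⁻¹ = (s * y⁻¹) * (y * τ b * y⁻¹) * (s * y⁻¹)⁻¹ := by group
          have : (s * y⁻¹) * (y * τ b * y⁻¹) * (s * y⁻¹)⁻¹ = y * τ b * y⁻¹ := by
            rw [hAcomm _ hs _ (hTA _ hyt), mul_inv_cancel_right]
          rw [e, this]; exact hyt
      have hcy : ∀ a ∈ A, Commute (QuotientGroup.mk' τ.range a) (QuotientGroup.mk' τ.range y) := by
        intro a ha
        rw [← commutatorElement_eq_one_iff_commute, ← map_commutatorElement,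
          commutatorElement_def]
        apply (QuotientGroup.eq_one_iff _).mpr
        have := hτmem a ha
        have e : a * y * a⁻¹ * y⁻¹ = a * (y * a⁻¹ * y⁻¹) := by group
        rw [e]; exact this
      have hcA : ∀ a ∈ A, ∀ b ∈ A,
          Commute (QuotientGroup.mk' τ.range a) (QuotientGroup.mk' τ.range b) := by
        intro a ha b hb
        show QuotientGroup.mk' τ.range a * QuotientGroup.mk' τ.range b =
          QuotientGroup.mk' τ.range b * QuotientGroup.mk' τ.range a
        rw [← map_mul, ← map_mul, hAcomm a ha b hb]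
      have hrep : ∀ s : S, ∃ a ∈ A, QuotientGroup.mk' τ.range s = QuotientGroup.mk' τ.range a ∨
          QuotientGroup.mk' τ.range s =
            QuotientGroup.mk' τ.range a * QuotientGroup.mk' τ.range y := by
        intro s
        rcases hsplit s with hs | hs
        · exact ⟨s, hs, Or.inl rfl⟩
        · refine ⟨s * y⁻¹, hs, Or.inr ?_⟩
          rw [← map_mul]; congr 1; group
      have hcomm_all : ∀ s t : S,
          Commute (QuotientGroup.mk' τ.range s) (QuotientGroup.mk' τ.range t) := by
        intro s t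
        obtain ⟨a, ha, h1 | h1⟩ := hrep s <;> obtain ⟨b, hb, h2 | h2⟩ := hrep t
        · rw [h1, h2]; exact hcA a ha b hb
        · rw [h1, h2]; exact (hcA a ha b hb).mul_right (hcy a ha)
        · rw [h1, h2]; exact (hcA a ha b hb).mul_left (hcy b hb).symm
        · rw [h1, h2]
          exact ((hcA a ha b hb).mul_right (hcy a ha)).mul_left
            ((hcy b hb).symm.mul_right (Commute.refl _))
      have hle : commutator S ≤ τ.range := by
        rw [_root_.commutator_def, Subgroup.commutator_le]
        intro s _ t _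
        apply (QuotientGroup.eq_one_iff _).mp
        show QuotientGroup.mk' τ.range ⁅s, t⁆ = 1
        rw [map_commutatorElement, commutatorElement_eq_one_iff_commute]
        exact hcomm_all s t
      have h5 := Subgroup.card_le_of_le hle
      rw [hS'card] at h5
      have e : 2 ^ (n + 3) = 2 ^ (n + 2) * 2 := by ring
      have hpos : 0 < 2 ^ (n + 2) := by positivity
      omega
    · -- x^(2^(n+2)) = z : A is cyclic
      rw [h1] at he
      refine ⟨Subgroup.zpowers x, Subgroup.isCyclic_zpowers x, ?_⟩
      have hAx : A = Subgroup.zpowers x := by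
        apply le_antisymm
        · intro a ha
          obtain ⟨i, j, rfl⟩ := hform a ha
          apply mul_mem (zpow_mem (Subgroup.mem_zpowers x) i)
          rw [he]
          exact zpow_mem (pow_mem (Subgroup.mem_zpowers x) _) j
        · exact Subgroup.zpowers_le.mpr hxA
      rw [← hAx]; exact hAidx

end Cfsg.Agent.Helper4.Taussky
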