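import Mathlib
import Cfsg.Agent.Helper4.Taussky
import Cfsg.Agent.S0646
import Cfsg.Agent.Helper9.Recog
import Cfsg.Agent.Helper1.MaxClass

set_option autoImplicit false

namespace Cfsg.Agent.Helper4.Suzuki2

open scoped commutatorElement

/-- **Taussky** in terms of the index of the derived subgroup -/
theorem dsq_of_index {S : Type*} [Group S] [Finite S] (h2 : IsPGroup 2 S)
    (hidx : (commutator S).index = 4) :
    Nat.card S = 4 ∨
    ((∃ k : ℕ, Nonempty (S ≃* DihedralGroup (2 ^ (k + 2)))) ∨
      (∃ k : ℕ, Nat.card S = 2 ^ (k + 4) ∧ ∃ a b : S, orderOf a = 2 ^ (k + 3) ∧ orderOf b = 2 ∧ b * a * b⁻¹ = a ^ (2 ^ (k + 2) - 1)) ∨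
      (∃ k : ℕ, Nonempty (S ≃* QuaternionGroup (2 ^ (k + 1))))) := by
  obtain ⟨m, hm⟩ := IsPGroup.iff_card.mp h2
  have hci := (commutator S).card_mul_index
  rw [hidx, hm] at hci
  have hm2 : 2 ≤ m := by
    by_contra hlt
    have hm1 : m ≤ 1 := by omega
    have h1 : 2 ^ m ≤ 2 ^ 1 := Nat.pow_le_pow_right (by norm_num) hm1
    have h3 : 0 < Nat.card (commutator S) := Nat.card_pos
    omega
  by_cases hm3 : m = 2
  · left; rw [hm, hm3]; norm_num
  right
  obtain ⟨n, rfl⟩ : ∃ n, m = n + 3 := ⟨m - 3, by omega⟩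
  obtain ⟨A, hAcyc, hAidx⟩ := Cfsg.Agent.Helper4.Taussky.exists_cyclic_index_two n S hm hidx
  have hne4 : Nat.card S ≠ 4 := by
    rw [hm]
    have : 2 ^ 3 ≤ 2 ^ (n + 3) := Nat.pow_le_pow_right (by norm_num) (by omega)
    omega
  have hnc := Cfsg.Agent.Helper4.Taussky.not_comm_of_index hidx hne4
  have hna : ∃ x y : S, x * y ≠ y * x := by
    by_contra hcon
    push Not at hcon
    exact hnc hcon
  obtain ⟨a, b, ha, hbA, hcases⟩ :=
    Cfsg.Agent.S0646.result (n + 3) (by omega) hm A hAcyc hAidx hna
  have e1 : n + 3 - 1 = n + 2 := by omega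
  have e2 : n + 3 - 2 = n + 1 := by omega
  rw [e1] at ha
  rw [e2] at hcases
  have hb1 : b ≠ 1 := fun h => hbA (h ▸ one_mem _)
  rcases hcases with ⟨hb2, hconj⟩ | ⟨hb2, hconj⟩ | ⟨hn4, hb2, hconj⟩ | ⟨hn4, hb2, hconj⟩
  · -- dihedral
    left
    refine ⟨n, ?_⟩
    exact Cfsg.Agent.Helper9.dihedral_equiv_of (2 ^ (n + 2)) a b ha (by rw [← pow_two]; exact hb2)
      hconj hbA (by rw [hm]; ring)
  · -- quaternion
    right; right
    refine ⟨n, ?_⟩
    exact Cfsg.Agent.Helper9.quaternion_equiv_of (2 ^ (n + 1)) a b (by rw [ha]; ring)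
      (by rw [← pow_two]; exact hb2) hconj hbA (by rw [hm]; ring)
  · -- modular : impossible
    exfalso
    have haN : a ^ (2 ^ (n + 2)) = 1 := by rw [← ha]; exact pow_orderOf_eq_one a
    have hzb : b * a ^ (2 ^ (n + 1)) * b⁻¹ = a ^ (2 ^ (n + 1)) := by
      rw [← conj_pow, hconj, ← pow_mul, add_mul, one_mul, pow_add, mul_comm (2 ^ (n + 1)),
        show 2 ^ (n + 1) * 2 ^ (n + 1) = 2 ^ (n + 2) * 2 ^ n by ring, pow_mul (a := a) (2 ^ (n + 2)),
        haN, one_pow, mul_one]
    have hAidx' : (Subgroup.zpowers a).index = 2 := by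
      have := (Subgroup.zpowers a).card_mul_index
      rw [Nat.card_zpowers, ha, hm] at this
      have e : 2 ^ (n + 3) = 2 ^ (n + 2) * 2 := by ring
      have hpos : 0 < 2 ^ (n + 2) := by positivity
      rw [e] at this
      exact Nat.eq_of_mul_eq_mul_left hpos this
    have hform : ∀ s : S, s ∈ Subgroup.zpowers a ∨ s * b⁻¹ ∈ Subgroup.zpowers a := by
      intro s
      by_cases hs : s ∈ Subgroup.zpowers a
      · exact Or.inl hs
      · right
        have := (Subgroup.mul_mem_iff_of_index_two hAidx' (a := s) (b := b⁻¹))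
        rw [this]
        constructor
        · intro h; exact (hs h).elim
        · intro h; exact (hbA (by simpa using h)).elim
    have hNn : (Subgroup.zpowers (a ^ (2 ^ (n + 1)))).Normal := by
      constructor
      intro t ht g
      obtain ⟨i, rfl⟩ := Subgroup.mem_zpowers_iff.mp ht
      have key : ∀ g : S, (g ∈ Subgroup.zpowers a ∨ g * b⁻¹ ∈ Subgroup.zpowers a) →
          g * a ^ (2 ^ (n + 1)) * g⁻¹ = a ^ (2 ^ (n + 1)) := by
        intro g hg
        rcases hg with hg | hg
        · obtain ⟨j, rfl⟩ := Subgroup.mem_zpowers_iff.mp hg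
          have : Commute (a ^ j) (a ^ (2 ^ (n + 1))) := (Commute.refl a).zpow_left j |>.pow_right _
          rw [this.eq, mul_inv_cancel_right]
        · obtain ⟨j, hj⟩ := Subgroup.mem_zpowers_iff.mp hg
          have hg' : g = a ^ j * b := by rw [hj]; group
          rw [hg']
          have : Commute (a ^ j) (a ^ (2 ^ (n + 1))) := (Commute.refl a).zpow_left j |>.pow_right _
          calc a ^ j * b * a ^ (2 ^ (n + 1)) * (a ^ j * b)⁻¹
              = a ^ j * (b * a ^ (2 ^ (n + 1)) * b⁻¹) * (a ^ j)⁻¹ := by group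
            _ = a ^ (2 ^ (n + 1)) := by rw [hzb, this.eq, mul_inv_cancel_right]
      have e : g * (a ^ (2 ^ (n + 1))) ^ i * g⁻¹ = (g * a ^ (2 ^ (n + 1)) * g⁻¹) ^ i := by
        rw [conj_zpow]
      rw [e, key g (hform g)]
      exact zpow_mem (Subgroup.mem_zpowers _) i
    have hle : commutator S ≤ Subgroup.zpowers (a ^ (2 ^ (n + 1))) := by
      apply Cfsg.Agent.Helper4.Taussky.commutator_le_of_index_two (Subgroup.zpowers a) hAidx'
        _ b hbA
      · intro c hc
        obtain ⟨j, rfl⟩ := Subgroup.mem_zpowers_iff.mp hc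
        have h1 : b * (a ^ j)⁻¹ * b⁻¹ = (a ^ (1 + 2 ^ (n + 1))) ^ (-j) := by
          rw [← hconj, conj_zpow, zpow_neg]
        have h3 : a ^ j * b * (a ^ j)⁻¹ * b⁻¹ = (a ^ (2 ^ (n + 1))) ^ (-j) := by
          calc a ^ j * b * (a ^ j)⁻¹ * b⁻¹ = a ^ j * (b * (a ^ j)⁻¹ * b⁻¹) := by group
            _ = (a ^ (2 ^ (n + 1))) ^ (-j) := by
              rw [h1, ← zpow_natCast, ← zpow_natCast, ← zpow_mul, ← zpow_mul, ← zpow_add]
              congr 1
              push_cast
              ring
        rw [h3]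
        exact zpow_mem (Subgroup.mem_zpowers _) _
      · intro c hc d hd
        obtain ⟨i, rfl⟩ := Subgroup.mem_zpowers_iff.mp hc
        obtain ⟨j, rfl⟩ := Subgroup.mem_zpowers_iff.mp hd
        exact (Commute.zpow_zpow_self a i j).eq
    have hzord : orderOf (a ^ (2 ^ (n + 1))) ≤ 2 := by
      apply orderOf_le_of_pow_eq_one (by norm_num)
      rw [← pow_mul, ← pow_succ]; exact haN
    have h5 := Subgroup.card_le_of_le hle
    rw [Nat.card_zpowers] at h5
    have h6 : 2 ^ 4 ≤ 2 ^ (n + 3) := Nat.pow_le_pow_right (by norm_num) (by omega)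
    omega
  · -- semidihedral
    right; left
    obtain ⟨k, rfl⟩ : ∃ k, n = k + 1 := ⟨n - 1, by omega⟩
    refine ⟨k, hm, a, b, ha, ?_, hconj⟩
    exact orderOf_eq_prime hb2 hb1

/-- a finite `p`-group with cyclic abelianization is abelian -/
theorem commutator_eq_bot_of_cyclic.{u} (p : ℕ) [Fact p.Prime] :
    ∀ (n : ℕ) (G : Type u) [Group G] [Finite G],
    Nat.card G = p ^ n → IsCyclic (G ⧸ commutator G) → commutator G = ⊥ := by
  intro n
  induction n with
  | zero =>
    intro G _ _ hG _
    have hsub : Subsingleton G := Finite.card_le_one_iff_subsingleton.mp (by rw [hG]; norm_num)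
    rw [eq_bot_iff]
    intro x _
    rw [Subgroup.mem_bot]
    exact Subsingleton.elim _ _
  | succ n ih =>
    intro G _ _ hG hcyc
    by_contra hne
    have hP : IsPGroup p G := IsPGroup.of_card hG
    obtain ⟨z, hzS', hz1, hzc⟩ := Cfsg.Agent.Helper1.exists_mem_centerOmega hP (commutator G) hne
    have hzord : orderOf z = p := orderOf_eq_prime hzc.2 hz1
    have hNn : (Subgroup.zpowers z).Normal := Cfsg.Agent.Helper1.zpowers_normal_of_mem_center hzc.1
    have hQcard : Nat.card (G ⧸ Subgroup.zpowers z) = p ^ n := by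
      have := Subgroup.card_eq_card_quotient_mul_card_subgroup (Subgroup.zpowers z)
      rw [hG, Nat.card_zpowers, hzord, pow_succ] at this
      exact (Nat.eq_of_mul_eq_mul_right (Fact.out : p.Prime).pos this).symm
    have e1 : commutator (G ⧸ Subgroup.zpowers z) =
        (commutator G).map (QuotientGroup.mk' (Subgroup.zpowers z)) := by
      rw [_root_.commutator_def (G ⧸ Subgroup.zpowers z), _root_.commutator_def G,
        Subgroup.map_commutator,
        Subgroup.map_top_of_surjective _ (QuotientGroup.mk'_surjective _)]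
    have hcycQ : IsCyclic ((G ⧸ Subgroup.zpowers z) ⧸ commutator (G ⧸ Subgroup.zpowers z)) := by
      have hle : commutator G ≤ (commutator (G ⧸ Subgroup.zpowers z)).comap
          (QuotientGroup.mk' (Subgroup.zpowers z)) := by
        rw [e1]; exact Subgroup.le_comap_map _ _
      apply isCyclic_of_surjective (QuotientGroup.map (commutator G)
        (commutator (G ⧸ Subgroup.zpowers z)) (QuotientGroup.mk' (Subgroup.zpowers z)) hle)
      intro q
      obtain ⟨y, rfl⟩ := QuotientGroup.mk_surjective q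
      obtain ⟨x, rfl⟩ := QuotientGroup.mk_surjective y
      exact ⟨QuotientGroup.mk x, rfl⟩
    have hQ := ih (G ⧸ Subgroup.zpowers z) hQcard hcycQ
    have hle : commutator G ≤ Subgroup.zpowers z := by
      rw [e1] at hQ
      intro c hc
      have : QuotientGroup.mk' (Subgroup.zpowers z) c ∈
          (commutator G).map (QuotientGroup.mk' (Subgroup.zpowers z)) :=
        Subgroup.mem_map_of_mem _ hc
      rw [hQ, Subgroup.mem_bot] at this
      exact (QuotientGroup.eq_one_iff c).mp this
    have hle2 : commutator G ≤ Subgroup.center G := hle.trans (Subgroup.zpowers_le.mpr hzc.1)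
    have hcycZ : IsCyclic (G ⧸ Subgroup.center G) := by
      apply isCyclic_of_surjective (QuotientGroup.map (commutator G) (Subgroup.center G)
        (MonoidHom.id G) (by simpa using hle2))
      intro q
      obtain ⟨x, rfl⟩ := QuotientGroup.mk_surjective q
      exact ⟨QuotientGroup.mk x, rfl⟩
    have hcomm := MonoidHom.isMulCommutative_of_isCyclic_of_ker_le_center
      (QuotientGroup.mk' (Subgroup.center G)) (by rw [QuotientGroup.ker_mk'])
    apply hne
    rw [commutator_eq_bot_iff_center_eq_top]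
    exact eq_top_iff.mpr (fun y _ => Subgroup.mem_center_iff.mpr
      (fun g => hcomm.is_comm.comm g y))

/-- the class of `x` lies in a coset of the derived subgroup -/
theorem card_le_centralizer_mul_commutator {S : Type*} [Group S] [Finite S] (x : S) :
    Nat.card S ≤ Nat.card (Subgroup.centralizer ({x} : Set S)) * Nat.card (commutator S) := by
  classical
  have hmem : ∀ g : S, g * x * g⁻¹ * x⁻¹ ∈ commutator S := fun g => by
    rw [_root_.commutator_def]
    exact Subgroup.commutator_mem_commutator (Subgroup.mem_top g) (Subgroup.mem_top x)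
  let ψ : commutator S → S ⧸ Subgroup.centralizer ({x} : Set S) := fun c =>
    if h : ∃ g : S, g * x * g⁻¹ * x⁻¹ = c.1 then QuotientGroup.mk (Classical.choose h)
    else QuotientGroup.mk (1 : S)
  have hsurj : Function.Surjective ψ := by
    intro q
    induction q using QuotientGroup.induction_on with
    | H g =>
      refine ⟨⟨g * x * g⁻¹ * x⁻¹, hmem g⟩, ?_⟩
      have h : ∃ g' : S, g' * x * g'⁻¹ * x⁻¹ = g * x * g⁻¹ * x⁻¹ := ⟨g, rfl⟩
      simp only [ψ, dif_pos h]
      rw [QuotientGroup.eq]
      have h2 := Classical.choose_spec h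
      rw [Subgroup.mem_centralizer_singleton_iff]
      generalize Classical.choose h = c at h2 ⊢
      have h3 : c * x * c⁻¹ = g * x * g⁻¹ := mul_right_cancel h2
      calc c⁻¹ * g * x
          = c⁻¹ * (g * x * g⁻¹) * g := by group
        _ = x * (c⁻¹ * g) := by rw [← h3]; group
  have h1 := Nat.card_le_card_of_surjective ψ hsurj
  rw [Subgroup.card_eq_card_quotient_mul_card_subgroup (Subgroup.centralizer ({x} : Set S)),
    mul_comm]
  exact Nat.mul_le_mul_left _ h1

/-- in a generalized quaternion group every involution is central -/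
theorem quaternion_involution_central {m : ℕ} [NeZero m] (y : QuaternionGroup m)
    (hy : orderOf y = 2) (w : QuaternionGroup m) : w * y = y * w := by
  rcases y with i | i
  · have h1 : (QuaternionGroup.a i : QuaternionGroup m) ^ 2 = 1 := by
      rw [← hy]; exact pow_orderOf_eq_one _
    rw [pow_two, QuaternionGroup.a_mul_a, QuaternionGroup.one_def] at h1
    have h2 : i + i = 0 := by injection h1
    rcases w with j | j
    · rw [QuaternionGroup.a_mul_a, QuaternionGroup.a_mul_a, add_comm]
    · rw [QuaternionGroup.xa_mul_a, QuaternionGroup.a_mul_xa]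
      congr 1
      linear_combination h2
  · rw [QuaternionGroup.orderOf_xa] at hy
    omega

end Cfsg.Agent.Helper4.Suzuki2
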