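import Mathlib
import Cfsg.Agent.Helper1.MaxClass
import Cfsg.Agent.Helper1.Alperin
import Cfsg.Agent.Helper4.Suzuki2

set_option autoImplicit false

namespace Cfsg.Agent.Helper4.PFour

open scoped commutatorElement

/-- the commutator map `g ↦ [g, w]` is a homomorphism when all `[g, w]` are central -/
theorem exists_commHom {G : Type*} [Group G] (w : G)
    (h : ∀ g : G, g * w * g⁻¹ * w⁻¹ ∈ Subgroup.center G) :
    ∃ τ : G →* G, ∀ g : G, τ g = g * w * g⁻¹ * w⁻¹ := by
  refine ⟨MonoidHom.mk' (fun g : G => g * w * g⁻¹ * w⁻¹) ?_, fun g => rfl⟩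
  intro g k
  have hc : ∀ t : G, t * (k * w * k⁻¹ * w⁻¹) = (k * w * k⁻¹ * w⁻¹) * t :=
    Subgroup.mem_center_iff.mp (h k)
  calc g * k * w * (g * k)⁻¹ * w⁻¹ = g * (k * w * k⁻¹ * w⁻¹) * w * g⁻¹ * w⁻¹ := by group
    _ = (k * w * k⁻¹ * w⁻¹) * g * w * g⁻¹ * w⁻¹ := by rw [hc g]
    _ = g * w * g⁻¹ * w⁻¹ * (k * w * k⁻¹ * w⁻¹) := by
      rw [hc (g * w * g⁻¹ * w⁻¹)]; group

theorem commHom_ker {G : Type*} [Group G] (w : G) (τ : G →* G)
    (hτ : ∀ g : G, τ g = g * w * g⁻¹ * w⁻¹) : τ.ker = Subgroup.centralizer {w} := by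
  ext g
  rw [MonoidHom.mem_ker, hτ, Subgroup.mem_centralizer_singleton_iff]
  constructor
  · intro h
    have h1 : g * w * g⁻¹ = w := by
      have e : g * w * g⁻¹ = (g * w * g⁻¹ * w⁻¹) * w := by group
      rw [e, h, one_mul]
    exact mul_inv_eq_iff_eq_mul.mp h1
  · intro h
    rw [h, mul_inv_cancel_right, mul_inv_cancel]

theorem commHom_range_le {G : Type*} [Group G] (w : G) (τ : G →* G)
    (hτ : ∀ g : G, τ g = g * w * g⁻¹ * w⁻¹) : τ.range ≤ commutator G := by
  rintro _ ⟨g, rfl⟩
  rw [hτ, _root_.commutator_def]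
  exact Subgroup.commutator_mem_commutator (Subgroup.mem_top g) (Subgroup.mem_top w)

theorem card_pow_of_subgroup {G : Type*} [Group G] [Finite G] {p n : ℕ} [Fact p.Prime]
    (hG : Nat.card G = p ^ n) (H : Subgroup G) : ∃ k ≤ n, Nat.card H = p ^ k :=
  (Nat.dvd_prime_pow Fact.out).mp (hG ▸ Subgroup.card_subgroup_dvd_card H)

theorem exp_lt_of_mem_not_mem {G : Type*} [Group G] [Finite G] {p : ℕ} [Fact p.Prime]
    {Z M : Subgroup G} (hZM : Z ≤ M) {x : G} (hxM : x ∈ M) (hxZ : x ∉ Z) {a b : ℕ}
    (hZ : Nat.card Z = p ^ a) (hM : Nat.card M = p ^ b) : a < b := by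
  have hp : p.Prime := Fact.out
  have hlt : Nat.card Z < Nat.card M := by
    apply lt_of_le_of_ne (Subgroup.card_le_of_le hZM)
    intro heq
    have := Subgroup.eq_of_le_of_card_ge hZM heq.ge
    rw [this] at hxZ
    exact hxZ hxM
  rw [hZ, hM] at hlt
  exact (Nat.pow_lt_pow_iff_right hp.one_lt).mp hlt

/-- a normal subgroup of order `p` of a `p`-group is central -/
theorem le_center_of_normal_card_prime {G : Type*} [Group G] [Finite G] {p : ℕ} [Fact p.Prime]
    (hG : IsPGroup p G) (N : Subgroup G) [N.Normal] (hN : Nat.card N = p) :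
    N ≤ Subgroup.center G := by
  have hp : p.Prime := Fact.out
  have hne : N ≠ ⊥ := by
    intro h
    rw [h, Subgroup.card_bot] at hN
    exact hp.one_lt.ne hN
  obtain ⟨z, hzN, hz1, hzc⟩ := Cfsg.Agent.Helper1.exists_mem_centerOmega hG N hne
  have hzord : orderOf z = p := orderOf_eq_prime hzc.2 hz1
  have : Subgroup.zpowers z = N :=
    Subgroup.eq_of_le_of_card_ge (Subgroup.zpowers_le.mpr hzN) (by rw [Nat.card_zpowers, hzord, hN])
  rw [← this]
  exact Subgroup.zpowers_le.mpr hzc.1

/-- the centre of a non-abelian group of order `p^(n+2)` has order at most `p^n` -/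
theorem card_center_le {G : Type*} [Group G] [Finite G] {p n : ℕ} [Fact p.Prime]
    (hG : Nat.card G = p ^ (n + 2)) (hna : ¬ IsMulCommutative G) :
    ∃ i ≤ n, Nat.card (Subgroup.center G) = p ^ i := by
  have hp : p.Prime := Fact.out
  obtain ⟨i, hi, hi2⟩ := card_pow_of_subgroup hG (Subgroup.center G)
  refine ⟨i, ?_, hi2⟩
  by_contra hlt
  apply hna
  have hmul := Subgroup.card_eq_card_quotient_mul_card_subgroup (Subgroup.center G)
  rw [hG, hi2] at hmul
  have hQ : Nat.card (G ⧸ Subgroup.center G) = p ^ (n + 2 - i) := by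
    have e : p ^ (n + 2) = p ^ (n + 2 - i) * p ^ i := by rw [← pow_add]; congr 1; omega
    rw [e] at hmul
    exact (Nat.eq_of_mul_eq_mul_right (pow_pos hp.pos i) hmul).symm
  have hcyc : IsCyclic (G ⧸ Subgroup.center G) := by
    have hi3 : n + 2 - i = 0 ∨ n + 2 - i = 1 := by omega
    rcases hi3 with h | h
    · have hsub : Subsingleton (G ⧸ Subgroup.center G) :=
        Finite.card_le_one_iff_subsingleton.mp (by rw [hQ, h]; norm_num)
      infer_instance
    · exact isCyclic_of_prime_card (p := p) (by rw [hQ, h]; norm_num)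
  exact MonoidHom.isMulCommutative_of_isCyclic_of_ker_le_center
    (QuotientGroup.mk' (Subgroup.center G)) (by rw [QuotientGroup.ker_mk'])

/-- commutative quotient: the derived subgroup lies in the kernel -/
theorem commutator_le_of_quotient_comm {G : Type*} [Group G] (N : Subgroup G) [N.Normal]
    (h : IsMulCommutative (G ⧸ N)) : commutator G ≤ N := by
  rw [_root_.commutator_def, Subgroup.commutator_le]
  intro a _ b _
  apply (QuotientGroup.eq_one_iff _).mp
  show QuotientGroup.mk' N ⁅a, b⁆ = 1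
  rw [map_commutatorElement, commutatorElement_eq_one_iff_commute]
  exact h.is_comm.comm _ _

theorem comm_mem_commutator {G : Type*} [Group G] (g w : G) :
    g * w * g⁻¹ * w⁻¹ ∈ commutator G := by
  rw [_root_.commutator_def]
  exact Subgroup.commutator_mem_commutator (Subgroup.mem_top g) (Subgroup.mem_top w)

/-- order `p⁴`, centre of index `p²`: the derived subgroup has order `p` -/
theorem card_commutator_of_center_index {P : Type*} [Group P] [Finite P] (p : ℕ) [Fact p.Prime]
    (hP : Nat.card P = p ^ 4) (hZ : (Subgroup.center P).index = p ^ 2) :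
    Nat.card (commutator P) = p := by
  have hp : p.Prime := Fact.out
  have hZcard : Nat.card (Subgroup.center P) = p ^ 2 := by
    have := (Subgroup.center P).card_mul_index
    rw [hZ, hP] at this
    have e : p ^ 4 = p ^ 2 * p ^ 2 := by ring
    rw [e] at this
    exact Nat.eq_of_mul_eq_mul_right (pow_pos hp.pos 2) this
  have hQab : IsMulCommutative (P ⧸ Subgroup.center P) :=
    IsPGroup.isMulCommutative_of_card_eq_prime_sq (p := p) (by rw [← Subgroup.index_eq_card, hZ])
  have hle : commutator P ≤ Subgroup.center P := commutator_le_of_quotient_comm _ hQab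
  have hcc : ∀ g w : P, g * w * g⁻¹ * w⁻¹ ∈ Subgroup.center P :=
    fun g w => hle (comm_mem_commutator g w)
  obtain ⟨x, hx⟩ : ∃ x : P, x ∉ Subgroup.center P := by
    by_contra hcon
    push Not at hcon
    have : Subgroup.center P = ⊤ := eq_top_iff.mpr (fun g _ => hcon g)
    rw [this, Subgroup.index_top] at hZ
    have : 1 < p ^ 2 := Nat.one_lt_pow (by norm_num) hp.one_lt
    omega
  obtain ⟨τ, hτ⟩ := exists_commHom x (fun g => hcc g x)
  have hker := commHom_ker x τ hτ
  have hZker : Subgroup.center P ≤ τ.ker := by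
    rw [hker]
    intro z hz
    exact Subgroup.mem_centralizer_singleton_iff.mpr (Subgroup.mem_center_iff.mp hz x).symm
  have hxker : x ∈ τ.ker := by
    rw [hker]; exact Subgroup.mem_centralizer_singleton_iff.mpr rfl
  obtain ⟨k, hk, hk2⟩ := card_pow_of_subgroup hP τ.ker
  have hk3 : 2 < k := exp_lt_of_mem_not_mem hZker hxker hx hZcard hk2
  have hk4 : k ≠ 4 := by
    rintro rfl
    have htop : τ.ker = ⊤ := Subgroup.eq_top_of_card_eq _ (by rw [hk2, hP])
    apply hx
    rw [Subgroup.mem_center_iff]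
    intro g
    have hg : g ∈ τ.ker := by rw [htop]; exact Subgroup.mem_top g
    rw [hker] at hg
    exact Subgroup.mem_centralizer_singleton_iff.mp hg
  have hk3' : k = 3 := by omega
  have hrange : Nat.card τ.range = p := by
    have h := τ.ker.card_mul_index
    rw [Subgroup.index_ker, hk2, hk3', hP] at h
    have e : p ^ 4 = p ^ 3 * p := by ring
    rw [e] at h
    exact Nat.eq_of_mul_eq_mul_left (pow_pos hp.pos 3) h
  have hQZ : τ.range ≤ Subgroup.center P := by
    rintro _ ⟨g, rfl⟩
    rw [hτ]; exact hcc g x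
  have hQn : τ.range.Normal := ⟨fun n hn g => by
    have := Subgroup.mem_center_iff.mp (hQZ hn) g
    rw [this, mul_inv_cancel_right]; exact hn⟩
  have hcomm : IsMulCommutative (P ⧸ τ.range) := by
    have hZM : Subgroup.center P ≤
        (Subgroup.center (P ⧸ τ.range)).comap (QuotientGroup.mk' τ.range) := by
      intro z hz
      show QuotientGroup.mk' τ.range z ∈ Subgroup.center (P ⧸ τ.range)
      rw [Subgroup.mem_center_iff]
      intro q
      obtain ⟨g, rfl⟩ := QuotientGroup.mk'_surjective τ.range q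
      rw [← map_mul, ← map_mul, Subgroup.mem_center_iff.mp hz g]
    have hxM : x ∈ (Subgroup.center (P ⧸ τ.range)).comap (QuotientGroup.mk' τ.range) := by
      show QuotientGroup.mk' τ.range x ∈ Subgroup.center (P ⧸ τ.range)
      rw [Subgroup.mem_center_iff]
      intro q
      obtain ⟨g, rfl⟩ := QuotientGroup.mk'_surjective τ.range q
      rw [← map_mul, ← map_mul]
      apply QuotientGroup.eq.mpr
      have e : (g * x)⁻¹ * (x * g) = x⁻¹ * (g⁻¹ * x * g⁻¹⁻¹ * x⁻¹) * x⁻¹⁻¹ := by group
      rw [e, ← hτ]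
      exact hQn.conj_mem _ ⟨g⁻¹, rfl⟩ _
    obtain ⟨j, hj, hj2⟩ := card_pow_of_subgroup hP
      ((Subgroup.center (P ⧸ τ.range)).comap (QuotientGroup.mk' τ.range))
    have hj3 : 2 < j := exp_lt_of_mem_not_mem hZM hxM hx hZcard hj2
    have hidx : (Subgroup.center (P ⧸ τ.range)).index =
        ((Subgroup.center (P ⧸ τ.range)).comap (QuotientGroup.mk' τ.range)).index :=
      (Subgroup.index_comap_of_surjective _ (QuotientGroup.mk'_surjective _)).symm
    have hMi := ((Subgroup.center (P ⧸ τ.range)).comap (QuotientGroup.mk' τ.range)).card_mul_index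
    rw [hj2, hP] at hMi
    have hcard : Nat.card ((P ⧸ τ.range) ⧸ Subgroup.center (P ⧸ τ.range)) = p ^ (4 - j) := by
      rw [← Subgroup.index_eq_card, hidx]
      have e : p ^ 4 = p ^ j * p ^ (4 - j) := by rw [← pow_add]; congr 1; omega
      rw [e] at hMi
      exact Nat.eq_of_mul_eq_mul_left (pow_pos hp.pos j) hMi
    have hcyc : IsCyclic ((P ⧸ τ.range) ⧸ Subgroup.center (P ⧸ τ.range)) := by
      have hj34 : 4 - j = 0 ∨ 4 - j = 1 := by omega
      rcases hj34 with h | h
      · have hsub : Subsingleton ((P ⧸ τ.range) ⧸ Subgroup.center (P ⧸ τ.range)) :=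
          Finite.card_le_one_iff_subsingleton.mp (by rw [hcard, h]; norm_num)
        infer_instance
      · exact isCyclic_of_prime_card (p := p) (by rw [hcard, h]; norm_num)
    exact MonoidHom.isMulCommutative_of_isCyclic_of_ker_le_center
      (QuotientGroup.mk' (Subgroup.center (P ⧸ τ.range))) (by rw [QuotientGroup.ker_mk'])
  have hle2 : commutator P ≤ τ.range := commutator_le_of_quotient_comm _ hcomm
  have hne : commutator P ≠ ⊥ := by
    intro h
    rw [commutator_eq_bot_iff_center_eq_top] at h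
    exact hx (h ▸ Subgroup.mem_top x)
  have h1 := Subgroup.card_le_of_le hle2
  rw [hrange] at h1
  obtain ⟨i, hi, hi2⟩ := card_pow_of_subgroup hP (commutator P)
  have hi0 : i ≠ 0 := by
    rintro rfl
    rw [pow_zero] at hi2
    exact hne ((Subgroup.card_eq_one).mp hi2)
  have hi1 : i ≤ 1 := by
    rw [hi2] at h1
    by_contra hgt
    have : p ^ 2 ≤ p ^ i := Nat.pow_le_pow_right hp.pos (by omega)
    have h3 : p * 2 ≤ p ^ 2 := by rw [pow_two]; exact Nat.mul_le_mul_left p hp.two_le
    have := hp.pos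
    omega
  have : i = 1 := by omega
  rw [hi2, this, pow_one]

/-- order `p⁴`, derived subgroup of order `p`: the centre has index `p²` -/
theorem center_index_of_card_commutator {P : Type*} [Group P] [Finite P] (p : ℕ) [Fact p.Prime]
    (hP : Nat.card P = p ^ 4) (hc : Nat.card (commutator P) = p) :
    (Subgroup.center P).index = p ^ 2 := by
  have hp : p.Prime := Fact.out
  have hPp : IsPGroup p P := IsPGroup.of_card hP
  have hle : commutator P ≤ Subgroup.center P :=
    le_center_of_normal_card_prime hPp (commutator P) hc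
  have hcc : ∀ g w : P, g * w * g⁻¹ * w⁻¹ ∈ Subgroup.center P :=
    fun g w => hle (comm_mem_commutator g w)
  -- every centraliser has order at least p³
  have hcent : ∀ w : P, ∃ k, 3 ≤ k ∧ k ≤ 4 ∧
      Nat.card (Subgroup.centralizer ({w} : Set P)) = p ^ k := by
    intro w
    obtain ⟨τ, hτ⟩ := exists_commHom w (fun g => hcc g w)
    have hker := commHom_ker w τ hτ
    have hr : Nat.card τ.range ≤ p := by
      rw [← hc]; exact Subgroup.card_le_of_le (commHom_range_le w τ hτ)
    have h := τ.ker.card_mul_index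
    rw [Subgroup.index_ker, hP, hker] at h
    obtain ⟨k, hk, hk2⟩ := card_pow_of_subgroup hP (Subgroup.centralizer ({w} : Set P))
    refine ⟨k, ?_, hk, hk2⟩
    rw [hk2] at h
    have h4 : p ^ 4 ≤ p ^ (k + 1) := by
      calc p ^ 4 = p ^ k * Nat.card τ.range := h.symm
        _ ≤ p ^ k * p := Nat.mul_le_mul_left _ hr
        _ = p ^ (k + 1) := (pow_succ p k).symm
    have := (Nat.pow_le_pow_iff_right hp.one_lt).mp h4
    omega
  have hna : ¬ IsMulCommutative P := by
    intro h
    have := (commutator_eq_bot_iff P).mpr h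
    rw [this, Subgroup.card_bot] at hc
    exact hp.one_lt.ne hc
  obtain ⟨i, hi, hi2⟩ := card_center_le (n := 2) hP hna
  by_cases hi1 : i = 2
  · have := (Subgroup.center P).card_mul_index
    rw [hi2, hi1, hP] at this
    have e : p ^ 4 = p ^ 2 * p ^ 2 := by ring
    rw [e] at this
    exact Nat.eq_of_mul_eq_mul_left (pow_pos hp.pos 2) this
  exfalso
  have hi1' : i ≤ 1 := by omega
  obtain ⟨x, hx⟩ : ∃ x : P, x ∉ Subgroup.center P := by
    by_contra hcon
    push Not at hcon
    apply hna
    exact ⟨⟨fun a b => Subgroup.mem_center_iff.mp (hcon b) a⟩⟩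
  obtain ⟨k, hk3, hk4, hk2⟩ := hcent x
  have hkne4 : k ≠ 4 := by
    rintro rfl
    have htop : Subgroup.centralizer ({x} : Set P) = ⊤ :=
      Subgroup.eq_top_of_card_eq _ (by rw [hk2, hP])
    apply hx
    rw [Subgroup.mem_center_iff]
    intro g
    have hg : g ∈ Subgroup.centralizer ({x} : Set P) := by rw [htop]; exact Subgroup.mem_top g
    exact Subgroup.mem_centralizer_singleton_iff.mp hg
  have hk3' : k = 3 := by omega
  subst hk3'
  obtain ⟨C₁, hC₁⟩ : ∃ C₁ : Subgroup P, C₁ = Subgroup.centralizer ({x} : Set P) := ⟨_, rfl⟩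
  rw [← hC₁] at hk2
  have hmemC₁ : ∀ c : P, c ∈ C₁ ↔ c * x = x * c := by
    intro c; rw [hC₁]; exact Subgroup.mem_centralizer_singleton_iff
  have hxC₁ : x ∈ C₁ := (hmemC₁ x).mpr rfl
  have hZC₁ : Subgroup.center P ≤ C₁ := fun z hz =>
    (hmemC₁ z).mpr (Subgroup.mem_center_iff.mp hz x).symm
  -- the centre of C₁
  have hZK : Subgroup.center P ≤ C₁ ⊓ Subgroup.centralizer (C₁ : Set P) := by
    intro z hz
    exact Subgroup.mem_inf.mpr ⟨hZC₁ hz, Subgroup.mem_centralizer_iff.mpr
      (fun c _ => Subgroup.mem_center_iff.mp hz c)⟩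
  have hxK : x ∈ C₁ ⊓ Subgroup.centralizer (C₁ : Set P) := by
    exact Subgroup.mem_inf.mpr ⟨hxC₁, Subgroup.mem_centralizer_iff.mpr
      (fun c hc => (hmemC₁ c).mp hc)⟩
  obtain ⟨j, hj, hj2⟩ := card_pow_of_subgroup hP (C₁ ⊓ Subgroup.centralizer (C₁ : Set P))
  have hij : i < j := exp_lt_of_mem_not_mem hZK hxK hx hi2 hj2
  have hi0 : i ≠ 0 := by
    rintro rfl
    have h1 := Subgroup.card_le_of_le hle
    rw [hc, hi2, pow_zero] at h1
    have := hp.one_lt
    omega
  have hC1ab : ∀ a ∈ C₁, ∀ b ∈ C₁, a * b = b * a := by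
    by_cases hKC : C₁ ≤ C₁ ⊓ Subgroup.centralizer (C₁ : Set P)
    · intro a ha b hb
      exact (Subgroup.mem_centralizer_iff.mp (hKC ha).2 b hb).symm
    · obtain ⟨c₀, hc₀C, hc₀K⟩ : ∃ c₀ ∈ C₁, c₀ ∉ C₁ ⊓ Subgroup.centralizer (C₁ : Set P) := by
        by_contra hcon
        push Not at hcon
        exact hKC (fun c hc => hcon c hc)
      have hScomm : ∀ s ∈ ((C₁ ⊓ Subgroup.centralizer (C₁ : Set P) : Subgroup P) : Set P) ∪ {c₀},
          ∀ t ∈ ((C₁ ⊓ Subgroup.centralizer (C₁ : Set P) : Subgroup P) : Set P) ∪ {c₀},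
          s * t = t * s := by
        intro s hs t ht
        rcases hs with hs | hs <;> rcases ht with ht | ht
        · exact (Subgroup.mem_centralizer_iff.mp hs.2 t ht.1).symm
        · rw [Set.mem_singleton_iff] at ht
          rw [ht]
          exact (Subgroup.mem_centralizer_iff.mp hs.2 c₀ hc₀C).symm
        · rw [Set.mem_singleton_iff] at hs
          rw [hs]
          exact Subgroup.mem_centralizer_iff.mp ht.2 c₀ hc₀C
        · rw [Set.mem_singleton_iff] at hs ht
          rw [hs, ht]
      have hDcomm := Cfsg.Agent.Helper1.closure_comm _ hScomm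
      have hKD : C₁ ⊓ Subgroup.centralizer (C₁ : Set P) ≤ Subgroup.closure
          (((C₁ ⊓ Subgroup.centralizer (C₁ : Set P) : Subgroup P) : Set P) ∪ {c₀}) :=
        fun a ha => Subgroup.subset_closure (Or.inl ha)
      have hc₀D : c₀ ∈ Subgroup.closure
          (((C₁ ⊓ Subgroup.centralizer (C₁ : Set P) : Subgroup P) : Set P) ∪ {c₀}) :=
        Subgroup.subset_closure (Or.inr rfl)
      have hDC : Subgroup.closure
          (((C₁ ⊓ Subgroup.centralizer (C₁ : Set P) : Subgroup P) : Set P) ∪ {c₀}) ≤ C₁ := by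
        rw [Subgroup.closure_le]
        rintro a (ha | ha)
        · exact ha.1
        · rw [Set.mem_singleton_iff] at ha
          rw [ha]; exact hc₀C
      obtain ⟨d, hd, hd2⟩ := card_pow_of_subgroup hP (Subgroup.closure
          (((C₁ ⊓ Subgroup.centralizer (C₁ : Set P) : Subgroup P) : Set P) ∪ {c₀}))
      have hjd : j < d := exp_lt_of_mem_not_mem hKD hc₀D hc₀K hj2 hd2
      have hd3 : d ≤ 3 := by
        have := Subgroup.card_le_of_le hDC
        rw [hd2, hk2] at this
        exact (Nat.pow_le_pow_iff_right hp.one_lt).mp this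
      have hDC' : Subgroup.closure
          (((C₁ ⊓ Subgroup.centralizer (C₁ : Set P) : Subgroup P) : Set P) ∪ {c₀}) = C₁ := by
        apply Subgroup.eq_of_le_of_card_ge hDC
        rw [hd2, hk2]
        exact Nat.pow_le_pow_right hp.pos (by omega)
      intro a ha b hb
      rw [← hDC'] at ha hb
      exact hDcomm a ha b hb
  obtain ⟨g, hg⟩ : ∃ g : P, g ∉ C₁ := by
    by_contra hcon
    push Not at hcon
    have : C₁ = ⊤ := eq_top_iff.mpr (fun g _ => hcon g)
    rw [this, Subgroup.card_top, hP] at hk2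
    have := Nat.pow_right_injective hp.two_le hk2
    omega
  have hle2 : C₁ ⊓ Subgroup.centralizer ({g} : Set P) ≤ Subgroup.center P := by
    intro c hc
    have h1 : C₁ ≤ Subgroup.centralizer ({c} : Set P) := fun a ha =>
      Subgroup.mem_centralizer_singleton_iff.mpr (hC1ab a ha c hc.1)
    have h2 : g ∈ Subgroup.centralizer ({c} : Set P) :=
      Subgroup.mem_centralizer_singleton_iff.mpr
        (Subgroup.mem_centralizer_singleton_iff.mp hc.2).symm
    obtain ⟨m, hm, hm2⟩ := card_pow_of_subgroup hP (Subgroup.centralizer ({c} : Set P))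
    have h3m : 3 < m := exp_lt_of_mem_not_mem h1 h2 hg hk2 hm2
    have htop : Subgroup.centralizer ({c} : Set P) = ⊤ :=
      Subgroup.eq_top_of_card_eq _ (by rw [hm2, hP]; congr 1; omega)
    rw [Subgroup.mem_center_iff]
    intro t
    have ht : t ∈ Subgroup.centralizer ({c} : Set P) := by rw [htop]; exact Subgroup.mem_top t
    exact Subgroup.mem_centralizer_singleton_iff.mp ht
  have hge : p ^ 2 ≤ Nat.card (C₁ ⊓ Subgroup.centralizer ({g} : Set P) : Subgroup P) := by
    obtain ⟨τ, hτ⟩ := exists_commHom g (fun a => hcc a g)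
    have hker := commHom_ker g τ hτ
    have h := (τ.comp C₁.subtype).ker.card_mul_index
    rw [Subgroup.index_ker, hk2] at h
    have hr : Nat.card (τ.comp C₁.subtype).range ≤ p := by
      rw [← hc]
      apply Subgroup.card_le_of_le
      rintro _ ⟨a, rfl⟩
      exact commHom_range_le g τ hτ ⟨a.1, rfl⟩
    have hk : Nat.card (τ.comp C₁.subtype).ker ≤
        Nat.card (C₁ ⊓ Subgroup.centralizer ({g} : Set P) : Subgroup P) := by
      apply Nat.card_le_card_of_injective (fun c : (τ.comp C₁.subtype).ker =>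
        (⟨c.1.1, ⟨c.1.2, by
          have h1 : τ c.1.1 = 1 := c.2
          have h2 : c.1.1 ∈ τ.ker := h1
          rw [hker] at h2
          exact h2⟩⟩ : (C₁ ⊓ Subgroup.centralizer ({g} : Set P) : Subgroup P)))
      intro a b hab
      have := congrArg Subtype.val hab
      exact Subtype.ext (Subtype.ext this)
    have h5 : p ^ 3 ≤ Nat.card (C₁ ⊓ Subgroup.centralizer ({g} : Set P) : Subgroup P) * p := by
      rw [← h]
      exact Nat.mul_le_mul hk hr
    have e : p ^ 3 = p ^ 2 * p := by ring
    rw [e] at h5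
    exact Nat.le_of_mul_le_mul_right h5 hp.pos
  have h6 := Subgroup.card_le_of_le hle2
  rw [hi2] at h6
  have h7 : p ^ i ≤ p ^ 1 := Nat.pow_le_pow_right hp.pos hi1'
  have h8 : p * 2 ≤ p ^ 2 := by rw [pow_two]; exact Nat.mul_le_mul_left p hp.two_le
  have := hp.pos
  rw [pow_one] at h7
  omega

/-- maximal class: the derived subgroup has index `p²` -/
theorem index_commutator_of_maximal_class_p.{u} (p : ℕ) [Fact p.Prime] :
    ∀ (n : ℕ) (X : Type u) [Group X] [Finite X], 2 ≤ n → Nat.card X = p ^ n →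
      Group.nilpotencyClass X = n - 1 → (commutator X).index = p ^ 2 := by
  have hp : p.Prime := Fact.out
  intro n
  induction n with
  | zero => intro X _ _ h; omega
  | succ n ih =>
    intro X _ _ hn hX hc
    have hXp : IsPGroup p X := IsPGroup.of_card hX
    haveI : Group.IsNilpotent X := hXp.isNilpotent
    by_cases hn2 : n + 1 = 2
    · have hcomm : IsMulCommutative X :=
        IsPGroup.isMulCommutative_of_card_eq_prime_sq (hn2 ▸ hX)
      rw [(commutator_eq_bot_iff X).mpr hcomm, Subgroup.index_bot, hX, hn2]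
    · have hn3 : 2 ≤ n := by omega
      have hZcard := Cfsg.Agent.Helper1.card_center_of_maximal_class p (n + 1) (by omega) hX hc
      have hne : commutator X ≠ ⊥ := by
        intro h
        have hcomm := (commutator_eq_bot_iff X).mp h
        have h1 := Group.IsNilpotent.nilpotencyClass_le_one_iff.mpr hcomm
        omega
      have hZle := Cfsg.Agent.Helper1.center_le_commutator_of_card_prime p hXp hZcard hne
      have hQcard : Nat.card (X ⧸ Subgroup.center X) = p ^ n := by
        have := Subgroup.card_eq_card_quotient_mul_card_subgroup (Subgroup.center X)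
        rw [hX, hZcard, pow_succ] at this
        exact (Nat.eq_of_mul_eq_mul_right hp.pos this).symm
      have hQc : Group.nilpotencyClass (X ⧸ Subgroup.center X) = n - 1 := by
        rw [Group.nilpotencyClass_quotient_center, hc]; omega
      have h1 := ih (X ⧸ Subgroup.center X) hn3 hQcard hQc
      rw [Cfsg.Agent.Helper1.index_commutator_quotient _ hZle] at h1
      exact h1

end Cfsg.Agent.Helper4.PFour
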