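import Mathlib
import Cfsg.Agent.Helper4.PFour

set_option autoImplicit false

namespace Cfsg.Agent.Helper4.AbNormal

open Cfsg.Agent.Helper4.PFour

/-- a subgroup containing a subgroup of prime index and an element outside it is everything -/
theorem eq_top_of_prime_index {Q : Type*} [Group Q] {p : ℕ} (hp : p.Prime) {M L : Subgroup Q}
    (hML : M ≤ L) (hM : M.index = p) {y : Q} (hyL : y ∈ L) (hyM : y ∉ M) : L = ⊤ := by
  have h1 := Subgroup.relIndex_mul_index hML
  rw [hM] at h1
  have h2 : M.relIndex L ≠ 1 := fun h => hyM (Subgroup.relIndex_eq_one.mp h hyL)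
  have h3 : M.relIndex L ∣ p := Dvd.intro _ h1
  have h4 : M.relIndex L = p := ((Nat.dvd_prime hp).mp h3).resolve_left h2
  rw [h4] at h1
  have h5 : L.index = 1 := Nat.eq_of_mul_eq_mul_left hp.pos (by rw [h1, mul_one])
  exact Subgroup.index_eq_one.mp h5

/-- for an abelian normal subgroup `M` of prime index and `y ∉ M`:
`|Q'| · |C_M(y)| = |M|` -/
theorem card_commutator_mul_card_centralizer {Q : Type*} [Group Q] [Finite Q] {p : ℕ}
    (hp : p.Prime) (M : Subgroup Q) [hMn : M.Normal] (hM : M.index = p)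
    (hab : ∀ a ∈ M, ∀ b ∈ M, a * b = b * a) (y : Q) (hy : y ∉ M) :
    Nat.card (commutator Q) * Nat.card (M ⊓ Subgroup.centralizer {y} : Subgroup Q) =
      Nat.card M := by
  have hconj : ∀ m ∈ M, y * m * y⁻¹ ∈ M := fun m hm => hMn.conj_mem m hm y
  have hτM : ∀ m ∈ M, y * m * y⁻¹ * m⁻¹ ∈ M := fun m hm => mul_mem (hconj m hm) (inv_mem hm)
  obtain ⟨τ, hτ⟩ : ∃ τ : M →* Q, ∀ m : M, τ m = y * (m : Q) * y⁻¹ * (m : Q)⁻¹ := by
    refine ⟨MonoidHom.mk' (fun m : M => y * (m : Q) * y⁻¹ * (m : Q)⁻¹) ?_, fun m => rfl⟩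
    intro a b
    show y * ((a * b : M) : Q) * y⁻¹ * ((a * b : M) : Q)⁻¹ =
      (y * (a : Q) * y⁻¹ * (a : Q)⁻¹) * (y * (b : Q) * y⁻¹ * (b : Q)⁻¹)
    have e1 : (a : Q)⁻¹ * (y * (b : Q) * y⁻¹ * (b : Q)⁻¹) =
        (y * (b : Q) * y⁻¹ * (b : Q)⁻¹) * (a : Q)⁻¹ := hab _ (inv_mem a.2) _ (hτM b b.2)
    calc y * ((a * b : M) : Q) * y⁻¹ * ((a * b : M) : Q)⁻¹
        = (y * (a : Q) * y⁻¹) * ((y * (b : Q) * y⁻¹ * (b : Q)⁻¹) * (a : Q)⁻¹) := by
          rw [Subgroup.coe_mul]; group
      _ = (y * (a : Q) * y⁻¹ * (a : Q)⁻¹) * (y * (b : Q) * y⁻¹ * (b : Q)⁻¹) := by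
          rw [← e1]; group
  have hTM : ∀ t ∈ τ.range, t ∈ M := by
    rintro _ ⟨m, rfl⟩
    rw [hτ]; exact hτM m m.2
  have hTn : τ.range.Normal := by
    rw [← Subgroup.normalizer_eq_top_iff]
    apply eq_top_of_prime_index hp (M := M) (y := y) _ hM _ hy
    · intro m hm
      rw [Subgroup.mem_normalizer_iff]
      intro t
      constructor
      · intro ht
        rw [hab m hm t (hTM t ht), mul_inv_cancel_right]; exact ht
      · intro ht
        have e : t = m⁻¹ * (m * t * m⁻¹) * m := by group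
        rw [e, hab m⁻¹ (inv_mem hm) _ (hTM _ ht), inv_mul_cancel_right]
        exact ht
    · rw [Subgroup.mem_normalizer_iff]
      intro t
      constructor
      · rintro ⟨m, rfl⟩
        refine ⟨⟨y * (m : Q) * y⁻¹, hconj _ m.2⟩, ?_⟩
        rw [hτ, hτ]
        show y * (y * (m : Q) * y⁻¹) * y⁻¹ * (y * (m : Q) * y⁻¹)⁻¹ =
          y * (y * (m : Q) * y⁻¹ * (m : Q)⁻¹) * y⁻¹
        group
      · rintro ⟨m, hm⟩
        have hm' : y⁻¹ * (m : Q) * y ∈ M := by
          have := hMn.conj_mem _ m.2 y⁻¹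
          rwa [inv_inv] at this
        refine ⟨⟨y⁻¹ * (m : Q) * y, hm'⟩, ?_⟩
        rw [hτ]
        show y * (y⁻¹ * (m : Q) * y) * y⁻¹ * (y⁻¹ * (m : Q) * y)⁻¹ = t
        have e : t = y⁻¹ * (y * t * y⁻¹) * y := by group
        rw [e, ← hm, hτ]
        group
  have hcomm : IsMulCommutative (Q ⧸ τ.range) := by
    have hmy : ∀ m ∈ M, QuotientGroup.mk' τ.range y * QuotientGroup.mk' τ.range m =
        QuotientGroup.mk' τ.range m * QuotientGroup.mk' τ.range y := by
      intro m hm
      rw [← map_mul, ← map_mul]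
      apply QuotientGroup.eq.mpr
      have e : (y * m)⁻¹ * (m * y) = y⁻¹ * (y * m⁻¹ * y⁻¹ * m⁻¹⁻¹) * y⁻¹⁻¹ := by group
      rw [e]
      exact hTn.conj_mem _ ⟨⟨m⁻¹, inv_mem hm⟩, hτ _⟩ _
    have hmm : ∀ a ∈ M, ∀ b ∈ M, QuotientGroup.mk' τ.range a * QuotientGroup.mk' τ.range b =
        QuotientGroup.mk' τ.range b * QuotientGroup.mk' τ.range a := by
      intro a ha b hb
      rw [← map_mul, ← map_mul, hab a ha b hb]
    have hL1 : ∀ q : Q, ∀ m ∈ M, QuotientGroup.mk' τ.range q * QuotientGroup.mk' τ.range m =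
        QuotientGroup.mk' τ.range m * QuotientGroup.mk' τ.range q := by
      have htop : (Subgroup.centralizer ((M.map (QuotientGroup.mk' τ.range) :
          Subgroup (Q ⧸ τ.range)) : Set (Q ⧸ τ.range))).comap (QuotientGroup.mk' τ.range) = ⊤ := by
        apply eq_top_of_prime_index hp (M := M) (y := y) _ hM _ hy
        · intro a ha
          rw [Subgroup.mem_comap, Subgroup.mem_centralizer_iff]
          rintro _ ⟨b, hb, rfl⟩
          exact hmm b hb a ha
        · rw [Subgroup.mem_comap, Subgroup.mem_centralizer_iff]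
          rintro _ ⟨b, hb, rfl⟩
          exact (hmy b hb).symm
      intro q m hm
      have hq : q ∈ (Subgroup.centralizer ((M.map (QuotientGroup.mk' τ.range) :
          Subgroup (Q ⧸ τ.range)) : Set (Q ⧸ τ.range))).comap (QuotientGroup.mk' τ.range) := by
        rw [htop]; exact Subgroup.mem_top q
      rw [Subgroup.mem_comap, Subgroup.mem_centralizer_iff] at hq
      exact (hq _ (Subgroup.mem_map_of_mem _ hm)).symm
    have hL2 : ∀ q : Q, QuotientGroup.mk' τ.range q * QuotientGroup.mk' τ.range y =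
        QuotientGroup.mk' τ.range y * QuotientGroup.mk' τ.range q := by
      have htop : (Subgroup.centralizer ({QuotientGroup.mk' τ.range y} :
          Set (Q ⧸ τ.range))).comap (QuotientGroup.mk' τ.range) = ⊤ := by
        apply eq_top_of_prime_index hp (M := M) (y := y) _ hM _ hy
        · intro a ha
          rw [Subgroup.mem_comap, Subgroup.mem_centralizer_singleton_iff]
          exact (hmy a ha).symm
        · rw [Subgroup.mem_comap, Subgroup.mem_centralizer_singleton_iff]
      intro q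
      have hq : q ∈ (Subgroup.centralizer ({QuotientGroup.mk' τ.range y} :
          Set (Q ⧸ τ.range))).comap (QuotientGroup.mk' τ.range) := by
        rw [htop]; exact Subgroup.mem_top q
      exact Subgroup.mem_centralizer_singleton_iff.mp hq
    have hL3 : (Subgroup.center (Q ⧸ τ.range)).comap (QuotientGroup.mk' τ.range) = ⊤ := by
      apply eq_top_of_prime_index hp (M := M) (y := y) _ hM _ hy
      · intro a ha
        rw [Subgroup.mem_comap, Subgroup.mem_center_iff]
        intro q'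
        obtain ⟨q, rfl⟩ := QuotientGroup.mk'_surjective τ.range q'
        exact hL1 q a ha
      · rw [Subgroup.mem_comap, Subgroup.mem_center_iff]
        intro q'
        obtain ⟨q, rfl⟩ := QuotientGroup.mk'_surjective τ.range q'
        exact hL2 q
    refine ⟨⟨fun a b => ?_⟩⟩
    obtain ⟨a', rfl⟩ := QuotientGroup.mk'_surjective τ.range a
    have ha : a' ∈ (Subgroup.center (Q ⧸ τ.range)).comap (QuotientGroup.mk' τ.range) := by
      rw [hL3]; exact Subgroup.mem_top a'
    exact (Subgroup.mem_center_iff.mp ha b).symm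
  have hle : commutator Q ≤ τ.range := commutator_le_of_quotient_comm _ hcomm
  have hge : τ.range ≤ commutator Q := by
    rintro _ ⟨m, rfl⟩
    rw [hτ]; exact comm_mem_commutator y m
  have heq : commutator Q = τ.range := le_antisymm hle hge
  have h := τ.ker.card_mul_index
  rw [Subgroup.index_ker] at h
  have hmap : τ.ker.map M.subtype = M ⊓ Subgroup.centralizer {y} := by
    ext x
    constructor
    · rintro ⟨m, hm', rfl⟩
      have hm : τ m = 1 := hm'
      rw [hτ] at hm
      refine Subgroup.mem_inf.mpr ⟨m.2, Subgroup.mem_centralizer_singleton_iff.mpr ?_⟩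
      have h1 : y * (m : Q) * y⁻¹ = (m : Q) := by
        have e : y * (m : Q) * y⁻¹ = (y * (m : Q) * y⁻¹ * (m : Q)⁻¹) * (m : Q) := by group
        rw [e, hm, one_mul]
      exact (mul_inv_eq_iff_eq_mul.mp h1).symm
    · intro hx
      obtain ⟨hxM, hxy⟩ := Subgroup.mem_inf.mp hx
      refine ⟨⟨x, hxM⟩, ?_, rfl⟩
      show τ ⟨x, hxM⟩ = 1
      rw [hτ]
      have h2 : x * y = y * x := Subgroup.mem_centralizer_singleton_iff.mp hxy
      show y * x * y⁻¹ * x⁻¹ = 1
      rw [← h2, mul_inv_cancel_right, mul_inv_cancel]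
  have hk : Nat.card τ.ker = Nat.card (M ⊓ Subgroup.centralizer {y} : Subgroup Q) := by
    rw [← hmap]
    exact (Subgroup.card_map_of_injective (Subgroup.subtype_injective M)).symm
  rw [heq, ← hk, mul_comm]
  exact h

end Cfsg.Agent.Helper4.AbNormal
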