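import Mathlib
import Cfsg.Prelude.Def_Transfer

set_option autoImplicit false
set_option linter.style.haveILetI false

namespace Cfsg.Agent.S4016P

/-- Structure of `N_G(Q)` for a nontrivial Sylow `q`-subgroup `Q`, `q ≠ p`, in the minimal simple
situation of S4016: `N_G(Q) = K ⋊ P1` with `K` an abelian normal `p`-complement containing `Q`
and all `p'`-elements of `N_G(Q)`, and `P1 ≠ 1` a `p`-group with `C_Q(P1) = 1`. -/
theorem h4_normQ_struct {G : Type*} [Group G] [Finite G] {p : ℕ} [Fact p.Prime]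
    [IsSimpleGroup G]
    (hna : ∃ a b : G, a * b ≠ b * a)
    (hab : ∀ H : Subgroup G, ¬ p ∣ Nat.card H → IsMulCommutative H)
    (hmin : ∀ H : Subgroup G, H ≠ ⊤ → ∀ P1 : Sylow p H,
      Cfsg.HasNormalPComplement p H ∨ (P1 : Subgroup H).Normal)
    (hT : ∀ (q : ℕ) [Fact q.Prime] (Q : Sylow q G), IsMulCommutative Q → ∀ y ∈ Q,
      (∀ n ∈ Subgroup.normalizer ((Q : Subgroup G) : Set G), n * y = y * n) → y = 1) :
    ∀ (q : ℕ) [Fact q.Prime] (Q : Sylow q G), q ≠ p → (Q : Subgroup G) ≠ ⊥ →
      ∃ K P1 : Subgroup G,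
        (∀ a ∈ K, ∀ b ∈ K, a * b = b * a) ∧ (Q : Subgroup G) ≤ K ∧
        (∀ y ∈ Subgroup.normalizer ((Q : Subgroup G) : Set G),
          (orderOf y).Coprime p → y ∈ K) ∧
        ¬ p ∣ Nat.card K ∧ (∀ u ∈ P1, ∀ k ∈ K, u * k * u⁻¹ ∈ K) ∧ IsPGroup p P1 ∧ P1 ≠ ⊥ ∧
        (∀ y ∈ (Q : Subgroup G), (∀ u ∈ P1, u * y = y * u) → y = 1) := by
  classical
  intro q _ Q hqp hQne
  have hp := (Fact.out : p.Prime)
  have hq := (Fact.out : q.Prime)
  have hQq : IsPGroup q ↥(Q : Subgroup G) := Q.isPGroup'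
  obtain ⟨k, hk⟩ := IsPGroup.iff_card.mp hQq
  have hpq : ¬ p ∣ q := fun h => hqp ((Nat.prime_dvd_prime_iff_eq hp hq).mp h).symm
  have hQp : ¬ p ∣ Nat.card (Q : Subgroup G) := by
    rw [hk]
    intro h
    exact hpq (hp.dvd_of_dvd_pow h)
  have hQab : IsMulCommutative (Q : Subgroup G) := hab _ hQp
  have hMtop : Subgroup.normalizer ((Q : Subgroup G) : Set G) ≠ ⊤ := by
    intro hMtop
    have hQn : (Q : Subgroup G).Normal := Subgroup.normalizer_eq_top_iff.mp hMtop
    rcases hQn.eq_bot_or_eq_top with h | h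
    · exact hQne h
    · obtain ⟨a, b, hab'⟩ := hna
      have hGp : ¬ p ∣ Nat.card (⊤ : Subgroup G) := by rw [← h]; exact hQp
      haveI := hab ⊤ hGp
      exact hab' (setLike_mul_comm (s := (⊤ : Subgroup G)) (Subgroup.mem_top a)
        (Subgroup.mem_top b))
  -- an element of `Q` central in `M` is trivial
  have hcen : ∀ y : ↥(Subgroup.normalizer ((Q : Subgroup G) : Set G)),
      (y : G) ∈ (Q : Subgroup G) →
      (∀ n : ↥(Subgroup.normalizer ((Q : Subgroup G) : Set G)), n * y = y * n) → y = 1 := by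
    intro y hyQ hy
    have h1 : (y : G) = 1 := by
      apply hT q Q hQab (y : G) hyQ
      intro n hn
      exact congrArg Subtype.val (hy ⟨n, hn⟩)
    exact Subtype.ext h1
  obtain ⟨P1⟩ := (inferInstance : Nonempty (Sylow p ↥(Subgroup.normalizer ((Q : Subgroup G) : Set G))))
  rcases hmin _ hMtop P1 with hB | hA
  · -- normal p-complement
    obtain ⟨P2, K, hKn, hc⟩ := hB
    haveI := hKn
    have hKcard : ¬ p ∣ Nat.card ↥(K.map (Subgroup.normalizer ((Q : Subgroup G) : Set G)).subtype) := by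
      rw [Subgroup.card_map_of_injective (Subgroup.subtype_injective _),
        ← hc.index_eq_card]
      exact P2.not_dvd_index
    haveI hKab := hab _ hKcard
    have hKcomm : ∀ a ∈ K.map (Subgroup.normalizer ((Q : Subgroup G) : Set G)).subtype, ∀ b ∈ K.map (Subgroup.normalizer ((Q : Subgroup G) : Set G)).subtype, a * b = b * a := by
      intro a ha b hb
      exact setLike_mul_comm (s := K.map (Subgroup.normalizer ((Q : Subgroup G) : Set G)).subtype) ha hb
    have hc' : ∀ y ∈ (Subgroup.normalizer ((Q : Subgroup G) : Set G)), (orderOf y).Coprime p → y ∈ K.map (Subgroup.normalizer ((Q : Subgroup G) : Set G)).subtype := by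
      intro y hy hyo
      obtain ⟨a, ha⟩ := IsPGroup.iff_card.mp P2.isPGroup'
      have h1 : orderOf (QuotientGroup.mk' K ⟨y, hy⟩) ∣ orderOf y := by
        have := orderOf_map_dvd (QuotientGroup.mk' K) (⟨y, hy⟩ : ↥(Subgroup.normalizer ((Q : Subgroup G) : Set G)))
        rwa [Subgroup.orderOf_mk] at this
      have h2 : orderOf (QuotientGroup.mk' K ⟨y, hy⟩) ∣ p ^ a := by
        have := orderOf_dvd_natCard (QuotientGroup.mk' K ⟨y, hy⟩)
        have hidx := hc.symm.index_eq_card
        rw [← ha, ← hidx]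
        exact this
      have hcop : Nat.Coprime (orderOf y) (p ^ a) := Nat.Coprime.pow_right a hyo
      have h7 : orderOf (QuotientGroup.mk' K ⟨y, hy⟩) = 1 :=
        Nat.dvd_one.mp (hcop.gcd_eq_one ▸ Nat.dvd_gcd h1 h2)
      have h8 : (⟨y, hy⟩ : ↥(Subgroup.normalizer ((Q : Subgroup G) : Set G))) ∈ K :=
        (QuotientGroup.eq_one_iff _).mp (orderOf_eq_one_iff.mp h7)
      exact ⟨⟨y, hy⟩, h8, rfl⟩
    have hQK : (Q : Subgroup G) ≤ K.map (Subgroup.normalizer ((Q : Subgroup G) : Set G)).subtype := by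
      intro y hy
      apply hc' y (Subgroup.le_normalizer hy)
      have h4 : orderOf (⟨y, hy⟩ : ↥(Q : Subgroup G)) ∣ q ^ k := by
        rw [← hk]; exact orderOf_dvd_natCard _
      rw [Subgroup.orderOf_mk] at h4
      exact Nat.Coprime.coprime_dvd_left h4
        (Nat.Coprime.pow_left k ((Nat.coprime_primes hq hp).mpr hqp))
    have hfix : ∀ y ∈ (Q : Subgroup G),
        (∀ u ∈ (P2 : Subgroup ↥(Subgroup.normalizer ((Q : Subgroup G) : Set G))).map (Subgroup.normalizer ((Q : Subgroup G) : Set G)).subtype, u * y = y * u) → y = 1 := by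
      intro y hy hyu
      apply hT q Q hQab y hy
      intro n hn
      obtain ⟨⟨⟨c, hcK⟩, ⟨s, hs⟩⟩, hks, -⟩ := hc.existsUnique ⟨n, hn⟩
      have hks' : (c : G) * (s : G) = n := congrArg Subtype.val hks
      have hsy : (s : G) * y = y * (s : G) := hyu _ (Subgroup.mem_map_of_mem _ hs)
      have hcy : (c : G) * y = y * (c : G) :=
        hKcomm _ (Subgroup.mem_map_of_mem _ hcK) y (hQK hy)
      rw [← hks']
      calc (c : G) * (s : G) * y = (c : G) * ((s : G) * y) := by group
        _ = (c : G) * (y * (s : G)) := by rw [hsy]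
        _ = ((c : G) * y) * (s : G) := by group
        _ = (y * (c : G)) * (s : G) := by rw [hcy]
        _ = y * ((c : G) * (s : G)) := by group
    have hnorm : ∀ u ∈ (P2 : Subgroup ↥(Subgroup.normalizer ((Q : Subgroup G) : Set G))).map (Subgroup.normalizer ((Q : Subgroup G) : Set G)).subtype, ∀ k ∈ K.map (Subgroup.normalizer ((Q : Subgroup G) : Set G)).subtype,
        u * k * u⁻¹ ∈ K.map (Subgroup.normalizer ((Q : Subgroup G) : Set G)).subtype := by
      rintro u ⟨u', -, rfl⟩ k ⟨k', hk', rfl⟩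
      exact ⟨u' * k' * u'⁻¹, hKn.conj_mem k' hk' u', rfl⟩
    have hP2ne : (P2 : Subgroup ↥(Subgroup.normalizer ((Q : Subgroup G) : Set G))).map (Subgroup.normalizer ((Q : Subgroup G) : Set G)).subtype ≠ ⊥ := by
      intro hbot
      apply hQne
      rw [Subgroup.eq_bot_iff_forall]
      intro y hy
      apply hfix y hy
      intro u hu
      rw [hbot, Subgroup.mem_bot] at hu
      rw [hu, one_mul, mul_one]
    exact ⟨K.map (Subgroup.normalizer ((Q : Subgroup G) : Set G)).subtype, (P2 : Subgroup ↥(Subgroup.normalizer ((Q : Subgroup G) : Set G))).map (Subgroup.normalizer ((Q : Subgroup G) : Set G)).subtype, hKcomm, hQK, hc', hKcard,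
      hnorm, P2.isPGroup'.map _, hP2ne, hfix⟩
  · -- normal Sylow `p`-subgroup: impossible
    exfalso
    haveI := hA
    have hall : ∀ y : ↥(Subgroup.normalizer ((Q : Subgroup G) : Set G)), (y : G) ∈ (Q : Subgroup G) → y = 1 := by
      intro y hyQ
      apply hcen y hyQ
      haveI hQ'n : ((Q : Subgroup G).subgroupOf
          (Subgroup.normalizer ((Q : Subgroup G) : Set G))).Normal :=
        Subgroup.normal_in_normalizer
      have hQ'q : IsPGroup q ↥((Q : Subgroup G).subgroupOf
          (Subgroup.normalizer ((Q : Subgroup G) : Set G))) := hQq.comap_subtype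
      have hdisj : Disjoint (P1 : Subgroup _) ((Q : Subgroup G).subgroupOf
          (Subgroup.normalizer ((Q : Subgroup G) : Set G))) :=
        IsPGroup.disjoint_of_ne p q (Ne.symm hqp) _ _ P1.isPGroup' hQ'q
      obtain ⟨a, ha⟩ := IsPGroup.iff_card.mp P1.isPGroup'
      have hcop : Nat.Coprime
          (Nat.card ↥(P1 : Subgroup ↥(Subgroup.normalizer ((Q : Subgroup G) : Set G))))
          (P1 : Subgroup ↥(Subgroup.normalizer ((Q : Subgroup G) : Set G))).index := by
        rw [ha]
        exact Nat.Coprime.pow_left a ((Nat.Prime.coprime_iff_not_dvd hp).mpr P1.not_dvd_index)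
      obtain ⟨L, hL⟩ := Subgroup.exists_right_complement'_of_coprime hcop
      have hLcard : ¬ p ∣ Nat.card ↥(L.map
          (Subgroup.normalizer ((Q : Subgroup G) : Set G)).subtype) := by
        rw [Subgroup.card_map_of_injective (Subgroup.subtype_injective _),
          ← hL.symm.index_eq_card]
        exact P1.not_dvd_index
      haveI hLab := hab _ hLcard
      have hLcomm : ∀ a ∈ L, ∀ b ∈ L, a * b = b * a := by
        intro a ha b hb
        apply Subtype.ext
        exact setLike_mul_comm (s := L.map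
          (Subgroup.normalizer ((Q : Subgroup G) : Set G)).subtype)
          (Subgroup.mem_map_of_mem _ ha) (Subgroup.mem_map_of_mem _ hb)
      have hmk : ∀ m : ↥(Subgroup.normalizer ((Q : Subgroup G) : Set G)), ∃ l ∈ L,
          QuotientGroup.mk' (P1 : Subgroup _) m = QuotientGroup.mk' (P1 : Subgroup _) l := by
        intro m
        obtain ⟨⟨⟨s, hs⟩, ⟨l, hl⟩⟩, hsl, -⟩ := hL.existsUnique m
        have hsl' : s * l = m := hsl
        refine ⟨l, hl, ?_⟩
        have h1 : QuotientGroup.mk' (P1 : Subgroup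
            ↥(Subgroup.normalizer ((Q : Subgroup G) : Set G))) s = 1 :=
          (QuotientGroup.eq_one_iff s).mpr hs
        rw [← hsl', map_mul, h1, one_mul]
      intro n
      obtain ⟨l₁, hl₁, e₁⟩ := hmk n
      obtain ⟨l₂, hl₂, e₂⟩ := hmk y
      have h12 : QuotientGroup.mk' (P1 : Subgroup _) l₁ * QuotientGroup.mk' (P1 : Subgroup _) l₂
          = QuotientGroup.mk' (P1 : Subgroup _) l₂ * QuotientGroup.mk' (P1 : Subgroup _) l₁ := by
        rw [← map_mul, hLcomm l₁ hl₁ l₂ hl₂, map_mul]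
      have hcP : n * y * n⁻¹ * y⁻¹ ∈ (P1 : Subgroup _) := by
        apply (QuotientGroup.eq_one_iff _).mp
        show QuotientGroup.mk' (P1 : Subgroup _) (n * y * n⁻¹ * y⁻¹) = 1
        rw [map_mul, map_mul, map_mul, map_inv, map_inv, e₁, e₂, h12]
        group
      have hyQ' : y ∈ (Q : Subgroup G).subgroupOf
          (Subgroup.normalizer ((Q : Subgroup G) : Set G)) := Subgroup.mem_subgroupOf.mpr hyQ
      have hcQ : n * y * n⁻¹ * y⁻¹ ∈ (Q : Subgroup G).subgroupOf
          (Subgroup.normalizer ((Q : Subgroup G) : Set G)) :=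
        Subgroup.mul_mem _ (hQ'n.conj_mem y hyQ' n) (Subgroup.inv_mem _ hyQ')
      have hc1 : n * y * n⁻¹ * y⁻¹ = 1 := Subgroup.disjoint_def.mp hdisj hcP hcQ
      have hc2 : n * y * n⁻¹ = y := mul_inv_eq_one.mp hc1
      exact mul_inv_eq_iff_eq_mul.mp hc2
    apply hQne
    rw [Subgroup.eq_bot_iff_forall]
    intro y0 hy0
    exact congrArg Subtype.val (hall ⟨y0, Subgroup.le_normalizer hy0⟩ hy0)

end Cfsg.Agent.S4016P
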