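import Mathlib
import Cfsg.Prelude.Def_Transfer
import Cfsg.Agent.Helper1.NC
import Cfsg.Agent.Helper12.S4016B
import Cfsg.Agent.Lead.S4016D

set_option autoImplicit false
set_option linter.style.haveILetI false

namespace Cfsg.Agent.S4016P

open Cfsg.Agent.Helper1

/-- If a nontrivial element of a cyclic Sylow `p`-subgroup `P` commutes with all of `N_G(P)`
(e.g. is central in `G`), then `G` has a normal `p`-complement (Burnside). -/
theorem h4_red_central {G : Type*} [Group G] [Finite G] {p : ℕ} [Fact p.Prime]
    (P : Sylow p G) (hcyc : IsCyclic P) (u : G) (hu : u ∈ (P : Subgroup G)) (hu1 : u ≠ 1)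
    (hcen : ∀ g ∈ Subgroup.normalizer ((P : Subgroup G) : Set G), g * u = u * g) :
    Cfsg.HasNormalPComplement p G := by
  apply hasNormalPComplement_of_normalizer_le_centralizer P
  by_contra hle
  haveI : IsMulCommutative (P : Subgroup G) :=
    ⟨⟨fun a b => Subtype.ext (lead_cyc_comm P hcyc a a.2 b b.2)⟩⟩
  obtain ⟨x, hx, hxo, hxC⟩ := exists_pprime_not_mem_centralizer P hle
  exact hxC (cyc_fix_cent (P : Subgroup G) P.isPGroup' hcyc hx hxo hu hu1 (hcen x hx))

/-- Reduction step of S4016 for a nontrivial normal `p`-subgroup `U`: no quotient is needed. -/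
theorem h4_red_pnormal.{u} {G : Type u} [Group G] [Finite G] {p : ℕ} [Fact p.Prime]
    (P : Sylow p G) (hcyc : IsCyclic P)
    (hab : ∀ H : Subgroup G, ¬ p ∣ Nat.card H → IsMulCommutative H)
    (U : Subgroup G) [U.Normal] (hU1 : U ≠ ⊥) (hUp : IsPGroup p U)
    (ihC : Subgroup.centralizer (U : Set G) ≠ ⊤ →
      ∀ P' : Sylow p ↥(Subgroup.centralizer (U : Set G)), IsCyclic P' →
        (∀ H : Subgroup ↥(Subgroup.centralizer (U : Set G)),
          ¬ p ∣ Nat.card H → IsMulCommutative H) →
        Cfsg.HasNormalPComplement p ↥(Subgroup.centralizer (U : Set G)) ∨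
          (P' : Subgroup ↥(Subgroup.centralizer (U : Set G))).Normal)
    (hI : ∀ K : Subgroup G, K.Normal → K ≠ ⊥ → ¬ p ∣ Nat.card K →
      Cfsg.HasNormalPComplement p G ∨ (P : Subgroup G).Normal) :
    Cfsg.HasNormalPComplement p G ∨ (P : Subgroup G).Normal := by
  classical
  have hp := (Fact.out : p.Prime)
  have hPcomm := lead_cyc_comm P hcyc
  have hUP : U ≤ (P : Subgroup G) := hUp.le_sylow_of_normal P
  have hPC : (P : Subgroup G) ≤ Subgroup.centralizer (U : Set G) := by
    intro y hy
    rw [Subgroup.mem_centralizer_iff]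
    intro v hv
    exact hPcomm v (hUP hv) y hy
  have hCn : (Subgroup.centralizer (U : Set G)).Normal := Subgroup.normal_centralizer
  by_cases hCtop : Subgroup.centralizer (U : Set G) = ⊤
  · left
    obtain ⟨⟨v, hv⟩, hv1'⟩ := (Subgroup.ne_bot_iff_exists_ne_one).mp hU1
    have hv1 : v ≠ 1 := fun h => hv1' (Subtype.ext h)
    apply h4_red_central P hcyc v (hUP hv) hv1
    intro g _
    have hg : g ∈ Subgroup.centralizer (U : Set G) := by rw [hCtop]; exact Subgroup.mem_top g
    exact (Subgroup.mem_centralizer_iff.mp hg v hv).symm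
  · have hcycC : IsCyclic ↥(P.subtype hPC) := by
      haveI := hcyc
      exact isCyclic_of_surjective (Subgroup.subgroupOfEquivOfLe hPC).symm
        (MulEquiv.surjective _)
    have habC : ∀ H : Subgroup ↥(Subgroup.centralizer (U : Set G)),
        ¬ p ∣ Nat.card H → IsMulCommutative H := by
      intro H hH
      have h1 : ¬ p ∣ Nat.card ↥(H.map (Subgroup.centralizer (U : Set G)).subtype) := by
        rw [Subgroup.card_map_of_injective (Subgroup.subtype_injective _)]; exact hH
      haveI := hab _ h1
      refine ⟨⟨fun a b => ?_⟩⟩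
      apply Subtype.ext
      apply Subtype.ext
      exact setLike_mul_comm (s := H.map (Subgroup.centralizer (U : Set G)).subtype)
        (Subgroup.mem_map_of_mem _ a.2) (Subgroup.mem_map_of_mem _ b.2)
    rcases ihC hCtop (P.subtype hPC) hcycC habC with hnpc | hnor
    · -- normal `p`-complement `K` of `C`
      obtain ⟨K, hKn, hKcop, hKall⟩ := lead_npc_data hnpc
      have hMn : (K.map (Subgroup.centralizer (U : Set G)).subtype).Normal := by
        constructor
        rintro _ ⟨k, hk, rfl⟩ g
        have hgk : g * (k : G) * g⁻¹ ∈ Subgroup.centralizer (U : Set G) :=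
          hCn.conj_mem _ k.2 g
        refine ⟨⟨g * (k : G) * g⁻¹, hgk⟩, ?_, rfl⟩
        apply hKall
        have h1 : orderOf (⟨g * (k : G) * g⁻¹, hgk⟩ : ↥(Subgroup.centralizer (U : Set G)))
            = orderOf k := by
          rw [← Subgroup.orderOf_coe, ← Subgroup.orderOf_coe k]
          exact orderOf_injective (MulAut.conj g).toMonoidHom (MulAut.conj g).injective (k : G)
        rw [h1]
        have h2 : orderOf k ∣ Nat.card ↥K := by
          have := orderOf_dvd_natCard (⟨k, hk⟩ : ↥K)
          rwa [Subgroup.orderOf_mk] at this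
        exact Nat.Coprime.coprime_dvd_left h2 hKcop
      by_cases hM : K.map (Subgroup.centralizer (U : Set G)).subtype = ⊥
      · right
        have hK : K = ⊥ :=
          (Subgroup.map_eq_bot_iff_of_injective K (Subgroup.subtype_injective _)).mp hM
        have hCp : IsPGroup p ↥(Subgroup.centralizer (U : Set G)) := by
          intro g
          refine ⟨(orderOf g).factorization p, ?_⟩
          have hn0 : orderOf g ≠ 0 := (orderOf_pos g).ne'
          have h1 : (g ^ p ^ (orderOf g).factorization p) ^
              (orderOf g / p ^ (orderOf g).factorization p) = 1 := by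
            rw [← pow_mul, Nat.mul_div_cancel' (Nat.ordProj_dvd _ _), pow_orderOf_eq_one]
          have h2 : (orderOf (g ^ p ^ (orderOf g).factorization p)).Coprime p :=
            Nat.Coprime.coprime_dvd_left (orderOf_dvd_of_pow_eq_one h1)
              (Nat.coprime_ordCompl hp hn0).symm
          have h3 := hKall _ h2
          rw [hK, Subgroup.mem_bot] at h3
          exact h3
        have hCP : Subgroup.centralizer (U : Set G) = (P : Subgroup G) :=
          P.is_maximal' hCp hPC
        rw [← hCP]; exact hCn
      · refine hI _ hMn hM ?_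
        rw [Subgroup.card_map_of_injective (Subgroup.subtype_injective _)]
        exact (Nat.Prime.coprime_iff_not_dvd hp).mp hKcop.symm
    · -- the Sylow `p`-subgroup of `C` is normal in `C`, hence `P` is normal in `G`
      right
      constructor
      intro y hy g
      have hyC : g * y * g⁻¹ ∈ Subgroup.centralizer (U : Set G) := hCn.conj_mem y (hPC hy) g
      obtain ⟨k, hk⟩ := P.isPGroup' ⟨y, hy⟩
      have hk' : y ^ p ^ k = 1 := by simpa using congrArg Subtype.val hk
      have h1 : (⟨g * y * g⁻¹, hyC⟩ : ↥(Subgroup.centralizer (U : Set G))) ∈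
          (P.subtype hPC : Sylow p ↥(Subgroup.centralizer (U : Set G))) := by
        apply mem_sylow_of_mem_normalizer_of_pow_eq_one (P.subtype hPC) _ _ k
        · apply Subtype.ext
          show (g * y * g⁻¹) ^ p ^ k = 1
          rw [conj_pow, hk', mul_one, mul_inv_cancel]
        · rw [Subgroup.normalizer_eq_top_iff.mpr hnor]
          exact Subgroup.mem_top _
      exact Subgroup.mem_subgroupOf.mp h1

end Cfsg.Agent.S4016P
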