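import Mathlib
import Cfsg.Prelude.Def_Transfer
import Cfsg.Agent.Helper1.NC
import Cfsg.Agent.Lead.S4016D

set_option autoImplicit false
set_option linter.style.haveILetI false

namespace Cfsg.Agent.S4016P

open Cfsg.Agent.Helper1

/-- If one Sylow `p`-subgroup is cyclic, all are. -/
theorem h4_sylow_cyc_all {G : Type*} [Group G] [Finite G] {p : ℕ} [Fact p.Prime]
    (P : Sylow p G) (hcyc : IsCyclic P) (P0 : Sylow p G) : IsCyclic P0 := by
  obtain ⟨g, rfl⟩ := MulAction.exists_smul_eq G P P0
  haveI := hcyc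
  exact isCyclic_of_surjective (Sylow.equivSMul P g) (MulEquiv.surjective _)

/-- If a Sylow `p`-subgroup is cyclic, every `p`-subgroup is cyclic. -/
theorem h4_pgroup_cyc {G : Type*} [Group G] [Finite G] {p : ℕ} [Fact p.Prime]
    (P : Sylow p G) (hcyc : IsCyclic P) (Q : Subgroup G) (hQ : IsPGroup p Q) : IsCyclic Q := by
  obtain ⟨P0, hQP0⟩ := hQ.exists_le_sylow
  haveI := h4_sylow_cyc_all P hcyc P0
  exact isCyclic_of_surjective (Subgroup.subgroupOfEquivOfLe hQP0) (MulEquiv.surjective _)

/-- The hypotheses of S4016 pass to subgroups. -/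
theorem h4_red_sub {G : Type*} [Group G] [Finite G] {p : ℕ} [Fact p.Prime]
    (P : Sylow p G) (hcyc : IsCyclic P)
    (hab : ∀ H : Subgroup G, ¬ p ∣ Nat.card H → IsMulCommutative H) (K : Subgroup G) :
    (∀ P1 : Sylow p ↥K, IsCyclic P1) ∧
      (∀ H1 : Subgroup ↥K, ¬ p ∣ Nat.card H1 → IsMulCommutative H1) := by
  constructor
  · intro P1
    haveI := h4_pgroup_cyc P hcyc ((P1 : Subgroup ↥K).map K.subtype) (P1.isPGroup'.map _)
    exact isCyclic_of_surjective
      (Subgroup.equivMapOfInjective (P1 : Subgroup ↥K) K.subtype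
        (Subgroup.subtype_injective K)).symm (MulEquiv.surjective _)
  · intro H hH
    have h1 : ¬ p ∣ Nat.card ↥(H.map K.subtype) := by
      rw [Subgroup.card_map_of_injective (Subgroup.subtype_injective _)]; exact hH
    haveI := hab _ h1
    refine ⟨⟨fun a b => ?_⟩⟩
    apply Subtype.ext
    apply Subtype.ext
    exact setLike_mul_comm (s := H.map K.subtype)
      (Subgroup.mem_map_of_mem _ a.2) (Subgroup.mem_map_of_mem _ b.2)

/-- Reduction step of S4016: a proper nontrivial normal subgroup `K` satisfying the conclusion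
yields a nontrivial normal `p'`-subgroup or a nontrivial normal `p`-subgroup of `G`. -/
theorem h4_red_nonsimple.{u} {G : Type u} [Group G] [Finite G] {p : ℕ} [Fact p.Prime]
    (P : Sylow p G) (hcyc : IsCyclic P)
    (hab : ∀ H : Subgroup G, ¬ p ∣ Nat.card H → IsMulCommutative H)
    (K : Subgroup G) [K.Normal] (hK1 : K ≠ ⊥)
    (ihK : ∀ P' : Sylow p ↥K, IsCyclic P' →
      (∀ H : Subgroup ↥K, ¬ p ∣ Nat.card H → IsMulCommutative H) →
      Cfsg.HasNormalPComplement p ↥K ∨ (P' : Subgroup ↥K).Normal) :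
    (∃ M : Subgroup G, M.Normal ∧ M ≠ ⊥ ∧ ¬ p ∣ Nat.card M) ∨
      (∃ U : Subgroup G, U.Normal ∧ U ≠ ⊥ ∧ IsPGroup p U) := by
  classical
  have hp := (Fact.out : p.Prime)
  have hKn : K.Normal := inferInstance
  obtain ⟨hcycK, habK⟩ := h4_red_sub P hcyc hab K
  obtain ⟨P'⟩ := (inferInstance : Nonempty (Sylow p ↥K))
  rcases ihK P' (hcycK P') habK with hnpc | hnor
  · -- normal `p`-complement `K1` of `K`
    obtain ⟨K1, hK1n, hK1cop, hK1all⟩ := lead_npc_data hnpc
    have hMn : (K1.map K.subtype).Normal := by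
      constructor
      rintro _ ⟨k, hk, rfl⟩ g
      have hgk : g * (k : G) * g⁻¹ ∈ K := hKn.conj_mem _ k.2 g
      refine ⟨⟨g * (k : G) * g⁻¹, hgk⟩, ?_, rfl⟩
      apply hK1all
      have h1 : orderOf (⟨g * (k : G) * g⁻¹, hgk⟩ : ↥K) = orderOf k := by
        rw [← Subgroup.orderOf_coe, ← Subgroup.orderOf_coe k]
        exact orderOf_injective (MulAut.conj g).toMonoidHom (MulAut.conj g).injective (k : G)
      rw [h1]
      have h2 : orderOf k ∣ Nat.card ↥K1 := by
        have := orderOf_dvd_natCard (⟨k, hk⟩ : ↥K1)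
        rwa [Subgroup.orderOf_mk] at this
      exact Nat.Coprime.coprime_dvd_left h2 hK1cop
    by_cases hM : K1.map K.subtype = ⊥
    · right
      have hK1bot : K1 = ⊥ :=
        (Subgroup.map_eq_bot_iff_of_injective K1 (Subgroup.subtype_injective _)).mp hM
      have hKp : IsPGroup p ↥K := by
        intro g
        refine ⟨(orderOf g).factorization p, ?_⟩
        have hn0 : orderOf g ≠ 0 := (orderOf_pos g).ne'
        have h1 : (g ^ p ^ (orderOf g).factorization p) ^
            (orderOf g / p ^ (orderOf g).factorization p) = 1 := by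
          rw [← pow_mul, Nat.mul_div_cancel' (Nat.ordProj_dvd _ _), pow_orderOf_eq_one]
        have h2 : (orderOf (g ^ p ^ (orderOf g).factorization p)).Coprime p :=
          Nat.Coprime.coprime_dvd_left (orderOf_dvd_of_pow_eq_one h1)
            (Nat.coprime_ordCompl hp hn0).symm
        have h3 := hK1all _ h2
        rw [hK1bot, Subgroup.mem_bot] at h3
        exact h3
      exact ⟨K, hKn, hK1, hKp⟩
    · left
      refine ⟨_, hMn, hM, ?_⟩
      rw [Subgroup.card_map_of_injective (Subgroup.subtype_injective _)]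
      exact (Nat.Prime.coprime_iff_not_dvd hp).mp hK1cop.symm
  · -- normal Sylow `p`-subgroup `P'` of `K`
    have hSn : ((P' : Subgroup ↥K).map K.subtype).Normal := by
      constructor
      rintro _ ⟨s, hs, rfl⟩ g
      have hgs : g * (s : G) * g⁻¹ ∈ K := hKn.conj_mem _ s.2 g
      refine ⟨⟨g * (s : G) * g⁻¹, hgs⟩, ?_, rfl⟩
      obtain ⟨k, hk⟩ := P'.isPGroup' ⟨s, hs⟩
      have hk' : s ^ p ^ k = 1 := by simpa using congrArg Subtype.val hk
      apply mem_sylow_of_mem_normalizer_of_pow_eq_one P' _ _ k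
      · apply Subtype.ext
        show (g * (s : G) * g⁻¹) ^ p ^ k = 1
        have hk'' : (s : G) ^ p ^ k = 1 := by simpa using congrArg Subtype.val hk'
        rw [conj_pow, hk'', mul_one, mul_inv_cancel]
      · rw [Subgroup.normalizer_eq_top_iff.mpr hnor]
        exact Subgroup.mem_top _
    by_cases hS : (P' : Subgroup ↥K).map K.subtype = ⊥
    · left
      have hP'bot : (P' : Subgroup ↥K) = ⊥ :=
        (Subgroup.map_eq_bot_iff_of_injective _ (Subgroup.subtype_injective _)).mp hS
      have hnd : ¬ p ∣ Nat.card ↥K := by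
        have := P'.not_dvd_index
        rwa [hP'bot, Subgroup.index_bot] at this
      exact ⟨K, hKn, hK1, hnd⟩
    · right
      exact ⟨_, hSn, hS, P'.isPGroup'.map _⟩

end Cfsg.Agent.S4016P
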