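import Mathlib
import Cfsg.Prelude.Def_CaseTheorems
import Cfsg.Agent.Helper4.Suzuki2
import Cfsg.Agent.Helper4.PFour
import Cfsg.Agent.Helper1.MaxClass

set_option autoImplicit false

namespace Cfsg.Agent.Helper4.SecRank2

/-- no elementary abelian section of order at least eight -/
def NoE8 (S : Type*) [Group S] : Prop :=
  ¬ ∃ H N : Subgroup S, N ≤ H ∧ (∀ h ∈ H, ∀ n ∈ N, h * n * h⁻¹ ∈ N) ∧
    (∀ a ∈ H, ∀ b ∈ H, a * b * a⁻¹ * b⁻¹ ∈ N) ∧ (∀ a ∈ H, a ^ 2 ∈ N) ∧ 8 ≤ N.relIndex H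

theorem noE8_of_sectional {S : Type*} [Group S] [Finite S]
    (hr : Cfsg.SectionalPRankLE 2 2 S) : NoE8 S := by
  rintro ⟨H, N, hNH, hconj, hcomm, hsq, hidx⟩
  have hnorm : (N.subgroupOf H).Normal := by
    constructor
    intro n hn g
    rw [Subgroup.mem_subgroupOf] at hn ⊢
    exact hconj g g.2 n hn
  have hA : IsMulCommutative (⊤ : Subgroup (H ⧸ N.subgroupOf H)) := by
    refine ⟨⟨?_⟩⟩
    rintro ⟨a, -⟩ ⟨b, -⟩
    apply Subtype.ext
    show a * b = b * a
    induction a using QuotientGroup.induction_on with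
    | H a =>
    induction b using QuotientGroup.induction_on with
    | H b =>
    rw [← QuotientGroup.mk_mul, ← QuotientGroup.mk_mul, QuotientGroup.eq, Subgroup.mem_subgroupOf]
    have h1 := hcomm _ (H.inv_mem b.2) _ (H.inv_mem a.2)
    have e : ((a * b)⁻¹ * (b * a) : H) = b⁻¹ * a⁻¹ * b⁻¹⁻¹ * a⁻¹⁻¹ := by group
    rw [e]
    exact h1
  have h2 := hr H (N.subgroupOf H) ⊤ hA (by
    intro a _
    induction a using QuotientGroup.induction_on with
    | H a =>
    rw [← QuotientGroup.mk_pow]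
    apply (QuotientGroup.eq_one_iff _).mpr
    rw [Subgroup.mem_subgroupOf]
    exact hsq a a.2)
  rw [Subgroup.card_top] at h2
  have h3 : Nat.card (H ⧸ N.subgroupOf H) = N.relIndex H := rfl
  omega

theorem noE8_quotient {S : Type*} [Group S] (Z : Subgroup S) [Z.Normal] (h : NoE8 S) :
    NoE8 (S ⧸ Z) := by
  rintro ⟨H, N, hNH, hconj, hcomm, hsq, hidx⟩
  apply h
  refine ⟨H.comap (QuotientGroup.mk' Z), N.comap (QuotientGroup.mk' Z),
    Subgroup.comap_mono hNH, ?_, ?_, ?_, ?_⟩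
  · intro g hg n hn
    show QuotientGroup.mk' Z (g * n * g⁻¹) ∈ N
    rw [map_mul, map_mul, map_inv]
    exact hconj _ hg _ hn
  · intro a ha b hb
    show QuotientGroup.mk' Z (a * b * a⁻¹ * b⁻¹) ∈ N
    rw [map_mul, map_mul, map_mul, map_inv, map_inv]
    exact hcomm _ ha _ hb
  · intro a ha
    show QuotientGroup.mk' Z (a ^ 2) ∈ N
    rw [map_pow]
    exact hsq _ ha
  · rw [Subgroup.relIndex_comap,
      Subgroup.map_comap_eq_self_of_surjective (QuotientGroup.mk'_surjective Z)]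
    exact hidx

/-- structure of a nonabelian group of order eight -/
theorem q_structure_type {G : Type*} [Group G] [Finite G] (hG : Nat.card G = 8)
    (a b : G) (hab : a * b ≠ b * a) :
    (a * b * a⁻¹ * b⁻¹ ≠ 1) ∧ ((a * b * a⁻¹ * b⁻¹) ^ 2 = 1) ∧
      (∀ x : G, x * (a * b * a⁻¹ * b⁻¹) = (a * b * a⁻¹ * b⁻¹) * x) ∧
      (∀ x : G, (∀ y : G, x * y = y * x) → x = 1 ∨ x = a * b * a⁻¹ * b⁻¹) ∧
      (∀ x : G, x ^ 2 = 1 ∨ x ^ 2 = a * b * a⁻¹ * b⁻¹) ∧
      (∀ x y : G, x * y * x⁻¹ * y⁻¹ = 1 ∨ x * y * x⁻¹ * y⁻¹ = a * b * a⁻¹ * b⁻¹) := by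
  have : Fact (Nat.Prime 2) := ⟨Nat.prime_two⟩
  have hG' : Nat.card G = 2 ^ (1 + 2) := by rw [hG]; norm_num
  have hp : IsPGroup 2 G := IsPGroup.of_card hG'
  have hna : ¬ IsMulCommutative G := fun h => hab (h.is_comm.comm a b)
  have : Nontrivial G := by
    rw [← Finite.one_lt_card_iff_nontrivial, hG]; norm_num
  obtain ⟨i, hi, hi2⟩ := Cfsg.Agent.Helper4.PFour.card_center_le hG' hna
  have hcn : Nontrivial (Subgroup.center G) := hp.center_nontrivial
  have hc1 : 1 < Nat.card (Subgroup.center G) := Finite.one_lt_card_iff_nontrivial.mpr hcn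
  have hi1 : i = 1 := by
    rcases Nat.lt_or_ge i 1 with h | h
    · have : i = 0 := by omega
      rw [hi2, this] at hc1; norm_num at hc1
    · omega
  rw [hi1, pow_one] at hi2
  have hQc : Nat.card (G ⧸ Subgroup.center G) = 2 ^ 2 := by
    have := Subgroup.card_eq_card_quotient_mul_card_subgroup (Subgroup.center G)
    rw [hG, hi2] at this
    omega
  have hQcomm : IsMulCommutative (G ⧸ Subgroup.center G) :=
    IsPGroup.isMulCommutative_of_card_eq_prime_sq hQc
  have hcle : commutator G ≤ Subgroup.center G :=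
    Cfsg.Agent.Helper4.PFour.commutator_le_of_quotient_comm _ hQcomm
  set z := a * b * a⁻¹ * b⁻¹ with hz
  have hzc : z ∈ Subgroup.center G :=
    hcle (Cfsg.Agent.Helper4.PFour.comm_mem_commutator a b)
  have hz1 : z ≠ 1 := by
    intro h
    apply hab
    have : a * b = z * (b * a) := by rw [hz]; group
    rw [this, h, one_mul]
  have hle : Subgroup.zpowers z ≤ Subgroup.center G := Subgroup.zpowers_le.mpr hzc
  have hcz : Nat.card (Subgroup.zpowers z) ≤ 2 := by
    rw [← hi2]; exact Subgroup.card_le_of_le hle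
  have hord : orderOf z = 2 := by
    rw [Nat.card_zpowers] at hcz
    have h0 : 0 < orderOf z := orderOf_pos z
    have h1 : orderOf z ≠ 1 := fun h => hz1 (orderOf_eq_one_iff.mp h)
    omega
  have heq : Subgroup.zpowers z = Subgroup.center G := by
    apply Subgroup.eq_of_le_of_card_ge hle
    rw [Nat.card_zpowers, hord, hi2]
  have hz2 : z ^ 2 = 1 := by rw [← hord]; exact pow_orderOf_eq_one z
  have hmem : ∀ x : G, x ∈ Subgroup.center G → x = 1 ∨ x = z := by
    intro x hx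
    rw [← heq] at hx
    exact Cfsg.Agent.Helper1.mem_zpowers_of_sq_eq_one hz2 hx
  refine ⟨hz1, hz2, fun x => Subgroup.mem_center_iff.mp hzc x, ?_, ?_, ?_⟩
  · intro x hx
    apply hmem
    rw [Subgroup.mem_center_iff]
    intro g
    exact (hx g).symm
  · intro x
    apply hmem
    have h4 : ((x : G ⧸ Subgroup.center G)) ^ 4 = 1 := by
      have := pow_card_eq_one' (G := G ⧸ Subgroup.center G) (x := (x : G ⧸ Subgroup.center G))
      rw [hQc] at this
      exact this
    have hdvd : orderOf (x : G ⧸ Subgroup.center G) ∣ 2 ^ 2 := orderOf_dvd_of_pow_eq_one h4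
    obtain ⟨k, hk, hk2⟩ := (Nat.dvd_prime_pow Nat.prime_two).mp hdvd
    have hk1 : k ≤ 1 := by
      by_contra hlt
      have hk2' : k = 2 := by omega
      rw [hk2'] at hk2
      have hcyc : IsCyclic (G ⧸ Subgroup.center G) :=
        isCyclic_of_orderOf_eq_card (x : G ⧸ Subgroup.center G) (by rw [hk2, hQc])
      exact hna (MonoidHom.isMulCommutative_of_isCyclic_of_ker_le_center
        (QuotientGroup.mk' (Subgroup.center G)) (by rw [QuotientGroup.ker_mk']))
    have hx2 : (x : G ⧸ Subgroup.center G) ^ 2 = 1 := by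
      apply orderOf_dvd_iff_pow_eq_one.mp
      rw [hk2]
      exact pow_dvd_pow 2 hk1
    rw [← QuotientGroup.mk_pow] at hx2
    exact (QuotientGroup.eq_one_iff _).mp hx2
  · intro x y
    apply hmem
    exact hcle (Cfsg.Agent.Helper4.PFour.comm_mem_commutator x y)

/-- structure of a nonabelian subgroup of order eight -/
theorem q_structure {S : Type*} [Group S] [Finite S] (Q : Subgroup S) (hQ : Nat.card Q = 8)
    (a b : S) (ha : a ∈ Q) (hb : b ∈ Q) (hab : a * b ≠ b * a) :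
    (a * b * a⁻¹ * b⁻¹ ∈ Q) ∧ (a * b * a⁻¹ * b⁻¹ ≠ 1) ∧ ((a * b * a⁻¹ * b⁻¹) ^ 2 = 1) ∧
      (∀ x ∈ Q, x * (a * b * a⁻¹ * b⁻¹) = (a * b * a⁻¹ * b⁻¹) * x) ∧
      (∀ x ∈ Q, (∀ y ∈ Q, x * y = y * x) → x = 1 ∨ x = a * b * a⁻¹ * b⁻¹) ∧
      (∀ x ∈ Q, x ^ 2 = 1 ∨ x ^ 2 = a * b * a⁻¹ * b⁻¹) ∧
      (∀ x ∈ Q, ∀ y ∈ Q, x * y * x⁻¹ * y⁻¹ = 1 ∨ x * y * x⁻¹ * y⁻¹ = a * b * a⁻¹ * b⁻¹) := by
  have hab' : (⟨a, ha⟩ : Q) * ⟨b, hb⟩ ≠ ⟨b, hb⟩ * ⟨a, ha⟩ := by
    intro h
    exact hab (congrArg Subtype.val h)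
  obtain ⟨h1, h2, h3, h4, h5, h6⟩ := q_structure_type hQ ⟨a, ha⟩ ⟨b, hb⟩ hab'
  have hzQ : a * b * a⁻¹ * b⁻¹ ∈ Q :=
    Q.mul_mem (Q.mul_mem (Q.mul_mem ha hb) (Q.inv_mem ha)) (Q.inv_mem hb)
  refine ⟨hzQ, ?_, ?_, ?_, ?_, ?_, ?_⟩
  · intro h
    exact h1 (Subtype.ext h)
  · exact congrArg Subtype.val h2
  · intro x hx
    exact congrArg Subtype.val (h3 ⟨x, hx⟩)
  · intro x hx hc
    rcases h4 ⟨x, hx⟩ (fun y => Subtype.ext (hc y y.2)) with h | h
    · left; exact congrArg Subtype.val h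
    · right; exact congrArg Subtype.val h
  · intro x hx
    rcases h5 ⟨x, hx⟩ with h | h
    · left; exact congrArg Subtype.val h
    · right; exact congrArg Subtype.val h
  · intro x hx y hy
    rcases h6 ⟨x, hx⟩ ⟨y, hy⟩ with h | h
    · left; exact congrArg Subtype.val h
    · right; exact congrArg Subtype.val h

/-- a subgroup of a group of order eight containing two non-commuting elements is everything -/
theorem eq_of_noncomm {S : Type*} [Group S] [Finite S] (Q K : Subgroup S) (hQ : Nat.card Q = 8)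
    (hKQ : K ≤ Q) (a b : S) (ha : a ∈ K) (hb : b ∈ K) (hab : a * b ≠ b * a) : K = Q := by
  have : Fact (Nat.Prime 2) := ⟨Nat.prime_two⟩
  have hdvd : Nat.card K ∣ 2 ^ 3 := by
    have := Subgroup.card_dvd_of_le hKQ
    rw [hQ] at this
    exact this
  obtain ⟨k, hk, hk2⟩ := (Nat.dvd_prime_pow Nat.prime_two).mp hdvd
  have hcomm_of : IsMulCommutative K → False := by
    intro h
    apply hab
    exact congrArg Subtype.val (h.is_comm.comm ⟨a, ha⟩ ⟨b, hb⟩)
  have hk3 : k = 3 := by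
    by_contra hne
    apply hcomm_of
    have hk' : k = 0 ∨ k = 1 ∨ k = 2 := by omega
    rcases hk' with h | h | h
    · rw [h, pow_zero] at hk2
      have hsub : Subsingleton K := Finite.card_le_one_iff_subsingleton.mp hk2.le
      exact ⟨⟨fun x y => Subsingleton.elim _ _⟩⟩
    · rw [h, pow_one] at hk2
      have hcyc : IsCyclic K := isCyclic_of_prime_card (p := 2) hk2
      exact ⟨⟨fun x y => by
        obtain ⟨g, hg⟩ := hcyc.exists_generator
        obtain ⟨m, rfl⟩ := Subgroup.mem_zpowers_iff.mp (hg x)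
        obtain ⟨n, rfl⟩ := Subgroup.mem_zpowers_iff.mp (hg y)
        rw [← zpow_add, ← zpow_add, add_comm]⟩⟩
    · rw [h] at hk2
      exact IsPGroup.isMulCommutative_of_card_eq_prime_sq hk2
  apply Subgroup.eq_of_le_of_card_ge hKQ
  rw [hk2, hk3, hQ]; norm_num

/-- an element centralizing a nonabelian subgroup of order eight, with square in its centre,
lies in the subgroup -/
theorem lemmaC {S : Type*} [Group S] [Finite S] (hS : NoE8 S) (Q : Subgroup S)
    (hQ : Nat.card Q = 8) (z : S) (hzQ : z ∈ Q) (hz1 : z ≠ 1) (hz2 : z ^ 2 = 1)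
    (hzc : ∀ x ∈ Q, x * z = z * x) (hsq : ∀ x ∈ Q, x ^ 2 = 1 ∨ x ^ 2 = z)
    (hcomm : ∀ x ∈ Q, ∀ y ∈ Q, x * y * x⁻¹ * y⁻¹ = 1 ∨ x * y * x⁻¹ * y⁻¹ = z)
    (c : S) (hc : ∀ x ∈ Q, x * c = c * x) (hc2 : c ^ 2 = 1 ∨ c ^ 2 = z) : c ∈ Q := by
  by_contra hcQ
  apply hS
  have hcomm' : ∀ (m : Q) (n : Subgroup.zpowers c),
      Commute (Q.subtype m) ((Subgroup.zpowers c).subtype n) := by
    rintro ⟨m, hm⟩ ⟨n, hn⟩
    obtain ⟨k, rfl⟩ := Subgroup.mem_zpowers_iff.mp hn
    show Commute m (c ^ k)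
    exact Commute.zpow_right (hc m hm) k
  set φ := MonoidHom.noncommCoprod Q.subtype (Subgroup.zpowers c).subtype hcomm' with hφ
  have hφa : ∀ p : Q × Subgroup.zpowers c, φ p = (p.1 : S) * (p.2 : S) := fun p => rfl
  have hN1 : ∀ n ∈ Subgroup.zpowers z, n = 1 ∨ n = z := fun n hn =>
    Cfsg.Agent.Helper1.mem_zpowers_of_sq_eq_one hz2 hn
  have hNmem : ∀ n : S, n = 1 ∨ n = z → n ∈ Subgroup.zpowers z := by
    rintro n (rfl | rfl)
    · exact one_mem _
    · exact Subgroup.mem_zpowers _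
  have hQle : Q ≤ φ.range := by
    intro x hx
    exact ⟨(⟨x, hx⟩, 1), by rw [hφa]; simp⟩
  have hcr : c ∈ φ.range := ⟨(1, ⟨c, Subgroup.mem_zpowers c⟩), by rw [hφa]; simp⟩
  have hzcomm : ∀ h ∈ φ.range, h * z = z * h := by
    rintro _ ⟨⟨⟨x, hx⟩, ⟨y, hy⟩⟩, rfl⟩
    rw [hφa]
    obtain ⟨k, rfl⟩ := Subgroup.mem_zpowers_iff.mp hy
    show x * c ^ k * z = z * (x * c ^ k)
    have h1 : Commute x z := hzc x hx
    have h2 : Commute (c ^ k) z := Commute.zpow_left (hc z hzQ).symm k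
    exact (h1.mul_left h2)
  refine ⟨φ.range, Subgroup.zpowers z, ?_, ?_, ?_, ?_, ?_⟩
  · rw [Subgroup.zpowers_le]
    exact hQle hzQ
  · intro h hh n hn
    rcases hN1 n hn with rfl | rfl
    · rw [mul_one, mul_inv_cancel]; exact one_mem _
    · rw [hzcomm h hh, mul_inv_cancel_right]; exact Subgroup.mem_zpowers _
  · rintro _ ⟨p, rfl⟩ _ ⟨q, rfl⟩
    have e : φ p * φ q * (φ p)⁻¹ * (φ q)⁻¹ = φ (p * q * p⁻¹ * q⁻¹) := by
      rw [map_mul, map_mul, map_mul, map_inv, map_inv]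
    rw [e, hφa]
    have h2 : (p * q * p⁻¹ * q⁻¹).2 = 1 := by
      show p.2 * q.2 * p.2⁻¹ * q.2⁻¹ = 1
      obtain ⟨y1, hy1⟩ := p.2
      obtain ⟨y2, hy2⟩ := q.2
      obtain ⟨k, rfl⟩ := Subgroup.mem_zpowers_iff.mp hy1
      obtain ⟨l, rfl⟩ := Subgroup.mem_zpowers_iff.mp hy2
      apply Subtype.ext
      show c ^ k * c ^ l * (c ^ k)⁻¹ * (c ^ l)⁻¹ = 1
      rw [← zpow_add, add_comm, zpow_add, mul_inv_cancel_right, mul_inv_cancel]
    rw [h2]
    show ((p * q * p⁻¹ * q⁻¹).1 : S) * 1 ∈ Subgroup.zpowers z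
    rw [mul_one]
    apply hNmem
    exact hcomm p.1 p.1.2 q.1 q.1.2
  · rintro _ ⟨p, rfl⟩
    rw [← map_pow, hφa]
    show ((p.1 : S) ^ 2) * ((p.2 : S) ^ 2) ∈ Subgroup.zpowers z
    apply mul_mem
    · exact hNmem _ (hsq p.1 p.1.2)
    · obtain ⟨y, hy⟩ := p.2
      obtain ⟨k, rfl⟩ := Subgroup.mem_zpowers_iff.mp hy
      show (c ^ k) ^ 2 ∈ Subgroup.zpowers z
      have e : (c ^ k) ^ 2 = (c ^ 2) ^ k := by
        rw [← zpow_natCast (c ^ k) 2, ← zpow_mul, mul_comm, zpow_mul, zpow_natCast]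
      rw [e]
      exact Subgroup.zpow_mem _ (hNmem _ hc2) k
  · have hlt : Q < φ.range := lt_of_le_of_ne hQle (fun h => hcQ (h ▸ hcr))
    have h1 : Nat.card Q < Nat.card φ.range := by
      by_contra hge
      exact hlt.ne (Subgroup.eq_of_le_of_card_ge hQle (not_lt.mp hge))
    have h2 : Nat.card Q ∣ Nat.card φ.range := Subgroup.card_dvd_of_le hQle
    have h3 : 16 ≤ Nat.card φ.range := by
      rw [hQ] at h1 h2
      obtain ⟨t, ht⟩ := h2
      omega
    have hzle : Subgroup.zpowers z ≤ φ.range := by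
      rw [Subgroup.zpowers_le]; exact hQle hzQ
    have h4 := Subgroup.relIndex_mul_relIndex ⊥ (Subgroup.zpowers z) φ.range bot_le hzle
    rw [Subgroup.relIndex_bot_left, Subgroup.relIndex_bot_left, Nat.card_zpowers,
      orderOf_eq_prime hz2 hz1] at h4
    omega

/-- commutators in a central subgroup of order two: centralizers have index at most two -/
theorem index_centralizer_le_two {T : Type*} [Group T] [Finite T] (z : T) (hz2 : z ^ 2 = 1)
    (hzc : z ∈ Subgroup.center T)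
    (h : ∀ t₁ t₂ : T, t₁ * t₂ * t₁⁻¹ * t₂⁻¹ ∈ Subgroup.zpowers z) (w : T) :
    (Subgroup.centralizer {w}).index ≤ 2 := by
  obtain ⟨τ, hτ⟩ := Cfsg.Agent.Helper4.PFour.exists_commHom w
    (fun g => Subgroup.zpowers_le.mpr hzc (h g w))
  rw [← Cfsg.Agent.Helper4.PFour.commHom_ker w τ hτ, Subgroup.index_ker]
  have hle : τ.range ≤ Subgroup.zpowers z := by
    rintro _ ⟨g, rfl⟩
    rw [hτ]; exact h g w
  calc Nat.card τ.range ≤ Nat.card (Subgroup.zpowers z) := Subgroup.card_le_of_le hle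
    _ = orderOf z := Nat.card_zpowers z
    _ ≤ 2 := Nat.le_of_dvd (by norm_num) (orderOf_dvd_of_pow_eq_one hz2)

theorem exists_centralizing {S : Type*} [Group S] [Finite S] (T Q : Subgroup S)
    (hT : Nat.card T = 16) (hQT : Q ≤ T) (z : S) (hzQ : z ∈ Q) (hz2 : z ^ 2 = 1)
    (hzT : ∀ t ∈ T, t * z = z * t)
    (hTc : ∀ t₁ ∈ T, ∀ t₂ ∈ T, t₁ * t₂ * t₁⁻¹ * t₂⁻¹ ∈ Subgroup.zpowers z)
    (a b : S) (ha : a ∈ T) (hb : b ∈ T)
    (hcen : ∀ x ∈ Q, x * a = a * x → x * b = b * x → x = 1 ∨ x = z) :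
    ∃ c ∈ T, c ∉ Q ∧ c * a = a * c ∧ c * b = b * c := by
  by_contra hno
  push Not at hno
  have hzT' : z ∈ T := hQT hzQ
  have hz2' : (⟨z, hzT'⟩ : T) ^ 2 = 1 := Subtype.ext hz2
  have hzc' : (⟨z, hzT'⟩ : T) ∈ Subgroup.center T := by
    rw [Subgroup.mem_center_iff]
    intro g
    exact Subtype.ext (hzT g g.2)
  have hTc' : ∀ t₁ t₂ : T, t₁ * t₂ * t₁⁻¹ * t₂⁻¹ ∈ Subgroup.zpowers (⟨z, hzT'⟩ : T) := by
    intro t₁ t₂
    obtain ⟨k, hk⟩ := Subgroup.mem_zpowers_iff.mp (hTc t₁ t₁.2 t₂ t₂.2)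
    rw [Subgroup.mem_zpowers_iff]
    exact ⟨k, Subtype.ext (by simpa using hk)⟩
  have hia := index_centralizer_le_two _ hz2' hzc' hTc' ⟨a, ha⟩
  have hib := index_centralizer_le_two _ hz2' hzc' hTc' ⟨b, hb⟩
  set C : Subgroup T := Subgroup.centralizer {(⟨a, ha⟩ : T)} ⊓ Subgroup.centralizer {(⟨b, hb⟩ : T)}
    with hC
  have hCi : C.index ≤ 4 := by
    calc C.index ≤ (Subgroup.centralizer {(⟨a, ha⟩ : T)}).index *
          (Subgroup.centralizer {(⟨b, hb⟩ : T)}).index := Subgroup.index_inf_le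
      _ ≤ 2 * 2 := Nat.mul_le_mul hia hib
  have hCcard := C.card_mul_index
  rw [hT] at hCcard
  have hC4 : 4 ≤ Nat.card C := by
    by_contra hlt
    have h3 : Nat.card C ≤ 3 := by omega
    have : Nat.card C * C.index ≤ 3 * 4 := Nat.mul_le_mul h3 hCi
    omega
  have hCle : C ≤ Subgroup.zpowers (⟨z, hzT'⟩ : T) := by
    intro c hc
    rw [hC, Subgroup.mem_inf, Subgroup.mem_centralizer_singleton_iff,
      Subgroup.mem_centralizer_singleton_iff] at hc
    have h1 : (c : S) * a = a * c := congrArg Subtype.val hc.1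
    have h2 : (c : S) * b = b * c := congrArg Subtype.val hc.2
    have hcQ : (c : S) ∈ Q := by
      by_contra hcQ
      exact hno c c.2 hcQ h1 h2
    rcases hcen c hcQ h1 h2 with h | h
    · have : c = 1 := Subtype.ext h
      rw [this]; exact one_mem _
    · have : c = ⟨z, hzT'⟩ := Subtype.ext h
      rw [this]; exact Subgroup.mem_zpowers _
  have h5 : Nat.card C ≤ 2 := by
    calc Nat.card C ≤ Nat.card (Subgroup.zpowers (⟨z, hzT'⟩ : T)) := Subgroup.card_le_of_le hCle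
      _ = orderOf (⟨z, hzT'⟩ : T) := Nat.card_zpowers _
      _ ≤ 2 := Nat.le_of_dvd (by norm_num) (orderOf_dvd_of_pow_eq_one hz2')
  omega

/-- a 2-group without elementary abelian sections of order eight which contains a nonabelian
subgroup of order eight has derived subgroup of index four -/
theorem index_commutator_aux.{u} : ∀ (n : ℕ) (S : Type u) [Group S] [Finite S],
    Nat.card S ≤ n → IsPGroup 2 S → NoE8 S →
    (∃ Q : Subgroup S, Nat.card Q = 8 ∧ ∃ a ∈ Q, ∃ b ∈ Q, a * b ≠ b * a) →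
    (commutator S).index = 4 := by
  intro n
  induction n with
  | zero =>
    intro S _ _ hn _ _ _
    have := Nat.card_pos (α := S)
    omega
  | succ n ih =>
    intro S _ _ hn h2 hS ⟨Q, hQ, a, ha, b, hb, hab⟩
    have : Fact (Nat.Prime 2) := ⟨Nat.prime_two⟩
    obtain ⟨hzQ, hz1, hz2, hzc, hzcen, hsq, hcomm⟩ := q_structure Q hQ a b ha hb hab
    set z := a * b * a⁻¹ * b⁻¹ with hz
    by_cases hQtop : Q = ⊤
    · have hS8 : Nat.card S = 2 ^ 3 := by
        rw [← Subgroup.card_top (G := S), ← hQtop, hQ]; norm_num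
      have hle := Cfsg.Agent.Helper1.nilpotencyClass_le_of_card_pow 2 3 S hS8
      have : Group.IsNilpotent S := h2.isNilpotent
      have hna : ¬ Group.nilpotencyClass S ≤ 1 := by
        intro h
        have hcomm := Group.IsNilpotent.nilpotencyClass_le_one_iff.mp h
        exact hab (hcomm.is_comm.comm a b)
      exact Cfsg.Agent.Helper1.index_commutator_of_maximal_class 3 S (by norm_num) hS8 (by
        have : max 3 2 - 1 = 2 := by norm_num
        omega)
    · have hne : (⊤ : Subgroup S) ≠ ⊥ := by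
        intro h
        have hQb : Q = ⊥ := le_bot_iff.mp (h ▸ le_top)
        rw [hQb, Subgroup.card_bot] at hQ; omega
      obtain ⟨u, -, hu1, huc⟩ := Cfsg.Agent.Helper1.exists_mem_centerOmega h2 ⊤ hne
      have huc1 : ∀ g : S, g * u = u * g := Subgroup.mem_center_iff.mp huc.1
      have hu2 : u ^ 2 = 1 := huc.2
      have huQ : u ∈ Q := lemmaC hS Q hQ z hzQ hz1 hz2 hzc hsq hcomm u
        (fun x _ => huc1 x) (Or.inl hu2)
      have huz : u = z := by
        rcases hzcen u huQ (fun y _ => (huc1 y).symm) with h | h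
        · exact absurd h hu1
        · exact h
      have hzS : ∀ g : S, g * z = z * g := huz ▸ huc1
      have hzcenter : z ∈ Subgroup.center S := Subgroup.mem_center_iff.mpr hzS
      obtain ⟨m, hm⟩ := IsPGroup.iff_card.mp h2
      have hm4 : 4 ≤ m := by
        by_contra hlt
        apply hQtop
        apply Subgroup.eq_top_of_card_eq
        have hdvd : Nat.card Q ∣ Nat.card S := Subgroup.card_subgroup_dvd_card Q
        rw [hQ, hm] at hdvd
        have h3 : 3 ≤ m := (Nat.pow_dvd_pow_iff_le_right (show 1 < 2 by norm_num)).mp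
          (by simpa using hdvd)
        have hm3 : m = 3 := by omega
        rw [hQ, hm, hm3]; norm_num
      obtain ⟨T, hT, hQT⟩ := Sylow.exists_subgroup_card_pow_succ (p := 2) (n := 3)
        (by rw [hm]; exact pow_dvd_pow 2 hm4) (H := Q) (by rw [hQ]; norm_num)
      have hT16 : Nat.card T = 16 := by rw [hT]; norm_num
      have hcen2 : ∀ x : S, x * a = a * x → x * b = b * x → ∀ y ∈ Q, y * x = x * y := by
        intro x hxa hxb y hy
        have hK := eq_of_noncomm Q (Q ⊓ Subgroup.centralizer {x}) hQ inf_le_left a b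
          ⟨ha, Subgroup.mem_centralizer_singleton_iff.mpr hxa.symm⟩
          ⟨hb, Subgroup.mem_centralizer_singleton_iff.mpr hxb.symm⟩ hab
        have hy' : y ∈ Q ⊓ Subgroup.centralizer {x} := by rw [hK]; exact hy
        exact Subgroup.mem_centralizer_singleton_iff.mp hy'.2
      have hcen : ∀ x ∈ Q, x * a = a * x → x * b = b * x → x = 1 ∨ x = z :=
        fun x hx h1 h2 => hzcen x hx (fun y hy => (hcen2 x h1 h2 y hy).symm)
      by_cases hTc : ∀ t₁ ∈ T, ∀ t₂ ∈ T, t₁ * t₂ * t₁⁻¹ * t₂⁻¹ ∈ Subgroup.zpowers z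
      · exfalso
        obtain ⟨c, hcT, hcQ, hca, hcb⟩ := exists_centralizing T Q hT16 hQT z hzQ hz2
          (fun t _ => hzS t) hTc a b (hQT ha) (hQT hb) hcen
        have hrel := Subgroup.relIndex_mul_relIndex ⊥ Q T bot_le hQT
        rw [Subgroup.relIndex_bot_left, Subgroup.relIndex_bot_left, hQ, hT16] at hrel
        have hidx2 : (Q.subgroupOf T).index = 2 := by
          show Q.relIndex T = 2
          omega
        have hc2Q : c ^ 2 ∈ Q := by
          have := Subgroup.sq_mem_of_index_two hidx2 (⟨c, hcT⟩ : T)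
          rw [Subgroup.mem_subgroupOf] at this
          exact this
        have hc2 : c ^ 2 = 1 ∨ c ^ 2 = z :=
          hcen (c ^ 2) hc2Q (Commute.pow_left hca 2) (Commute.pow_left hcb 2)
        exact hcQ (lemmaC hS Q hQ z hzQ hz1 hz2 hzc hsq hcomm c
          (fun x hx => hcen2 c hca hcb x hx) hc2)
      · push Not at hTc
        obtain ⟨t₁, ht₁, t₂, ht₂, ht⟩ := hTc
        have hZn : (Subgroup.zpowers z).Normal :=
          Cfsg.Agent.Helper1.zpowers_normal_of_mem_center hzcenter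
        have hZcard : Nat.card (Subgroup.zpowers z) = 2 := by
          rw [Nat.card_zpowers, orderOf_eq_prime hz2 hz1]
        have hZT : Subgroup.zpowers z ≤ T := Subgroup.zpowers_le.mpr (hQT hzQ)
        have hrel := Subgroup.relIndex_mul_relIndex ⊥ (Subgroup.zpowers z) T bot_le hZT
        rw [Subgroup.relIndex_bot_left, Subgroup.relIndex_bot_left, hZcard, hT16] at hrel
        have hTbar : Nat.card (T.map (QuotientGroup.mk' (Subgroup.zpowers z))) = 8 := by
          rw [← Subgroup.relIndex_ker, QuotientGroup.ker_mk']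
          omega
        have hSq := Subgroup.card_eq_card_quotient_mul_card_subgroup (Subgroup.zpowers z)
        rw [hZcard] at hSq
        have hne' : (QuotientGroup.mk' (Subgroup.zpowers z) t₁) *
            (QuotientGroup.mk' (Subgroup.zpowers z) t₂) ≠
            (QuotientGroup.mk' (Subgroup.zpowers z) t₂) *
            (QuotientGroup.mk' (Subgroup.zpowers z) t₁) := by
          intro h
          apply ht
          apply (QuotientGroup.eq_one_iff _).mp
          show QuotientGroup.mk' (Subgroup.zpowers z) (t₁ * t₂ * t₁⁻¹ * t₂⁻¹) = 1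
          rw [map_mul, map_mul, map_mul, map_inv, map_inv, h, mul_inv_cancel_right,
            mul_inv_cancel]
        have hres := ih (S ⧸ Subgroup.zpowers z) (by omega) (h2.to_quotient _)
          (noE8_quotient _ hS)
          ⟨T.map (QuotientGroup.mk' (Subgroup.zpowers z)), hTbar, _,
            Subgroup.mem_map_of_mem _ ht₁, _, Subgroup.mem_map_of_mem _ ht₂, hne'⟩
        rw [Cfsg.Agent.Helper1.index_commutator_quotient _ (Subgroup.zpowers_le.mpr
          (Cfsg.Agent.Helper4.PFour.comm_mem_commutator a b))] at hres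
        exact hres

end Cfsg.Agent.Helper4.SecRank2
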