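import Mathlib
import Cfsg.Agent.Helper4.CycNormal2
import Cfsg.Agent.Helper4.Four
import Cfsg.Agent.Helper4.Taussky
import Cfsg.Agent.Helper1.MaxClass
import Cfsg.Agent.Lead.Quat

set_option autoImplicit false

namespace Cfsg.Agent.Helper4.SelfCent

open Cfsg.Agent.Helper4.CycNormal Cfsg.Agent.Helper4.CycNormal2 Cfsg.Agent.Helper4.Four
open scoped commutatorElement

/-- dihedral / quaternion / semidihedral relation data force `|G : G'| = 4` -/
theorem index_commutator_of_rel {G : Type*} [Group G] [Finite G] {a b : G} {N : ℕ}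
    (ha : orderOf a = 2 ^ (N + 1)) (hcard : Nat.card G = 2 ^ (N + 2))
    (hb : b ∉ Subgroup.zpowers a)
    (hconj : b * a * b⁻¹ = a⁻¹ ∨ (2 ≤ N ∧ b * a * b⁻¹ = a⁻¹ * a ^ (2 ^ N))) :
    (commutator G).index = 4 := by
  have haN : a ^ (2 ^ (N + 1)) = 1 := by rw [← ha]; exact pow_orderOf_eq_one a
  have hAidx : (Subgroup.zpowers a).index = 2 := by
    have := (Subgroup.zpowers a).card_mul_index
    rw [Nat.card_zpowers, ha, hcard] at this
    have e : 2 ^ (N + 2) = 2 ^ (N + 1) * 2 := by ring
    have hpos : 0 < 2 ^ (N + 1) := by positivity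
    rw [e] at this
    exact Nat.eq_of_mul_eq_mul_left hpos this
  have hAcomm : ∀ c ∈ Subgroup.zpowers a, ∀ d ∈ Subgroup.zpowers a, c * d = d * c := by
    intro c hc d hd
    obtain ⟨i, rfl⟩ := Subgroup.mem_zpowers_iff.mp hc
    obtain ⟨j, rfl⟩ := Subgroup.mem_zpowers_iff.mp hd
    exact (Commute.zpow_zpow_self a i j).eq
  have hsq : b * a ^ 2 * b⁻¹ = (a ^ 2)⁻¹ := by
    rw [← conj_pow]
    rcases hconj with h | ⟨hN, h⟩
    · rw [h, inv_pow]
    · rw [h, ((Commute.refl a).inv_left.pow_right _).mul_pow, ← pow_mul, ← pow_succ, haN, mul_one,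
        inv_pow]
  have hform : ∀ s : G, s ∈ Subgroup.zpowers a ∨ s * b⁻¹ ∈ Subgroup.zpowers a := by
    intro s
    by_cases hs : s ∈ Subgroup.zpowers a
    · exact Or.inl hs
    · right
      have := (Subgroup.mul_mem_iff_of_index_two hAidx (a := s) (b := b⁻¹))
      rw [this]
      constructor
      · intro h; exact (hs h).elim
      · intro h; exact (hb (by simpa using h)).elim
  have hNn : (Subgroup.zpowers (a ^ 2)).Normal := by
    constructor
    intro t ht g
    obtain ⟨i, rfl⟩ := Subgroup.mem_zpowers_iff.mp ht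
    have key : g * a ^ 2 * g⁻¹ = a ^ 2 ∨ g * a ^ 2 * g⁻¹ = (a ^ 2)⁻¹ := by
      rcases hform g with hg | hg
      · left
        obtain ⟨j, rfl⟩ := Subgroup.mem_zpowers_iff.mp hg
        have : Commute (a ^ j) (a ^ 2) := (Commute.refl a).zpow_left j |>.pow_right _
        rw [this.eq, mul_inv_cancel_right]
      · right
        obtain ⟨j, hj⟩ := Subgroup.mem_zpowers_iff.mp hg
        have hg' : g = a ^ j * b := by rw [hj]; group
        rw [hg']
        have : Commute (a ^ j) (a ^ 2)⁻¹ := ((Commute.refl a).zpow_left j |>.pow_right _).inv_right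
        calc a ^ j * b * a ^ 2 * (a ^ j * b)⁻¹
            = a ^ j * (b * a ^ 2 * b⁻¹) * (a ^ j)⁻¹ := by group
          _ = (a ^ 2)⁻¹ := by rw [hsq, this.eq, mul_inv_cancel_right]
    have e : g * (a ^ 2) ^ i * g⁻¹ = (g * a ^ 2 * g⁻¹) ^ i := by rw [conj_zpow]
    rw [e]
    rcases key with h | h
    · rw [h]; exact zpow_mem (Subgroup.mem_zpowers _) i
    · rw [h]; exact zpow_mem (inv_mem (Subgroup.mem_zpowers _)) i
  have hle : commutator G ≤ Subgroup.zpowers (a ^ 2) := by
    apply Cfsg.Agent.Helper4.Taussky.commutator_le_of_index_two (Subgroup.zpowers a) hAidx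
      hAcomm b hb
    intro c hc
    obtain ⟨j, rfl⟩ := Subgroup.mem_zpowers_iff.mp hc
    rcases hconj with h | ⟨hN, h⟩
    · have h1 : b * (a ^ j)⁻¹ * b⁻¹ = a ^ j := by
        rw [← zpow_neg, conj_zpow' h, inv_zpow, zpow_neg, inv_inv]
      have h3 : a ^ j * b * (a ^ j)⁻¹ * b⁻¹ = (a ^ 2) ^ j := by
        calc a ^ j * b * (a ^ j)⁻¹ * b⁻¹ = a ^ j * (b * (a ^ j)⁻¹ * b⁻¹) := by group
          _ = (a ^ 2) ^ j := by
            rw [h1, ← zpow_natCast, ← zpow_mul, ← zpow_add]
            congr 1
            push_cast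
            ring
      rw [h3]
      exact zpow_mem (Subgroup.mem_zpowers _) _
    · obtain ⟨N', rfl⟩ : ∃ N', N = N' + 1 := ⟨N - 1, by omega⟩
      have h0 : a⁻¹ * a ^ (2 ^ (N' + 1)) = a ^ ((2 : ℤ) ^ (N' + 1) - 1) := by
        rw [zpow_sub, zpow_one, z_zpow]
        exact ((Commute.refl a).inv_left.pow_right _).eq
      have h1 : b * (a ^ j)⁻¹ * b⁻¹ = (a ^ ((2 : ℤ) ^ (N' + 1) - 1)) ^ (-j) := by
        rw [← zpow_neg, conj_zpow' h, h0]
      have h3 : a ^ j * b * (a ^ j)⁻¹ * b⁻¹ = (a ^ 2) ^ (j - j * 2 ^ N') := by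
        calc a ^ j * b * (a ^ j)⁻¹ * b⁻¹ = a ^ j * (b * (a ^ j)⁻¹ * b⁻¹) := by group
          _ = (a ^ 2) ^ (j - j * 2 ^ N') := by
            rw [h1, ← zpow_natCast, ← zpow_mul, ← zpow_mul, ← zpow_add]
            congr 1
            push_cast
            ring
      rw [h3]
      exact zpow_mem (Subgroup.mem_zpowers _) _
  have hmem : b * a * b⁻¹ * a⁻¹ ∈ commutator G := by
    rw [_root_.commutator_def]
    exact Subgroup.commutator_mem_commutator (Subgroup.mem_top b) (Subgroup.mem_top a)
  have hge : Subgroup.zpowers (a ^ 2) ≤ commutator G := by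
    rw [Subgroup.zpowers_le]
    rcases hconj with h | ⟨hN, h⟩
    · rw [h] at hmem
      have e : a ^ 2 = (a⁻¹ * a⁻¹)⁻¹ := by group
      rw [e]; exact inv_mem hmem
    · obtain ⟨N', rfl⟩ : ∃ N', N = N' + 2 := ⟨N - 2, by omega⟩
      rw [h] at hmem
      have e1 : a⁻¹ * a ^ (2 ^ (N' + 2)) * a⁻¹ = a ^ ((2 : ℤ) ^ (N' + 2) - 2) := by
        rw [← z_zpow, ← zpow_neg_one, ← zpow_add, ← zpow_add]
        congr 1
        ring
      rw [e1] at hmem
      have e2 : a ^ 2 = (a ^ ((2 : ℤ) ^ (N' + 2) - 2)) ^ (-1 - (2 : ℤ) ^ (N' + 1)) := by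
        rw [← zpow_mul, ← zpow_natCast]
        apply zpow_of_dvd_sub ha
        refine ⟨2 ^ N', ?_⟩
        push_cast
        ring
      rw [e2]; exact zpow_mem hmem _
  have heq : commutator G = Subgroup.zpowers (a ^ 2) := le_antisymm hle hge
  have hord : orderOf (a ^ 2) = 2 ^ N := by
    rw [orderOf_pow' a (by norm_num : (2 : ℕ) ≠ 0), ha]
    have hg : Nat.gcd (2 ^ (N + 1)) 2 = 2 := Nat.gcd_eq_right (dvd_pow_self 2 (by omega))
    rw [hg, pow_succ, Nat.mul_div_cancel _ (by norm_num : 0 < 2)]
  have := (commutator G).card_mul_index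
  rw [heq, Nat.card_zpowers, hord, hcard] at this
  rw [heq]
  have e : 2 ^ (N + 2) = 2 ^ N * 4 := by ring
  have hpos : 0 < 2 ^ N := by positivity
  rw [e] at this
  exact Nat.eq_of_mul_eq_mul_left hpos this

/-- small cases of the lower central series statement -/
theorem lcs_ne_bot_small {G : Type*} [Group G] (hna : ¬ IsMulCommutative G) (n : ℕ) (hn : n ≤ 3) :
    (⊤ : Subgroup G).lowerCentralSeries (n - 2) ≠ ⊥ := by
  have hcom : commutator G ≠ ⊥ := by
    intro h
    apply hna
    rw [commutator_eq_bot_iff_center_eq_top] at h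
    refine ⟨⟨fun x y => ?_⟩⟩
    have hy : y ∈ Subgroup.center G := by rw [h]; exact Subgroup.mem_top y
    exact Subgroup.mem_center_iff.mp hy x
  rcases Nat.lt_or_ge n 3 with h | h
  · have e : n - 2 = 0 := by omega
    rw [e, Subgroup.lowerCentralSeries_zero]
    intro htop
    apply hcom
    rw [eq_bot_iff]
    intro x _
    have : x ∈ (⊤ : Subgroup G) := Subgroup.mem_top x
    rw [htop] at this
    exact this
  · have e : n - 2 = 1 := by omega
    rw [e, Subgroup.top_lowerCentralSeries_one]
    exact hcom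

/-- a noncyclic abelian `2`-subgroup contains two distinct involutions -/
theorem exists_two_involutions {G : Type*} [Group G] [Finite G] (hP : IsPGroup 2 G)
    (A : Subgroup G) (hAc : ∀ x ∈ A, ∀ y ∈ A, x * y = y * x) (hAcyc : ¬ IsCyclic A) :
    ∃ s t : G, s ∈ A ∧ t ∈ A ∧ s ≠ 1 ∧ t ≠ 1 ∧ s * s = 1 ∧ t * t = 1 ∧ s ≠ t := by
  by_contra hcon
  push Not at hcon
  have hPA : IsPGroup 2 A := hP.to_subgroup A
  have hkey : ∀ H : Subgroup A, Nat.card H = 2 → ∃ s : A, s ≠ 1 ∧ s * s = 1 ∧
      H = Subgroup.zpowers s := by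
    intro H hH
    obtain ⟨s, hsH, hs1⟩ := exists_ne_one H (by omega)
    have hs2 : s ^ 2 = 1 := by
      have := Subgroup.orderOf_dvd_natCard H hsH
      rw [hH] at this
      exact orderOf_dvd_iff_pow_eq_one.mp this
    refine ⟨s, hs1, by rw [← pow_two]; exact hs2, ?_⟩
    symm
    apply Subgroup.eq_of_le_of_card_ge (Subgroup.zpowers_le.mpr hsH)
    rw [Nat.card_zpowers, orderOf_eq_prime hs2 hs1, hH]
  rcases Cfsg.Agent.Lead.cyclic_or_quaternion_of_unique_involution hPA (by
    intro H K hH hK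
    obtain ⟨s, hs1, hss, rfl⟩ := hkey H hH
    obtain ⟨t, ht1, htt, rfl⟩ := hkey K hK
    have hs1' : (s : G) ≠ 1 := fun h => hs1 (Subtype.ext h)
    have ht1' : (t : G) ≠ 1 := fun h => ht1 (Subtype.ext h)
    have hss' : (s : G) * (s : G) = 1 := congrArg Subtype.val hss
    have htt' : (t : G) * (t : G) = 1 := congrArg Subtype.val htt
    have := hcon s.1 t.1 s.2 t.2 hs1' ht1' hss' htt'
    rw [Subtype.ext this]) with h | ⟨k, ⟨e⟩⟩
  · exact hAcyc h
  · have hcomm : ∀ x y : QuaternionGroup (2 ^ k), x * y = y * x := by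
      intro x y
      have h1 := hAc (e.symm x).1 (e.symm x).2 (e.symm y).1 (e.symm y).2
      have h2 : e.symm x * e.symm y = e.symm y * e.symm x := Subtype.ext h1
      rw [← map_mul, ← map_mul] at h2
      exact e.symm.injective h2
    have h3 := hcomm (QuaternionGroup.a 1) (QuaternionGroup.xa 0)
    rw [QuaternionGroup.a_mul_xa, QuaternionGroup.xa_mul_a] at h3
    have h4 : (0 - 1 : ZMod (2 * 2 ^ k)) = 0 + 1 := by
      injection h3
    have h5 : ((2 : ℕ) : ZMod (2 * 2 ^ k)) = 0 := by
      have : (2 : ZMod (2 * 2 ^ k)) = 0 := by linear_combination -h4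
      exact_mod_cast this
    rw [ZMod.natCast_eq_zero_iff] at h5
    have h6 := Nat.le_of_dvd (by norm_num) h5
    have hk0 : k = 0 := by
      by_contra hk
      have : 2 ^ 1 ≤ 2 ^ k := Nat.pow_le_pow_right (by norm_num) (by omega)
      omega
    subst hk0
    have hcyc : IsCyclic (QuaternionGroup (2 ^ 0)) := QuaternionGroup.quaternionGroup_one_isCyclic
    exact hAcyc (isCyclic_of_surjective e.symm e.symm.surjective)

/-- forward direction: self-centralising noncyclic subgroups force maximal class -/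
theorem forward {G : Type*} [Group G] [Finite G] (hna : ¬ IsMulCommutative G) (n : ℕ)
    (hG : Nat.card G = 2 ^ n)
    (hstar : ∀ H : Subgroup G, ¬ IsCyclic ↥H → Subgroup.centralizer (H : Set G) ≤ H) :
    (⊤ : Subgroup G).lowerCentralSeries (n - 2) ≠ ⊥ := by
  have hfact : Fact (Nat.Prime 2) := ⟨Nat.prime_two⟩
  have hP : IsPGroup 2 G := IsPGroup.of_card hG
  by_cases hn3 : n ≤ 3
  · exact lcs_ne_bot_small hna n hn3
  push Not at hn3
  obtain ⟨A, -, hAmax⟩ := Finite.exists_le_maximal (α := Subgroup G)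
    (p := fun A => A.Normal ∧ ∀ x ∈ A, ∀ y ∈ A, x * y = y * x) (a := ⊥)
    ⟨inferInstance, by
      intro x hx y hy
      rw [Subgroup.mem_bot] at hx hy
      rw [hx, hy]⟩
  obtain ⟨⟨hAn, hAc⟩, hAm⟩ := hAmax
  have hC : Subgroup.centralizer (A : Set G) = A := by
    apply le_antisymm
    · exact Cfsg.Agent.Lead.centralizer_le_of_maximal_normal_abelian 2 hP A hAc
        (fun B hBn hBc hAB => le_antisymm (hAm ⟨hBn, hBc⟩ hAB) hAB)
    · intro x hx
      exact Subgroup.mem_centralizer_iff.mpr (fun y hy => hAc y hy x hx)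
  by_cases hAcyc : IsCyclic A
  · -- cyclic case
    obtain ⟨a, haA, hAz⟩ : ∃ a : G, a ∈ A ∧ A = Subgroup.zpowers a := by
      obtain ⟨g, hg⟩ := hAcyc.exists_generator
      refine ⟨g, g.2, ?_⟩
      ext x
      constructor
      · intro hx
        obtain ⟨k, hk⟩ := Subgroup.mem_zpowers_iff.mp (hg ⟨x, hx⟩)
        exact Subgroup.mem_zpowers_iff.mpr ⟨k, by
          have := congrArg Subtype.val hk
          simpa using this⟩
      · intro hx
        obtain ⟨k, rfl⟩ := Subgroup.mem_zpowers_iff.mp hx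
        exact zpow_mem g.2 k
    subst hAz
    obtain ⟨m, hm⟩ := IsPGroup.iff_card.mp (hP.to_subgroup (Subgroup.zpowers a))
    have ha : orderOf a = 2 ^ m := by rw [← Nat.card_zpowers, hm]
    have hnorm : ∀ g : G, g * a * g⁻¹ ∈ Subgroup.zpowers a := fun g => hAn.conj_mem _ haA g
    have hcent : ∀ g : G, g * a = a * g → g ∈ Subgroup.zpowers a := by
      intro g hg
      rw [← hC, Subgroup.mem_centralizer_iff]
      intro u hu
      rw [SetLike.mem_coe] at hu
      obtain ⟨i, rfl⟩ := Subgroup.mem_zpowers_iff.mp hu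
      exact ((Commute.zpow_right (show Commute g a from hg) i).eq).symm
    obtain ⟨g₁, hg₁⟩ : ∃ g : G, g ∉ Subgroup.zpowers a := by
      by_contra hcon
      push Not at hcon
      apply hna
      refine ⟨⟨fun x y => ?_⟩⟩
      obtain ⟨i, rfl⟩ := Subgroup.mem_zpowers_iff.mp (hcon x)
      obtain ⟨j, rfl⟩ := Subgroup.mem_zpowers_iff.mp (hcon y)
      exact (Commute.zpow_zpow_self a i j).eq
    have hm2 : 2 ≤ m := by
      by_contra hlt
      apply hg₁
      apply hcent
      have ha2 : a ^ 2 = 1 := by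
        have : orderOf a ∣ 2 := by
          rw [ha]
          have : 2 ^ m ∣ 2 ^ 1 := pow_dvd_pow 2 (by omega)
          simpa using this
        exact orderOf_dvd_iff_pow_eq_one.mp this
      obtain ⟨i, hi⟩ := Subgroup.mem_zpowers_iff.mp (hnorm g₁)
      have haa : a * a = 1 := by rw [← pow_two]; exact ha2
      rcases sq_zpow_cases haa i with h | h
      · rw [h] at hi
        have : a = 1 := by
          have e : a = g₁⁻¹ * (g₁ * a * g₁⁻¹) * g₁ := by group
          rw [e, ← hi]; group
        rw [this, mul_one, one_mul]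
      · rw [h] at hi
        exact mul_inv_eq_iff_eq_mul.mp hi.symm
    obtain ⟨N, rfl⟩ : ∃ N, m = N + 1 := ⟨m - 1, by omega⟩
    have hN : 1 ≤ N := by omega
    have hnB : ¬ (2 ≤ N ∧ ∃ g : G, g * a * g⁻¹ = a * a ^ (2 ^ N)) := by
      rintro ⟨hN2, g, hg⟩
      have hz := z_sq ha
      have hgM : g * a ^ 2 = a ^ 2 * g := by
        have : g * a ^ 2 * g⁻¹ = a ^ 2 := by
          rw [← conj_pow, hg, ((Commute.refl a).pow_right _).mul_pow, pow_two (a ^ (2 ^ N)), hz,
            mul_one]
        exact mul_inv_eq_iff_eq_mul.mp this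
      have hgU : g ∉ Subgroup.zpowers a := by
        intro hmem
        have h1 : g * a * g⁻¹ = a := by
          obtain ⟨i, rfl⟩ := Subgroup.mem_zpowers_iff.mp hmem
          rw [((Commute.refl a).zpow_left i).eq, mul_inv_cancel_right]
        rw [h1] at hg
        exact z_ne_one ha (mul_eq_left.mp hg.symm)
      have hdiv : 2 ∣ 2 ^ (N - 1) * Nat.choose 2 2 := by
        obtain ⟨N'', rfl⟩ : ∃ N'', N = N'' + 2 := ⟨N - 2, by omega⟩
        exact Dvd.dvd.mul_right (dvd_pow_self 2 (by omega)) _
      obtain ⟨x, hxM, hxU, hx2⟩ := exists_x (p := 2) ha hN hdiv hnorm hcent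
        (Subgroup.centralizer {a ^ 2})
        (fun m => Subgroup.mem_centralizer_singleton_iff) g
        (Subgroup.mem_centralizer_singleton_iff.mpr hgM) hgU
      have hxa2 : x * a ^ 2 = a ^ 2 * x := Subgroup.mem_centralizer_singleton_iff.mp hxM
      have hxx : x * x = 1 := by rw [← pow_two]; exact hx2
      have hzpow : a ^ (2 ^ N) = (a ^ 2) ^ (2 ^ (N - 1)) := by
        rw [← pow_mul, ← pow_succ']
        congr 2
        omega
      have hzx : a ^ (2 ^ N) * x = x * a ^ (2 ^ N) := by
        rw [hzpow]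
        exact ((show Commute x (a ^ 2) from hxa2).pow_right _).eq.symm
      have hx1 : x ≠ 1 := fun h => hxU (h ▸ one_mem _)
      have hne : a ^ (2 ^ N) ≠ x := fun h => hxU (h ▸ pow_mem (Subgroup.mem_zpowers a) _)
      have hVkf := four_isKleinFour (hx := hz) (hy := hxx) (hxy := hzx) (z_ne_one ha) hx1 hne
      have hCV := hstar _ hVkf.not_isCyclic
      have hmem : a ^ 2 ∈ four (a ^ (2 ^ N)) x hz hxx hzx := by
        apply hCV
        rw [Subgroup.mem_centralizer_iff]
        intro v hv
        refine (four_commute hv ?_ hxa2.symm).symm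
        exact ((Commute.refl a).pow_pow 2 (2 ^ N)).eq
      have h4 : 2 ^ 2 ≤ 2 ^ N := Nat.pow_le_pow_right (by norm_num) hN2
      have h5 : 2 ^ (N + 1) = 2 * 2 ^ N := by ring
      rcases mem_four.mp hmem with h | h | h | h
      · have := orderOf_dvd_of_pow_eq_one h
        rw [ha] at this
        have := Nat.le_of_dvd (by norm_num) this
        omega
      · have h6 := pow_eq_pow_iff_modEq.mp h
        rw [ha] at h6
        unfold Nat.ModEq at h6
        rw [Nat.mod_eq_of_lt (by omega), Nat.mod_eq_of_lt (by omega)] at h6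
        omega
      · exact hxU (h ▸ pow_mem (Subgroup.mem_zpowers a) _)
      · apply hxU
        have e : x = (a ^ (2 ^ N))⁻¹ * a ^ 2 := by rw [h]; group
        rw [e]
        exact mul_mem (inv_mem (pow_mem (Subgroup.mem_zpowers a) _))
          (pow_mem (Subgroup.mem_zpowers a) _)
    obtain ⟨hcard, b, hb, hcases⟩ := caseA hP ha hN hnorm hcent hnB g₁ hg₁
    have hidx : (commutator G).index = 4 := by
      apply index_commutator_of_rel ha hcard hb
      rcases hcases with ⟨h1, h2⟩ | ⟨h1, h2⟩ | ⟨hN2, h1, h2⟩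
      · exact Or.inl h2
      · exact Or.inl h2
      · exact Or.inr ⟨hN2, h2⟩
    have hnN : n = N + 2 := Nat.pow_right_injective (le_refl 2) (hG.symm.trans hcard)
    subst hnN
    have hclass := Cfsg.Agent.Helper1.nilpotencyClass_of_index_commutator (N + 2) G (by omega)
      hG hidx
    have hnil := hP.isNilpotent
    intro hbot
    rw [Subgroup.lowerCentralSeries_eq_bot_iff_nilpotencyClass_le] at hbot
    omega
  · -- noncyclic case
    exfalso
    obtain ⟨s, t, hsA, htA, hs1, ht1, hss, htt, hst⟩ := exists_two_involutions hP A hAc hAcyc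
    have hAne : A ≠ ⊥ := fun h => hs1 (by rw [h] at hsA; exact Subgroup.mem_bot.mp hsA)
    obtain ⟨z, hzA, hz1, hzc⟩ := Cfsg.Agent.Helper1.exists_mem_centerOmega hP A hAne
    have hzcen : ∀ g : G, g * z = z * g := Subgroup.mem_center_iff.mp hzc.1
    have hzz : z * z = 1 := by rw [← pow_two]; exact hzc.2
    obtain ⟨w, hwA, hw1, hww, hwz⟩ : ∃ w ∈ A, w ≠ 1 ∧ w * w = 1 ∧ z ≠ w := by
      by_cases h : z = s
      · exact ⟨t, htA, ht1, htt, fun h' => hst (h.symm.trans h')⟩
      · exact ⟨s, hsA, hs1, hss, h⟩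
    have hzw : z * w = w * z := (hzcen w).symm
    have hVkf := four_isKleinFour (hx := hzz) (hy := hww) (hxy := hzw) hz1 hw1 hwz
    have hCV := hstar _ hVkf.not_isCyclic
    have hVA : four z w hzz hww hzw ≤ A := four_le hzA hwA
    have hAV : A ≤ four z w hzz hww hzw := by
      intro x hx
      apply hCV
      rw [Subgroup.mem_centralizer_iff]
      intro v hv
      exact hAc v (hVA hv) x hx
    have hconj : ∀ g : G, g * w * g⁻¹ = w ∨ g * w * g⁻¹ = z * w := by
      intro g
      have h1 : g * w * g⁻¹ ∈ four z w hzz hww hzw := hAV (hAn.conj_mem w hwA g)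
      rcases mem_four.mp h1 with h | h | h | h
      · exfalso; apply hw1
        have e : w = g⁻¹ * (g * w * g⁻¹) * g := by group
        rw [e, h]; group
      · exfalso; apply hwz
        have e : w = g⁻¹ * (g * w * g⁻¹) * g := by group
        rw [e, h, mul_assoc, ← hzcen g, inv_mul_cancel_left]
      · exact Or.inl h
      · exact Or.inr h
    have hcw : ∀ g : G, g * w * g⁻¹ = w → g ∈ A := by
      intro g hg
      apply hVA; apply hCV
      rw [Subgroup.mem_centralizer_iff]
      intro v hv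
      have hgw : g * w = w * g := mul_inv_eq_iff_eq_mul.mp hg
      exact (four_commute hv (hzcen g) hgw).symm
    have hcardA : Nat.card A = 4 := by
      have := four_card (hx := hzz) (hy := hww) (hxy := hzw) hz1 hw1 hwz
      rw [← this]
      exact le_antisymm (Subgroup.card_le_of_le hAV) (Subgroup.card_le_of_le hVA)
    have hquot : Nat.card (G ⧸ A) ≤ 2 := by
      by_cases hall : ∀ g : G, g * w * g⁻¹ = w
      · have h1 : ∀ q : G ⧸ A, q = 1 := by
          intro q
          induction q using QuotientGroup.induction_on with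
          | H g => exact (QuotientGroup.eq_one_iff g).mpr (hcw g (hall g))
        have hsub : Subsingleton (G ⧸ A) := ⟨fun x y => by rw [h1 x, h1 y]⟩
        have := Finite.card_le_one_iff_subsingleton.mpr hsub
        omega
      · push Not at hall
        obtain ⟨g₀, hg₀⟩ := hall
        have hg₀' : g₀ * w * g₀⁻¹ = z * w := (hconj g₀).resolve_left hg₀
        have hsurj : Function.Surjective
            (fun b : Bool => if b then (1 : G ⧸ A) else (QuotientGroup.mk g₀ : G ⧸ A)) := by
          intro q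
          induction q using QuotientGroup.induction_on with
          | H g =>
            rcases hconj g with h | h
            · refine ⟨true, ?_⟩
              simp only [if_true]
              exact ((QuotientGroup.eq_one_iff g).mpr (hcw g h)).symm
            · refine ⟨false, ?_⟩
              simp only [Bool.false_eq_true, if_false]
              rw [QuotientGroup.eq]
              apply hcw
              calc g₀⁻¹ * g * w * (g₀⁻¹ * g)⁻¹ = g₀⁻¹ * (g * w * g⁻¹) * g₀ := by group
                _ = g₀⁻¹ * (g₀ * w * g₀⁻¹) * g₀ := by rw [h, hg₀']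
                _ = w := by group
        have := Nat.card_le_card_of_surjective _ hsurj
        simpa using this
    have hcardG : Nat.card G ≤ 8 := by
      rw [Subgroup.card_eq_card_quotient_mul_card_subgroup A, hcardA]
      omega
    rw [hG] at hcardG
    have : 2 ^ 4 ≤ 2 ^ n := Nat.pow_le_pow_right (by norm_num) hn3
    omega

/-- backward direction: in a `2`-group of maximal class, noncyclic subgroups are
self-centralising -/
theorem backward {G : Type*} [Group G] [Finite G] (hna : ¬ IsMulCommutative G) (n : ℕ)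
    (hG : Nat.card G = 2 ^ n) (hlcs : (⊤ : Subgroup G).lowerCentralSeries (n - 2) ≠ ⊥)
    (H : Subgroup G) (hH : ¬ IsCyclic ↥H) : Subgroup.centralizer (H : Set G) ≤ H := by
  have hfact : Fact (Nat.Prime 2) := ⟨Nat.prime_two⟩
  have hP : IsPGroup 2 G := IsPGroup.of_card hG
  have hnil := hP.isNilpotent
  have hn3 : 3 ≤ n := by
    by_contra hlt
    apply hna
    have : n = 0 ∨ n = 1 ∨ n = 2 := by omega
    rcases this with rfl | rfl | rfl
    · have hsub : Subsingleton G := Finite.card_le_one_iff_subsingleton.mp (by rw [hG]; norm_num)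
      exact ⟨⟨fun x y => Subsingleton.elim _ _⟩⟩
    · have : IsCyclic G := isCyclic_of_prime_card (p := 2) (by rw [hG]; norm_num)
      exact IsCyclic.isMulCommutative
    · exact IsPGroup.isMulCommutative_of_card_eq_prime_sq (p := 2) (by rw [hG])
  have hclass : Group.nilpotencyClass G = n - 1 := by
    have h1 := Cfsg.Agent.Helper1.nilpotencyClass_le_of_card_pow 2 n G hG
    have h2 : ¬ Group.nilpotencyClass G ≤ n - 2 := fun h =>
      hlcs (Subgroup.lowerCentralSeries_eq_bot_iff_nilpotencyClass_le.mpr h)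
    have : max n 2 = n := by omega
    omega
  have hidx := Cfsg.Agent.Helper1.index_commutator_of_maximal_class n G (by omega) hG hclass
  obtain ⟨C, hCcyc, hCidx⟩ := Cfsg.Agent.Helper1.exists_cyclic_index_two n G (by omega) hG hidx
  have hCcomm := Cfsg.Agent.Helper1.mul_comm_of_mem_cyclic C hCcyc
  obtain ⟨c, hcC, hCz⟩ : ∃ c : G, c ∈ C ∧ C = Subgroup.zpowers c := by
    obtain ⟨g, hg⟩ := hCcyc.exists_generator
    refine ⟨g, g.2, ?_⟩
    ext x
    constructor
    · intro hx
      obtain ⟨k, hk⟩ := Subgroup.mem_zpowers_iff.mp (hg ⟨x, hx⟩)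
      exact Subgroup.mem_zpowers_iff.mpr ⟨k, by
        have := congrArg Subtype.val hk
        simpa using this⟩
    · intro hx
      obtain ⟨k, rfl⟩ := Subgroup.mem_zpowers_iff.mp hx
      exact zpow_mem g.2 k
  subst hCz
  obtain ⟨m, rfl⟩ : ∃ m, n = m + 2 := ⟨n - 2, by omega⟩
  have hc : orderOf c = 2 ^ (m + 1) := by
    have := (Subgroup.zpowers c).card_mul_index
    rw [Nat.card_zpowers, hCidx, hG] at this
    have e : 2 ^ (m + 2) = 2 ^ (m + 1) * 2 := by ring
    omega
  -- an element of H outside C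
  obtain ⟨h, hhH, hhC⟩ : ∃ h ∈ H, h ∉ Subgroup.zpowers c := by
    by_contra hcon
    push Not at hcon
    exact hH (Subgroup.isCyclic_of_le (fun x hx => hcon x hx))
  obtain ⟨hZ, hZcard, -⟩ := Cfsg.Agent.Helper1.center_eq_of_abelian_index_two (m + 2) hn3 hG hidx
    (Subgroup.zpowers c) hCidx hCcomm h hhC
  -- the centre is `{1, z}` with `z = c ^ (2 ^ m)`
  have hZmem : ∀ y ∈ Subgroup.center G, y = 1 ∨ y = c ^ (2 ^ m) := by
    intro y hy
    have hyC : y ∈ Subgroup.zpowers c := by
      rw [hZ] at hy; exact hy.1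
    have hy2 : y ^ 2 = 1 := by
      have := Subgroup.orderOf_dvd_natCard _ hy
      rw [hZcard] at this
      exact orderOf_dvd_iff_pow_eq_one.mp this
    exact sq_one_mem_zpowers hc hyC (by rw [← pow_two]; exact hy2)
  -- z ∈ H
  have hzH : c ^ (2 ^ m) ∈ H := by
    by_cases hbot : ∀ x ∈ H, x ∈ Subgroup.zpowers c → x = 1
    · exfalso
      apply hH
      have hle : H ≤ Subgroup.zpowers h := by
        intro x hx
        by_cases hxC : x ∈ Subgroup.zpowers c
        · rw [hbot x hx hxC]; exact one_mem _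
        · have h1 : x * h⁻¹ ∈ Subgroup.zpowers c := by
            rw [Subgroup.mul_mem_iff_of_index_two hCidx]
            constructor
            · intro h'; exact (hxC h').elim
            · intro h'; exact (hhC (by simpa using h')).elim
          have h2 := hbot _ (mul_mem hx (inv_mem hhH)) h1
          have h3 : x = h := by rw [← mul_inv_eq_one]; exact h2
          rw [h3]; exact Subgroup.mem_zpowers h
      exact Subgroup.isCyclic_of_le hle
    · push Not at hbot
      obtain ⟨x, hxH, hxC, hx1⟩ := hbot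
      obtain ⟨k, hk⟩ := (IsPGroup.iff_orderOf.mp hP) x
      have hk0 : k ≠ 0 := by
        rintro rfl
        rw [pow_zero, orderOf_eq_one_iff] at hk
        exact hx1 hk
      obtain ⟨k', rfl⟩ : ∃ k', k = k' + 1 := ⟨k - 1, by omega⟩
      have hu1 := z_ne_one hk
      have hu2 := z_sq hk
      rcases sq_one_mem_zpowers hc (pow_mem hxC (2 ^ k')) hu2 with h' | h'
      · exact (hu1 h').elim
      · rw [← h']; exact pow_mem hxH _
  have hZH : ∀ y ∈ Subgroup.center G, y ∈ H := by
    intro y hy
    rcases hZmem y hy with rfl | rfl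
    · exact one_mem _
    · exact hzH
  intro x hx
  have hxh : h * x = x * h := Subgroup.mem_centralizer_iff.mp hx h hhH
  by_cases hxC : x ∈ Subgroup.zpowers c
  · apply hZH
    rw [hZ]
    exact ⟨hxC, Subgroup.mem_centralizer_singleton_iff.mpr hxh.symm⟩
  · have h1 : x * h⁻¹ ∈ Subgroup.zpowers c := by
      rw [Subgroup.mul_mem_iff_of_index_two hCidx]
      constructor
      · intro h'; exact (hxC h').elim
      · intro h'; exact (hhC (by simpa using h')).elim
    have h2 : x * h⁻¹ ∈ Subgroup.center G := by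
      rw [hZ]
      refine ⟨h1, Subgroup.mem_centralizer_singleton_iff.mpr ?_⟩
      rw [mul_assoc, inv_mul_cancel, mul_one, ← mul_assoc, hxh, mul_assoc, mul_inv_cancel, mul_one]
    have h3 := mul_mem (hZH _ h2) hhH
    rwa [inv_mul_cancel_right] at h3

end Cfsg.Agent.Helper4.SelfCent
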