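import Mathlib
import Cfsg.Agent.Helper1.NormRank2
import Cfsg.Agent.Helper1.MaxClass

set_option autoImplicit false

namespace Cfsg.Agent.Helper4.SelfCentOdd

/-- a subgroup strictly between a subgroup of order `p` and one of order `p²` is the big one -/
theorem eq_of_mem_not_mem {G : Type*} [Group G] [Finite G] {p : ℕ} [Fact p.Prime]
    {Z W B : Subgroup G} (hZW : Z ≤ W) (hWB : W ≤ B) (hZ : Nat.card Z = p)
    (hB : Nat.card B = p ^ 2) {w : G} (hwW : w ∈ W) (hwZ : w ∉ Z) : W = B := by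
  have hp : p.Prime := Fact.out
  apply Subgroup.eq_of_le_of_card_ge hWB
  have h1 : Nat.card W ∣ p ^ 2 := hB ▸ Subgroup.card_dvd_of_le hWB
  obtain ⟨k, hk, hk2⟩ := (Nat.dvd_prime_pow hp).mp h1
  have h2 : Nat.card Z < Nat.card W := by
    apply lt_of_le_of_ne (Subgroup.card_le_of_le hZW)
    intro heq
    have := Subgroup.eq_of_le_of_card_ge hZW heq.ge
    rw [this] at hwZ
    exact hwZ hwW
  rw [hZ, hk2] at h2
  have hk1 : 1 < k := by
    by_contra hle
    have : p ^ k ≤ p ^ 1 := Nat.pow_le_pow_right hp.pos (by omega)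
    rw [pow_one] at this
    omega
  have hk2' : k = 2 := by omega
  rw [hB, hk2, hk2']

/-- if `B` is a normal subgroup of order `p²` of a `p`-group, then `|G| ≤ p·|C_G(B)|` -/
theorem card_le_of_normal_sq {G : Type*} [Group G] [Finite G] {p : ℕ} [Fact p.Prime]
    (hG : IsPGroup p G) (B : Subgroup G) [hBn : B.Normal] (hB : Nat.card B = p ^ 2) :
    Nat.card G ≤ p * Nat.card (Subgroup.centralizer (B : Set G)) := by
  have hp : p.Prime := Fact.out
  have hBne : B ≠ ⊥ := by
    intro h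
    rw [h, Subgroup.card_bot] at hB
    have : 1 < p ^ 2 := Nat.one_lt_pow (by norm_num) hp.one_lt
    omega
  obtain ⟨z, hzB, hz1, hzc⟩ := Cfsg.Agent.Helper1.exists_mem_centerOmega hG B hBne
  have hzcen : ∀ g : G, g * z = z * g := Subgroup.mem_center_iff.mp hzc.1
  have hzord : orderOf z = p := orderOf_eq_prime hzc.2 hz1
  have hZn : (Subgroup.zpowers z).Normal := Cfsg.Agent.Helper1.zpowers_normal_of_mem_center hzc.1
  have hZcard : Nat.card (Subgroup.zpowers z) = p := by rw [Nat.card_zpowers, hzord]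
  have hZB : Subgroup.zpowers z ≤ B := Subgroup.zpowers_le.mpr hzB
  have hZcen : ∀ c ∈ Subgroup.zpowers z, ∀ g : G, g * c = c * g := by
    intro c hc g
    exact Subgroup.mem_center_iff.mp ((Subgroup.zpowers_le.mpr hzc.1) hc) g
  -- the image of B in G/Z is a nontrivial normal subgroup
  have hQ : IsPGroup p (G ⧸ Subgroup.zpowers z) := hG.to_quotient _
  have hBbar_n : (B.map (QuotientGroup.mk' (Subgroup.zpowers z))).Normal :=
    hBn.map _ (QuotientGroup.mk'_surjective _)
  have hBbar_ne : B.map (QuotientGroup.mk' (Subgroup.zpowers z)) ≠ ⊥ := by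
    intro h
    have hle : B ≤ Subgroup.zpowers z := by
      intro x hx
      have : (QuotientGroup.mk' (Subgroup.zpowers z)) x ∈
          B.map (QuotientGroup.mk' (Subgroup.zpowers z)) := Subgroup.mem_map_of_mem _ hx
      rw [h, Subgroup.mem_bot] at this
      exact (QuotientGroup.eq_one_iff x).mp this
    have := Subgroup.card_le_of_le hle
    rw [hB, hZcard, pow_two] at this
    have h2 : p * 2 ≤ p * p := Nat.mul_le_mul_left p hp.two_le
    have := hp.pos
    omega
  obtain ⟨wbar, hwB, hw1, hwc⟩ := Cfsg.Agent.Helper1.exists_mem_centerOmega hQ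
    (B.map (QuotientGroup.mk' (Subgroup.zpowers z))) hBbar_ne
  obtain ⟨w, hwBm, rfl⟩ := hwB
  have hwZ : w ∉ Subgroup.zpowers z := fun h => hw1 ((QuotientGroup.eq_one_iff w).mpr h)
  -- commutators with w are in Z
  have hcomm_w : ∀ g : G, g * w * g⁻¹ * w⁻¹ ∈ Subgroup.zpowers z := by
    intro g
    apply (QuotientGroup.eq_one_iff _).mp
    have h1 := Subgroup.mem_center_iff.mp hwc.1 (QuotientGroup.mk' (Subgroup.zpowers z) g)
    show QuotientGroup.mk' (Subgroup.zpowers z) (g * w * g⁻¹ * w⁻¹) = 1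
    rw [map_mul, map_mul, map_mul, map_inv, map_inv, h1, mul_inv_cancel_right, mul_inv_cancel]
  -- the commutator homomorphism
  obtain ⟨τ, hτ⟩ : ∃ τ : G →* G, ∀ g : G, τ g = g * w * g⁻¹ * w⁻¹ := by
    refine ⟨MonoidHom.mk' (fun g : G => g * w * g⁻¹ * w⁻¹) ?_, fun g => rfl⟩
    intro g h
    have hc := hZcen _ (hcomm_w h) g
    calc g * h * w * (g * h)⁻¹ * w⁻¹ = g * (h * w * h⁻¹ * w⁻¹) * w * g⁻¹ * w⁻¹ := by group
      _ = (h * w * h⁻¹ * w⁻¹) * g * w * g⁻¹ * w⁻¹ := by rw [hc]
      _ = g * w * g⁻¹ * w⁻¹ * (h * w * h⁻¹ * w⁻¹) := by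
        rw [hZcen _ (hcomm_w h) (g * w * g⁻¹ * w⁻¹)]; group
  have hrange : τ.range ≤ Subgroup.zpowers z := by
    rintro _ ⟨g, rfl⟩
    rw [hτ]; exact hcomm_w g
  have hker : τ.ker ≤ Subgroup.centralizer (B : Set G) := by
    intro c hc
    rw [MonoidHom.mem_ker, hτ] at hc
    have hcw : c * w = w * c := by
      have : c * w * c⁻¹ = w := by
        have e : c * w * c⁻¹ = (c * w * c⁻¹ * w⁻¹) * w := by group
        rw [e, hc, one_mul]
      exact mul_inv_eq_iff_eq_mul.mp this
    have hW : B ⊓ Subgroup.centralizer {c} = B := by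
      apply eq_of_mem_not_mem (Z := Subgroup.zpowers z) (w := w) _ inf_le_left hZcard hB _ hwZ
      · intro t ht
        exact ⟨hZB ht, Subgroup.mem_centralizer_singleton_iff.mpr (hZcen t ht c).symm⟩
      · exact ⟨hwBm, Subgroup.mem_centralizer_singleton_iff.mpr hcw.symm⟩
    rw [Subgroup.mem_centralizer_iff]
    intro b hb
    have hb' : b ∈ B ⊓ Subgroup.centralizer {c} := by rw [hW]; exact hb
    exact Subgroup.mem_centralizer_singleton_iff.mp hb'.2
  have h1 := τ.ker.card_mul_index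
  rw [Subgroup.index_ker] at h1
  rw [← h1, mul_comm]
  apply Nat.mul_le_mul
  · rw [← hZcard]; exact Subgroup.card_le_of_le hrange
  · exact Subgroup.card_le_of_le hker

end Cfsg.Agent.Helper4.SelfCentOdd
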